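import Cfsg.Agent.Lib.Core.PronormalOvergroups

/-!
# Groups with pronormal odd index subgroups and cyclic Sylow automisers

* `pronormal_of_reduce` : the reduction to elements normalising a Sylow subgroup
* `Good` : odd index subgroups are pronormal and the Sylow normalizer is cyclic of prime order, or trivial,
  modulo the Sylow subgroup
* `Good.map` : passage to quotients by `2`-subgroups
* `Good.pi` : odd index subgroups of a finite product of good groups are pronormal
-/

set_option autoImplicit false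
set_option linter.all false

namespace CfsgLib.HallGen.Pronormal

open Subgroup

universe u v w

variable {G : Type u} [Group G]

theorem map_conj_mem_iff {K : Subgroup G} {g y : G} :
    y ∈ K.map (MulAut.conj g).toMonoidHom ↔ g⁻¹ * y * g ∈ K := by
  constructor
  · rintro ⟨x, hx, rfl⟩; simpa [mul_assoc] using hx
  · exact fun h => ⟨_, h, by simp [mul_assoc]⟩

theorem pronormal_of_reduce [Finite G] {p : ℕ} [Fact p.Prime] (P : Sylow p G) (K : Subgroup G)
    (hP : (P : Subgroup G) ≤ K)
    (h : ∀ g ∈ Subgroup.normalizer ((P : Subgroup G) : Set G),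
      ∃ x ∈ K ⊔ K.map (MulAut.conj g).toMonoidHom,
        K.map (MulAut.conj x).toMonoidHom = K.map (MulAut.conj g).toMonoidHom) :
    Cfsg.IsPronormal K := by
  intro g
  set M := K ⊔ K.map (MulAut.conj g).toMonoidHom with hM
  have h1 : ((g • P : Sylow p G) : Subgroup G) ≤ M := (Subgroup.map_mono hP).trans le_sup_right
  obtain ⟨m, hm⟩ := MulAction.exists_smul_eq M ((g • P).subtype h1) (P.subtype (hP.trans le_sup_left))
  have hm' : ((m : G) * g) • P = P := by
    rw [Sylow.smul_subtype h1 m] at hm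
    rw [mul_smul]
    exact Sylow.subtype_injective hm
  have hn : (m : G) * g ∈ Subgroup.normalizer ((P : Subgroup G) : Set G) :=
    Sylow.smul_eq_iff_mem_normalizer.1 hm'
  obtain ⟨x, hx, hxe⟩ := h _ hn
  have hle : K ⊔ K.map (MulAut.conj ((m : G) * g)).toMonoidHom ≤ M := by
    refine sup_le le_sup_left fun y hy => ?_
    rw [map_conj_mem_iff] at hy
    have hmem : (m : G)⁻¹ * y * m ∈ M := Subgroup.mem_sup_right (map_conj_mem_iff.2 (by
      simpa [mul_assoc] using hy))
    have := M.mul_mem (M.mul_mem m.2 hmem) (M.inv_mem m.2)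
    simpa [mul_assoc] using this
  refine ⟨(m : G)⁻¹ * x, M.mul_mem (M.inv_mem m.2) (hle hx), ?_⟩
  rw [Core.PronormalOver.map_conj_mul, hxe, ← Core.PronormalOver.map_conj_mul, inv_mul_cancel_left]

/-- Pronormal odd index subgroups and cyclic Sylow automisers of prime order. -/
structure Good (G : Type u) [Group G] : Prop where
  pron : ∀ K : Subgroup G, ¬ 2 ∣ K.index → Cfsg.IsPronormal K
  cyc : ∀ P : Sylow 2 G, ∀ u ∈ Subgroup.normalizer ((P : Subgroup G) : Set G), u ∉ (P : Subgroup G) →
    ∀ g ∈ Subgroup.normalizer ((P : Subgroup G) : Set G), ∃ n : ℕ, g * (u ^ n)⁻¹ ∈ (P : Subgroup G)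

/-- It is enough to check one Sylow subgroup. -/
theorem good_of_sylow [Finite G] [Fact (Nat.Prime 2)] (P : Sylow 2 G)
    (hp : ∀ K : Subgroup G, (P : Subgroup G) ≤ K → Cfsg.IsPronormal K)
    (hc : ∀ u ∈ Subgroup.normalizer ((P : Subgroup G) : Set G), u ∉ (P : Subgroup G) →
      ∀ g ∈ Subgroup.normalizer ((P : Subgroup G) : Set G), ∃ n : ℕ, g * (u ^ n)⁻¹ ∈ (P : Subgroup G)) :
    Good G := by
  refine ⟨fun K hK => ?_, fun Q => ?_⟩
  · obtain ⟨Q, hQ⟩ := Core.PronormalOver.exists_sylow_le_iff.2 hK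
    obtain ⟨c, hc'⟩ := MulAction.exists_smul_eq G Q P
    refine (Core.PronormalOver.pronormal_equiv_iff (MulAut.conj c) K).1 (hp _ ?_)
    rw [← hc']
    exact Subgroup.map_mono hQ
  · obtain ⟨c, rfl⟩ := MulAction.exists_smul_eq G P Q
    intro u hu hu' g hg
    have hN : ∀ y, y ∈ ((c • P : Sylow 2 G) : Subgroup G) ↔ c⁻¹ * y * c ∈ (P : Subgroup G) :=
      fun y => map_conj_mem_iff
    have hNN : ∀ y ∈ Subgroup.normalizer (((c • P : Sylow 2 G) : Subgroup G) : Set G),
        c⁻¹ * y * c ∈ Subgroup.normalizer ((P : Subgroup G) : Set G) := by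
      intro y hy
      refine Subgroup.mem_normalizer_iff.2 fun x => ?_
      have h := Subgroup.mem_normalizer_iff.1 hy (c * x * c⁻¹)
      rw [hN, hN] at h
      simpa [mul_assoc] using h
    obtain ⟨n, hn⟩ := hc _ (hNN u hu) (fun h => hu' ((hN u).2 h)) _ (hNN g hg)
    refine ⟨n, (hN _).2 ?_⟩
    have e : (c⁻¹ * u * c) ^ n = c⁻¹ * u ^ n * c := by
      have := conj_pow (a := c⁻¹) (b := u) (i := n)
      rwa [inv_inv] at this
    rw [e] at hn
    simpa [mul_assoc] using hn

theorem Good.map [Finite G] {H : Type v} [Group H] (hG : Good G) (f : G →* H)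
    (hf : Function.Surjective f) (hker : IsPGroup 2 f.ker) : Good H := by
  haveI : Fact (Nat.Prime 2) := ⟨Nat.prime_two⟩
  haveI : Finite H := Finite.of_surjective f hf
  refine ⟨fun K hK => ?_, fun Q u hu hu' g hg => ?_⟩
  · rw [← Subgroup.map_comap_eq_self_of_surjective hf K]
    refine Core.PronormalOver.pronormal_map f hf (hG.pron _ ?_)
    rwa [Subgroup.index_comap_of_surjective _ hf]
  · obtain ⟨P, hP⟩ := (Q.isPGroup'.comap_of_ker_isPGroup f hker).exists_le_sylow
    have hPe : (P : Subgroup G) = (Q : Subgroup H).comap f := by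
      refine le_antisymm (Subgroup.map_le_iff_le_comap.1 ?_) hP
      refine (Q.is_maximal' (P.isPGroup'.map f) ?_).le
      conv_lhs => rw [← Subgroup.map_comap_eq_self_of_surjective hf (Q : Subgroup H)]
      exact Subgroup.map_mono hP
    obtain ⟨u, rfl⟩ := hf u
    obtain ⟨g, rfl⟩ := hf g
    have hN : ∀ y, f y ∈ Subgroup.normalizer ((Q : Subgroup H) : Set H) →
        y ∈ Subgroup.normalizer ((P : Subgroup G) : Set G) := by
      intro y hy
      refine Subgroup.mem_normalizer_iff.2 fun x => ?_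
      rw [hPe, Subgroup.mem_comap, Subgroup.mem_comap, map_mul, map_mul, map_inv]
      exact Subgroup.mem_normalizer_iff.1 hy (f x)
    obtain ⟨n, hn⟩ := hG.cyc P u (hN u hu) (fun h => hu' (by rw [hPe] at h; exact h)) g (hN g hg)
    refine ⟨n, ?_⟩
    rw [hPe, Subgroup.mem_comap, map_mul, map_inv, map_pow] at hn
    exact hn

theorem Good.mulEquiv [Finite G] {H : Type v} [Group H] (hG : Good G) (e : G ≃* H) : Good H :=
  hG.map e.toMonoidHom e.surjective (by
    rw [(MonoidHom.ker_eq_bot_iff e.toMonoidHom).2 e.injective]; exact IsPGroup.of_bot)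

theorem Good.pi {I : Type w} [Finite I] {A : I → Type v} [∀ a, Group (A a)] [∀ a, Finite (A a)]
    (hA : ∀ a, Good (A a)) (H : Subgroup (Π a, A a)) (hH : ¬ 2 ∣ H.index) :
    Cfsg.IsPronormal H := by
  classical
  haveI : Fact (Nat.Prime 2) := ⟨Nat.prime_two⟩
  haveI := Fintype.ofFinite I
  obtain ⟨P, hP⟩ := Core.PronormalOver.exists_sylow_le_iff.2 hH
  -- the Sylow subgroup is the product of its projections
  set Pa : ∀ a, Subgroup (A a) := fun a => (P : Subgroup (Π a, A a)).map (Pi.evalMonoidHom A a)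
  have hPpi : (P : Subgroup (Π a, A a)) = Subgroup.pi Set.univ Pa := by
    symm
    refine P.is_maximal' ?_ fun x hx a _ => ⟨x, hx, rfl⟩
    rintro ⟨x, hx⟩
    choose e he using fun a => (P.isPGroup'.map (Pi.evalMonoidHom A a)) ⟨x a, hx a trivial⟩
    refine ⟨Finset.univ.sup e, Subtype.ext (funext fun a => ?_)⟩
    have h := congrArg Subtype.val (he a)
    simp only [SubmonoidClass.coe_pow, OneMemClass.coe_one] at h
    simp only [SubmonoidClass.coe_pow, OneMemClass.coe_one, Pi.pow_apply, Pi.one_apply]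
    rw [show Finset.univ.sup e = e a + (Finset.univ.sup e - e a) by
      have := Finset.le_sup (f := e) (Finset.mem_univ a); omega, pow_add, pow_mul, h, one_pow]
  have hPsingle : ∀ a, ∀ s ∈ Pa a, Pi.mulSingle a s ∈ (P : Subgroup (Π a, A a)) := by
    intro a s hs
    rw [hPpi]
    intro b _
    by_cases hb : b = a
    · subst hb; rwa [Pi.mulSingle_eq_same]
    · rw [Pi.mulSingle_eq_of_ne hb]; exact (Pa b).one_mem
  -- each projection is a Sylow subgroup
  have hPsyl : ∀ a, ∃ Q : Sylow 2 (A a), (Q : Subgroup (A a)) = Pa a := by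
    intro a
    obtain ⟨Q, hQ⟩ := (P.isPGroup'.map (Pi.evalMonoidHom A a)).exists_le_sylow
    refine ⟨Q, le_antisymm (fun s hs => ?_) hQ⟩
    let Pa' : ∀ b, Subgroup (A b) := Function.update Pa a (Q : Subgroup (A a))
    have hle : (P : Subgroup (Π a, A a)) ≤ Subgroup.pi Set.univ Pa' := by
      intro x hx b _
      by_cases hb : b = a
      · subst hb; simp only [Pa', Function.update_self]; exact hQ ⟨x, hx, rfl⟩
      · simp only [Pa', Function.update_of_ne hb]; exact ⟨x, hx, rfl⟩
    have hp' : IsPGroup 2 (Subgroup.pi Set.univ Pa') := by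
      rintro ⟨x, hx⟩
      have hb : ∀ b, ∃ e, x b ^ 2 ^ e = 1 := fun b => by
        have hxb := hx b trivial
        by_cases hb : b = a
        · subst hb
          simp only [Pa', Function.update_self] at hxb
          obtain ⟨e, he⟩ := Q.isPGroup' ⟨_, hxb⟩
          exact ⟨e, by simpa using congrArg Subtype.val he⟩
        · simp only [Pa', Function.update_of_ne hb] at hxb
          obtain ⟨e, he⟩ := (P.isPGroup'.map (Pi.evalMonoidHom A b)) ⟨_, hxb⟩
          exact ⟨e, by simpa using congrArg Subtype.val he⟩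
      choose e he using hb
      refine ⟨Finset.univ.sup e, Subtype.ext (funext fun b => ?_)⟩
      simp only [SubmonoidClass.coe_pow, OneMemClass.coe_one, Pi.pow_apply, Pi.one_apply]
      rw [show Finset.univ.sup e = e b + (Finset.univ.sup e - e b) by
        have := Finset.le_sup (f := e) (Finset.mem_univ b); omega, pow_add, pow_mul, he, one_pow]
    have heq := P.is_maximal' hp' hle
    have hmem : Pi.mulSingle a s ∈ Subgroup.pi Set.univ Pa' := by
      intro b _
      by_cases hb : b = a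
      · subst hb; simp only [Pa', Function.update_self, Pi.mulSingle_eq_same]; exact hs
      · rw [Pi.mulSingle_eq_of_ne hb]; exact (Pa' b).one_mem
    rw [heq] at hmem
    exact ⟨_, hmem, by simp⟩
  choose Q hQ using hPsyl
  -- factor parts of `H`
  set Ha : ∀ a, Subgroup (A a) := fun a => H.comap (MonoidHom.mulSingle A a) with hHa
  have hHQ : ∀ a, (Q a : Subgroup (A a)) ≤ Ha a := fun a s hs =>
    hP (hPsingle a s (hQ a ▸ hs))
  have hHconj : ∀ h ∈ H, ∀ a, ∀ y ∈ Ha a, h a * y * (h a)⁻¹ ∈ Ha a := by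
    intro h hh a y hy
    show Pi.mulSingle a (h a * y * (h a)⁻¹) ∈ H
    convert H.mul_mem (H.mul_mem hh hy) (H.inv_mem hh) using 1
    funext b
    by_cases hb : b = a
    · subst hb; simp
    · simp [hb]
  refine pronormal_of_reduce P H hP fun g hg => ?_
  have hga : ∀ a, g a ∈ Subgroup.normalizer ((Q a : Subgroup (A a)) : Set (A a)) := by
    intro a
    refine Subgroup.mem_normalizer_iff.2 fun y => ?_
    rw [hQ a]
    constructor
    · intro hy
      exact ⟨_, (Subgroup.mem_normalizer_iff.1 hg _).1 (hPsingle a y hy), by simp⟩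
    · intro hy
      have := (Subgroup.mem_normalizer_iff.1 (inv_mem hg) _).1 (hPsingle a _ hy)
      exact ⟨_, this, by simp [mul_assoc]⟩
  -- the good and the bad factors
  have hx : ∀ a, ∃ x, Pi.mulSingle a x ∈ H ⊔ H.map (MulAut.conj g).toMonoidHom ∧
      (Ha a).map (MulAut.conj x).toMonoidHom = (Ha a).map (MulAut.conj (g a)).toMonoidHom ∧
      ((Ha a).map (MulAut.conj (g a)).toMonoidHom = Ha a → x = 1) := by
    intro a
    by_cases hgood : (Ha a).map (MulAut.conj (g a)).toMonoidHom = Ha a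
    · refine ⟨1, by rw [Pi.mulSingle_one]; exact one_mem _, ?_, fun _ => rfl⟩
      rw [hgood]; ext y; simp
    · obtain ⟨x, hx, hxe⟩ := (hA a).pron (Ha a)
        (Core.PronormalOver.exists_sylow_le_iff.1 ⟨Q a, hHQ a⟩) (g a)
      refine ⟨x, ?_, hxe.symm, fun h => absurd h hgood⟩
      have hle : Ha a ⊔ (Ha a).map (MulAut.conj (g a)).toMonoidHom ≤
          (H ⊔ H.map (MulAut.conj g).toMonoidHom).comap (MonoidHom.mulSingle A a) := by
        refine sup_le (fun y hy => Subgroup.mem_sup_left hy) fun y hy => Subgroup.mem_sup_right ?_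
        obtain ⟨y', hy', rfl⟩ := hy
        refine ⟨_, hy', ?_⟩
        funext b
        by_cases hb : b = a
        · subst hb; simp
        · simp [hb]
      exact hle hx
  choose x hxM hxe hx1 using hx
  refine ⟨x, Subgroup.pi_mem_of_mulSingle_mem x hxM, (Subgroup.eq_of_le_of_card_ge ?_ ?_).symm⟩
  swap
  · rw [Subgroup.card_map_of_injective (MulAut.conj x).injective,
      Subgroup.card_map_of_injective (MulAut.conj g).injective]
  rintro _ ⟨h, hh, rfl⟩
  rw [map_conj_mem_iff]
  show x⁻¹ * (g * h * g⁻¹) * x ∈ H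
  have hHn : ∀ k ∈ H, ∀ a, (Ha a).map (MulAut.conj (k a)).toMonoidHom = Ha a := fun k hk a =>
    Subgroup.eq_of_le_of_card_ge (by rintro _ ⟨y, hy, rfl⟩; exact hHconj k hk a y hy)
      (le_of_eq (Subgroup.card_map_of_injective (MulAut.conj (k a)).injective).symm)
  -- the Frattini argument in every factor
  have hfrat : ∀ a, ∃ b ∈ Ha a, b⁻¹ * h a ∈ Subgroup.normalizer ((Q a : Subgroup (A a)) : Set (A a)) := by
    intro a
    have h1 : ((h a • Q a : Sylow 2 (A a)) : Subgroup (A a)) ≤ Ha a := by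
      rw [← hHn h hh a]
      exact Subgroup.map_mono (hHQ a)
    obtain ⟨c, hc⟩ := MulAction.exists_smul_eq (Ha a) ((h a • Q a).subtype h1) ((Q a).subtype (hHQ a))
    rw [Sylow.smul_subtype h1 c] at hc
    refine ⟨(c : A a)⁻¹, (Ha a).inv_mem c.2, Sylow.smul_eq_iff_mem_normalizer.1 ?_⟩
    rw [inv_inv, mul_smul]
    exact Sylow.subtype_injective hc
  choose b hb hbN using hfrat
  have hbH : b ∈ H := Subgroup.pi_mem_of_mulSingle_mem b hb
  set u := b⁻¹ * h with hu
  have huH : u ∈ H := H.mul_mem (H.inv_mem hbH) hh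
  have huN : ∀ a, u a ∈ Subgroup.normalizer ((Q a : Subgroup (A a)) : Set (A a)) := hbN
  have hbad : ∀ a, (Ha a).map (MulAut.conj (g a)).toMonoidHom ≠ Ha a → u a ∈ (Q a : Subgroup (A a)) := by
    intro a hne
    by_contra huQ
    obtain ⟨n, hn⟩ := (hA a).cyc (Q a) (u a) (huN a) huQ (g a) (hga a)
    refine hne (Subgroup.eq_of_le_of_card_ge ?_
      (le_of_eq (Subgroup.card_map_of_injective (MulAut.conj (g a)).injective).symm))
    rintro _ ⟨y, hy, rfl⟩
    have h1 : u a ^ n * y * (u a ^ n)⁻¹ ∈ Ha a := by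
      have h' := hHconj (u ^ n) (pow_mem huH n) a y hy
      simpa using h'
    have h3 := (Ha a).mul_mem ((Ha a).mul_mem (hHQ a hn) h1) ((Ha a).inv_mem (hHQ a hn))
    simpa [mul_assoc] using h3
  set u' : Π a, A a := fun a => if (Ha a).map (MulAut.conj (g a)).toMonoidHom = Ha a then u a else 1
    with hu'
  have hu'H : u' ∈ H := by
    have h1 : u'⁻¹ * u ∈ H := Subgroup.pi_mem_of_mulSingle_mem _ fun a => by
      show (u'⁻¹ * u) a ∈ Ha a
      simp only [Pi.mul_apply, Pi.inv_apply, hu']
      split_ifs with hgood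
      · rw [inv_mul_cancel]; exact one_mem _
      · rw [inv_one, one_mul]; exact hHQ a (hbad a hgood)
    have := H.mul_mem huH (H.inv_mem h1)
    simpa [mul_assoc] using this
  have hmain : x⁻¹ * (g * h * g⁻¹) * x * u'⁻¹ ∈ H := Subgroup.pi_mem_of_mulSingle_mem _ fun a => by
    show (x⁻¹ * (g * h * g⁻¹) * x * u'⁻¹) a ∈ Ha a
    simp only [Pi.mul_apply, Pi.inv_apply, hu']
    split_ifs with hgood
    · rw [hx1 a hgood, inv_one, one_mul, mul_one]
      have hha : h a = b a * u a := by rw [hu]; simp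
      have hcomm : g a * u a * (g a)⁻¹ * (u a)⁻¹ ∈ (Q a : Subgroup (A a)) := by
        by_cases huQ : u a ∈ (Q a : Subgroup (A a))
        · exact mul_mem ((Subgroup.mem_normalizer_iff.1 (hga a) _).1 huQ) (inv_mem huQ)
        · obtain ⟨n, hn⟩ := (hA a).cyc (Q a) (u a) (huN a) huQ (g a) (hga a)
          obtain ⟨s, hs⟩ : ∃ s, s = g a * (u a ^ n)⁻¹ := ⟨_, rfl⟩
          rw [← hs] at hn
          have hgs : g a = s * u a ^ n := by rw [hs, inv_mul_cancel_right]
          rw [hgs, show s * u a ^ n * u a * (s * u a ^ n)⁻¹ * (u a)⁻¹ = s * (u a * s⁻¹ * (u a)⁻¹) by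
            rw [mul_inv_rev, show s * u a ^ n * u a = s * u a * u a ^ n by
              rw [mul_assoc, ← pow_succ, pow_succ', ← mul_assoc]]
            group]
          exact mul_mem hn ((Subgroup.mem_normalizer_iff.1 (huN a) _).1 (inv_mem hn))
      rw [show g a * h a * (g a)⁻¹ * (u a)⁻¹ =
        (g a * b a * (g a)⁻¹) * (g a * u a * (g a)⁻¹ * (u a)⁻¹) by rw [hha]; group]
      refine (Ha a).mul_mem ?_ (hHQ a hcomm)
      have hm : g a * b a * (g a)⁻¹ ∈ (Ha a).map (MulAut.conj (g a)).toMonoidHom := ⟨b a, hb a, rfl⟩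
      rwa [hgood] at hm
    · rw [inv_one, mul_one]
      have hha : h a ∈ Ha a := by
        rw [show h a = b a * u a by rw [hu]; simp]
        exact (Ha a).mul_mem (hb a) (hHQ a (hbad a hgood))
      have hm : g a * h a * (g a)⁻¹ ∈ (Ha a).map (MulAut.conj (x a)).toMonoidHom := by
        rw [hxe a]; exact ⟨h a, hha, rfl⟩
      exact map_conj_mem_iff.1 hm
  have := H.mul_mem hmain hu'H
  rwa [inv_mul_cancel_right] at this

end CfsgLib.HallGen.Pronormal
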