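import Cfsg.Agent.Lib.HallGen.Pronormal.LinLevel

/-!
# The levels in dimension two

A monomial 2-group in dimension two over an extension field, and transport along an embedding.
-/

set_option autoImplicit false
set_option linter.all false

namespace CfsgLib.HallGen.Pronormal.Lin

open Matrix

section Mono

variable {K : Type*} [Field K]

/-- The elements of 2-power order. -/
def twoPart (K : Type*) [Field K] : Subgroup Kˣ where
  carrier := {c | ∃ e, c ^ 2 ^ e = 1}
  one_mem' := ⟨0, one_pow _⟩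
  mul_mem' := by
    rintro a b ⟨e, he⟩ ⟨f, hf⟩
    exact ⟨e + f, by rw [mul_pow, pow_add, pow_mul, he, one_pow, Nat.mul_comm, pow_mul, hf, one_pow, one_mul]⟩
  inv_mem' := by
    rintro a ⟨e, he⟩
    exact ⟨e, by rw [inv_pow, he, inv_one]⟩

theorem mem_twoPart {c : Kˣ} : c ∈ twoPart K ↔ ∃ e, c ^ 2 ^ e = 1 := Iff.rfl

/-- Diagonal elements. -/
def dia : Kˣ × Kˣ →* GL (Fin 2) K where
  toFun p :=
    { val := !![(p.1 : K), 0; 0, (p.2 : K)]
      inv := !![((p.1⁻¹ : Kˣ) : K), 0; 0, ((p.2⁻¹ : Kˣ) : K)]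
      val_inv := by simp [Matrix.one_fin_two]
      inv_val := by simp [Matrix.one_fin_two] }
  map_one' := Units.ext (by simp [Matrix.one_fin_two])
  map_mul' p r := Units.ext (by simp)

theorem dia_val (a b : Kˣ) : (dia (a, b)).val = !![(a : K), 0; 0, (b : K)] := rfl

/-- The swap. -/
def sw : GL (Fin 2) K where
  val := !![0, 1; 1, 0]
  inv := !![0, 1; 1, 0]
  val_inv := by simp [Matrix.one_fin_two]
  inv_val := by simp [Matrix.one_fin_two]

theorem sw_val : (sw : GL (Fin 2) K).val = !![0, 1; 1, 0] := rfl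

theorem sw_sq : (sw : GL (Fin 2) K) * sw = 1 := Units.ext (by simp [sw_val, Matrix.one_fin_two])

theorem sw_dia (a b : Kˣ) : sw * dia (a, b) = dia (b, a) * sw := Units.ext (by simp [sw_val, dia_val])

theorem sc_eq_dia (c : Kˣ) : (sc c : GL (Fin 2) K) = dia (c, c) := Units.ext (by
  ext i j; fin_cases i <;> fin_cases j <;> simp [sc_val, dia_val, Matrix.scalar_apply])

theorem det_dia (a b : Kˣ) : GeneralLinearGroup.det (dia (a, b)) = a * b := Units.ext (by
  simp [GeneralLinearGroup.val_det_apply, dia_val, Matrix.det_fin_two])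

theorem det_sw : GeneralLinearGroup.det (sw : GL (Fin 2) K) = -1 := Units.ext (by
  simp [GeneralLinearGroup.val_det_apply, sw_val, Matrix.det_fin_two])

theorem dia_inj {a b a' b' : Kˣ} (h : dia (a, b) = dia (a', b')) : a = a' ∧ b = b' := by
  have h' := congrArg Units.val h
  rw [dia_val, dia_val] at h'
  exact ⟨Units.ext (congrFun (congrFun h' 0) 0), Units.ext (congrFun (congrFun h' 1) 1)⟩

theorem dia_sw_ne (a b a' b' : Kˣ) : dia (a, b) * sw ≠ dia (a', b') := by
  intro h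
  have h' : (dia (a, b) * sw).val 0 0 = (dia (a', b')).val 0 0 := by rw [h]
  simp [dia_val, sw_val] at h'
  exact a'.ne_zero h'.symm

variable (Γ : Subgroup (GL (Fin 2) K))

/-- The monomial 2-group. -/
def monoTwo (hs : sw ∈ Γ) : Subgroup (GL (Fin 2) K) where
  carrier := {x | ∃ a ∈ twoPart K, ∃ b ∈ twoPart K, dia (a, b) ∈ Γ ∧ (x = dia (a, b) ∨ x = dia (a, b) * sw)}
  one_mem' := ⟨1, one_mem _, 1, one_mem _, by rw [Prod.mk_one_one, map_one]; exact one_mem _,
    Or.inl (map_one dia).symm⟩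
  mul_mem' := by
    rintro x y ⟨a, ha, b, hb, hΓ, hx⟩ ⟨c, hc, d, hd, hΓ', hy⟩
    have hflip : dia (d, c) ∈ Γ := by
      have := Γ.mul_mem (Γ.mul_mem hs hΓ') hs
      rwa [sw_dia, mul_assoc, sw_sq, mul_one] at this
    rcases hx with rfl | rfl
    · refine ⟨a * c, mul_mem ha hc, b * d, mul_mem hb hd, ?_, ?_⟩
      · rw [← Prod.mk_mul_mk, map_mul]; exact Γ.mul_mem hΓ hΓ'
      · rcases hy with rfl | rfl
        · exact Or.inl (by rw [← map_mul]; rfl)
        · exact Or.inr (by rw [← mul_assoc, ← map_mul]; rfl)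
    · refine ⟨a * d, mul_mem ha hd, b * c, mul_mem hb hc, ?_, ?_⟩
      · rw [← Prod.mk_mul_mk, map_mul]; exact Γ.mul_mem hΓ hflip
      · rcases hy with rfl | rfl
        · exact Or.inr (by rw [mul_assoc, sw_dia, ← mul_assoc, ← map_mul]; rfl)
        · refine Or.inl ?_
          rw [show dia (a, b) * sw * (dia (c, d) * sw) = dia (a, b) * (sw * dia (c, d)) * sw by group,
            sw_dia, mul_assoc (dia (a, b)), mul_assoc (dia (d, c)), sw_sq, mul_one, ← map_mul]
          rfl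
  inv_mem' := by
    rintro x ⟨a, ha, b, hb, hΓ, rfl | rfl⟩
    · exact ⟨a⁻¹, inv_mem ha, b⁻¹, inv_mem hb, by
        rw [← Prod.inv_mk, map_inv]; exact Γ.inv_mem hΓ, Or.inl (map_inv dia (a, b)).symm⟩
    · refine ⟨b⁻¹, inv_mem hb, a⁻¹, inv_mem ha, ?_, Or.inr (inv_eq_of_mul_eq_one_right ?_)⟩
      · have := Γ.mul_mem (Γ.mul_mem hs (Γ.inv_mem hΓ)) hs
        rwa [← map_inv, Prod.inv_mk, sw_dia, mul_assoc, sw_sq, mul_one] at this
      · rw [show dia (a, b) * sw * (dia (b⁻¹, a⁻¹) * sw) = dia (a, b) * (sw * dia (b⁻¹, a⁻¹)) * sw by group,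
          sw_dia, mul_assoc (dia (a, b)), mul_assoc (dia (a⁻¹, b⁻¹)), sw_sq, mul_one, ← map_mul]
        simp [Prod.mk_one_one]

variable {Γ}

theorem dia_mem_monoTwo {hs : sw ∈ Γ} {a b : Kˣ} :
    dia (a, b) ∈ monoTwo Γ hs ↔ a ∈ twoPart K ∧ b ∈ twoPart K ∧ dia (a, b) ∈ Γ := by
  refine ⟨?_, fun h => ⟨a, h.1, b, h.2.1, h.2.2, Or.inl rfl⟩⟩
  rintro ⟨a', ha, b', hb, hΓ, h | h⟩
  · obtain ⟨rfl, rfl⟩ := dia_inj h
    exact ⟨ha, hb, hΓ⟩
  · exact absurd h.symm (dia_sw_ne _ _ _ _)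

theorem sw_mem_monoTwo {hs : sw ∈ Γ} : sw ∈ monoTwo Γ hs :=
  ⟨1, one_mem _, 1, one_mem _, by rw [Prod.mk_one_one, map_one]; exact one_mem _,
    Or.inr (by rw [Prod.mk_one_one, map_one, one_mul])⟩

/-- The monomial level. -/
def levelMono [Finite K] (hs : sw ∈ Γ) (x y : Kˣ) (hx : x ∈ twoPart K) (hy : y ∈ twoPart K)
    (hd : dia (x, y) ∈ Γ) (hxy : x ^ 2 ≠ y ^ 2) (u v : Kˣ) (hu : u ∈ twoPart K) (hv : v ∈ twoPart K)
    (huv : u * v = -1) (hd' : dia (u, v) ∈ Γ) : Level Γ where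
  W := monoTwo Γ hs
  le := by
    rintro g ⟨a, _, b, _, hΓ, rfl | rfl⟩
    · exact hΓ
    · exact Γ.mul_mem hΓ hs
  pg := by
    have key : ∀ a ∈ twoPart K, ∀ b ∈ twoPart K, ∃ e, dia (a, b) ^ 2 ^ e = 1 := by
      rintro a ⟨e, he⟩ b ⟨f, hf⟩
      refine ⟨e + f, ?_⟩
      rw [← map_pow, Prod.pow_mk, pow_add, pow_mul, he, one_pow, Nat.mul_comm, pow_mul, hf, one_pow,
        Prod.mk_one_one, map_one]
    rintro ⟨g, a, ha, b, hb, hΓ, rfl | rfl⟩
    · obtain ⟨e, he⟩ := key a ha b hb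
      exact ⟨e, Subtype.ext he⟩
    · obtain ⟨e, he⟩ := key _ (mul_mem ha hb) _ (mul_mem hb ha)
      refine ⟨e + 1, Subtype.ext ?_⟩
      show (dia (a, b) * sw) ^ 2 ^ (e + 1) = 1
      rw [pow_succ', pow_mul, pow_two]
      convert he using 2
      rw [show dia (a, b) * sw * (dia (a, b) * sw) = dia (a, b) * (sw * dia (a, b)) * sw by group, sw_dia,
        mul_assoc (dia (a, b)), mul_assoc (dia (b, a)), sw_sq, mul_one, ← map_mul]
      rfl
  norm := by
    intro g hg hn
    have hne : (x : K) ≠ y := fun h => hxy (by rw [Units.ext h])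
    obtain ⟨a, -, b, -, -, h | h⟩ := hn _ (dia_mem_monoTwo.2 ⟨hx, hy, hd⟩)
    swap
    · exfalso
      have h' : g * (dia (x, y) * dia (x, y)) * g⁻¹ = sc (a * b) := by
        rw [show g * (dia (x, y) * dia (x, y)) * g⁻¹ = g * dia (x, y) * g⁻¹ * (g * dia (x, y) * g⁻¹) by group, h,
          show dia (a, b) * sw * (dia (a, b) * sw) = dia (a, b) * (sw * dia (a, b)) * sw by group, sw_dia,
          mul_assoc (dia (a, b)), mul_assoc (dia (b, a)), sw_sq, mul_one, ← map_mul, sc_eq_dia,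
          Prod.mk_mul_mk, mul_comm b a]
      rw [mul_inv_eq_iff_eq_mul, sc_comm, mul_right_inj, ← map_mul, sc_eq_dia] at h'
      obtain ⟨h1, h2⟩ := dia_inj h'
      exact hxy (by rw [pow_two, pow_two, h1, h2])
    rw [mul_inv_eq_iff_eq_mul] at h
    have he := congrArg Units.val h
    rw [Units.val_mul, Units.val_mul, dia_val, dia_val, Matrix.eta_fin_two g.val, Matrix.mul_fin_two,
      Matrix.mul_fin_two] at he
    simp [Matrix.vecCons_inj] at he
    obtain ⟨⟨e00, e01⟩, e10, e11⟩ := he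
    have hdet : g.val 0 0 * g.val 1 1 - g.val 0 1 * g.val 1 0 ≠ 0 := by
      rw [← Matrix.det_fin_two]
      exact ((Matrix.isUnit_iff_isUnit_det _).1 g.isUnit).ne_zero
    have hzero : ∀ {p r : K} {c : Kˣ}, p * x = c * p → r * y = c * r → p = 0 ∨ r = 0 := fun hp hr => by
      by_contra! hh
      exact hne ((mul_left_cancel₀ hh.1 (hp.trans (mul_comm _ _))).trans
        (mul_left_cancel₀ hh.2 (hr.trans (mul_comm _ _))).symm)
    obtain ⟨p, r, hpr⟩ : ∃ p r : Kˣ, g = dia (p, r) ∨ g = dia (p, r) * sw := by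
      rcases hzero e00 e01 with h0 | h0 <;> rcases hzero e10 e11 with h1 | h1
      · exact absurd (by rw [h0, h1]; ring) hdet
      · refine ⟨Units.mk0 (g.val 0 1) fun hh => hdet (by rw [h0, hh]; ring),
          Units.mk0 (g.val 1 0) fun hh => hdet (by rw [h1, hh]; ring), Or.inr (Units.ext ?_)⟩
        conv_lhs => rw [Matrix.eta_fin_two g.val, h0, h1]
        simp [dia_val, sw_val]
      · refine ⟨Units.mk0 (g.val 0 0) fun hh => hdet (by rw [h0, hh]; ring),
          Units.mk0 (g.val 1 1) fun hh => hdet (by rw [h1, hh]; ring), Or.inl (Units.ext ?_)⟩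
        conv_lhs => rw [Matrix.eta_fin_two g.val, h0, h1]
        simp [dia_val]
      · exact absurd (by rw [h0, h1]; ring) hdet
    obtain ⟨τ, hτ, hτΓ, hg'⟩ : ∃ τ ∈ monoTwo Γ hs, τ ∈ Γ ∧ g * τ = dia (p, r) := by
      rcases hpr with rfl | rfl
      · exact ⟨1, one_mem _, one_mem _, mul_one _⟩
      · exact ⟨sw, sw_mem_monoTwo, hs, by rw [mul_assoc, sw_sq, mul_one]⟩
    have hDΓ : dia (p, r) ∈ Γ := hg' ▸ Γ.mul_mem hg hτΓ
    have hratio : p * r⁻¹ ∈ twoPart K := by
      have h1 := hn _ ((monoTwo Γ hs).mul_mem ((monoTwo Γ hs).mul_mem hτ (sw_mem_monoTwo (hs := hs)))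
        ((monoTwo Γ hs).inv_mem hτ))
      rw [show g * (τ * sw * τ⁻¹) * g⁻¹ = g * τ * sw * (g * τ)⁻¹ by group, hg', ← map_inv, mul_assoc, sw_dia,
        ← mul_assoc, ← map_mul] at h1
      have h2 := (monoTwo Γ hs).mul_mem h1 (sw_mem_monoTwo (hs := hs))
      rw [mul_assoc, sw_sq, mul_one] at h2
      exact (dia_mem_monoTwo.1 h2).1
    -- split off the part of 2-power order
    haveI : Finite (GL (Fin 2) K) := Finite.of_injective Units.val Units.val_injective
    obtain ⟨e, m, hm, hem⟩ := Nat.exists_eq_two_pow_mul_odd (n := orderOf (dia (p, r))) (orderOf_pos _).ne'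
    obtain ⟨N, hN1, hN0⟩ := Nat.chineseRemainder ((Nat.coprime_two_left.2 hm).pow_left e) 1 0
    have hord : p ^ (2 ^ e * m) = 1 ∧ r ^ (2 ^ e * m) = 1 := by
      have h1 := pow_orderOf_eq_one (dia (p, r))
      rw [hem, ← map_pow, Prod.pow_mk, ← map_one dia, ← Prod.mk_one_one] at h1
      exact dia_inj h1
    obtain ⟨t, ht⟩ : m ∣ N := Nat.modEq_zero_iff_dvd.1 hN0
    have hpow2 : (p ^ N) ^ 2 ^ e = 1 ∧ (r ^ N) ^ 2 ^ e = 1 := by
      constructor <;> rw [← pow_mul, ht, show m * t * 2 ^ e = 2 ^ e * m * t by ring, pow_mul]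
      · rw [hord.1, one_pow]
      · rw [hord.2, one_pow]
    have hq : (p * r⁻¹) ^ N = p * r⁻¹ := by
      obtain ⟨f, hf⟩ := hratio
      have hz : (p * r⁻¹) ^ 2 ^ e = 1 := by
        have h1 : (p * r⁻¹) ^ (2 ^ e * m) = 1 := by rw [mul_pow, inv_pow, hord.1, hord.2, inv_one, mul_one]
        rw [← orderOf_dvd_iff_pow_eq_one] at h1 hf ⊢
        have hco : Nat.Coprime (orderOf (p * r⁻¹)) m :=
          Nat.Coprime.coprime_dvd_left hf ((Nat.coprime_two_left.2 hm).pow_left f)
        exact hco.dvd_of_dvd_mul_right h1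
      conv_rhs => rw [← pow_one (p * r⁻¹)]
      rw [pow_eq_pow_iff_modEq]
      exact hN1.of_dvd (orderOf_dvd_of_pow_eq_one hz)
    have hW : dia (p ^ N, r ^ N) ∈ monoTwo Γ hs :=
      dia_mem_monoTwo.2 ⟨⟨e, hpow2.1⟩, ⟨e, hpow2.2⟩, by
        rw [← Prod.pow_mk, map_pow]; exact Γ.pow_mem hDΓ N⟩
    have hsc : dia (p, r) = dia (p ^ N, r ^ N) * sc (r * (r ^ N)⁻¹) := by
      have hp : p = p ^ N * (r * (r ^ N)⁻¹) := by
        rw [mul_pow, inv_pow] at hq
        calc p = p * r⁻¹ * r := (inv_mul_cancel_right p r).symm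
          _ = _ := by rw [← hq]; ac_rfl
      rw [sc_eq_dia, ← map_mul, Prod.mk_mul_mk, ← hp, mul_comm r, mul_inv_cancel_left]
    refine ⟨r * (r ^ N)⁻¹, ?_, ?_⟩
    · have h1 := Γ.mul_mem (Γ.inv_mem ((dia_mem_monoTwo.1 hW).2.2)) hDΓ
      rwa [hsc, inv_mul_cancel_left] at h1
    · have h1 := (monoTwo Γ hs).mul_mem hW ((monoTwo Γ hs).inv_mem hτ)
      rw [show g = dia (p, r) * τ⁻¹ by rw [← hg', mul_inv_cancel_right], hsc,
        mul_assoc (dia (p ^ N, r ^ N)), sc_comm, ← mul_assoc, mul_inv_cancel_right]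
      exact h1
  scal c hc he := by
    rw [sc_eq_dia] at hc ⊢
    exact dia_mem_monoTwo.2 ⟨he, he, hc⟩
  comm M hM := by
    have h1 : dia (x * y⁻¹, y * x⁻¹) ∈ monoTwo Γ hs := by
      have hd0 : dia (x, y) ∈ monoTwo Γ hs := dia_mem_monoTwo.2 ⟨hx, hy, hd⟩
      have h := (monoTwo Γ hs).mul_mem hd0 ((monoTwo Γ hs).mul_mem ((monoTwo Γ hs).mul_mem
        (sw_mem_monoTwo (hs := hs)) ((monoTwo Γ hs).inv_mem hd0)) (sw_mem_monoTwo (hs := hs)))
      rwa [← map_inv, Prod.inv_mk, sw_dia, mul_assoc (dia _) sw sw, sw_sq, mul_one, ← map_mul] at h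
    have c1 := hM _ h1 (by rw [det_dia, show x * y⁻¹ * (y * x⁻¹) = 1 by group])
    have c2 := hM _ ((monoTwo Γ hs).mul_mem (dia_mem_monoTwo.2 ⟨hu, hv, hd'⟩) (sw_mem_monoTwo (hs := hs)))
      (by rw [map_mul, det_dia, det_sw, huv, neg_one_mul, neg_neg])
    have hne : ((x * y⁻¹ : Kˣ) : K) ≠ ((y * x⁻¹ : Kˣ) : K) := fun h => hxy (by
      have h' := mul_inv_eq_iff_eq_mul.1 (Units.ext h)
      rw [pow_two, pow_two]
      calc x * x = y * x⁻¹ * y * x := by rw [← h']
        _ = y * y := by rw [mul_right_comm (y * x⁻¹) y x, inv_mul_cancel_right])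
    rw [dia_val, Matrix.eta_fin_two M, Matrix.mul_fin_two, Matrix.mul_fin_two] at c1
    rw [Units.val_mul, dia_val, sw_val, Matrix.eta_fin_two M, Matrix.mul_fin_two, Matrix.mul_fin_two,
      Matrix.mul_fin_two] at c2
    simp [Matrix.vecCons_inj, -Units.val_mul] at c1 c2
    obtain ⟨c1a, c1b⟩ := c1
    obtain ⟨⟨c2a, c2b⟩, c2c, c2d⟩ := c2
    have h01 : M 0 1 = 0 := by
      by_contra hh
      exact hne (mul_right_cancel₀ hh (c1a.2.trans (mul_comm _ _)))
    have h10 : M 1 0 = 0 := by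
      by_contra hh
      exact hne (mul_right_cancel₀ hh (c1b.1.trans (mul_comm _ _))).symm
    have h11 : M 1 1 = M 0 0 := mul_left_cancel₀ u.ne_zero (c2b.trans (mul_comm _ _))
    refine ⟨M 0 0, ?_⟩
    conv_lhs => rw [Matrix.eta_fin_two M, h01, h10, h11]
    ext i j; fin_cases i <;> fin_cases j <;> simp [Matrix.scalar_apply]

end Mono

/-! ### Transport -/

variable {F : Type*} [Field F] {K : Type*} [Field K] {ι : Type*} [Fintype ι] [DecidableEq ι]

/-- Change of field followed by a change of basis. -/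
def embed (f : F →+* K) (Q : GL ι K) : GL ι F →* GL ι K :=
  (MulAut.conj Q⁻¹).toMonoidHom.comp (GeneralLinearGroup.map f)

theorem embed_apply (f : F →+* K) (Q : GL ι K) (g : GL ι F) :
    embed f Q g = Q⁻¹ * GeneralLinearGroup.map f g * Q := by simp [embed]

theorem embed_sc (f : F →+* K) (Q : GL ι K) (c : Fˣ) : embed f Q (sc c) = sc (Units.map f c) := by
  rw [embed_apply]
  have h : GeneralLinearGroup.map f (sc c : GL ι F) = sc (Units.map f c) := Units.ext (by
    show (sc c : GL ι F).val.map f = _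
    rw [sc_val, sc_val, Matrix.scalar_apply, Matrix.scalar_apply, Matrix.diagonal_map (map_zero f)]
    rfl)
  rw [h, mul_assoc, sc_comm, inv_mul_cancel_left]

theorem embed_injective (f : F →+* K) (Q : GL ι K) : Function.Injective (embed f Q) := by
  intro a b h
  have h' := (MulAut.conj Q⁻¹).injective h
  refine Units.ext ?_
  have h'' : a.val.map f = b.val.map f := congrArg Units.val h'
  exact Matrix.map_injective f.injective h''

theorem det_embed (f : F →+* K) (Q : GL ι K) (g : GL ι F) :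
    GeneralLinearGroup.det (embed f Q g) = Units.map f (GeneralLinearGroup.det g) := by
  rw [embed_apply, map_mul, map_mul, map_inv, inv_mul_cancel_comm]
  refine Units.ext ?_
  show (g.val.map f).det = f g.val.det
  rw [RingHom.map_det]; rfl

/-- Levels pull back. -/
def Level.comap [Nonempty ι] {Γ : Subgroup (GL ι F)} (f : F →+* K) (Q : GL ι K)
    (L : Level (Γ.map (embed f Q))) : Level Γ where
  W := L.W.comap (embed f Q)
  le g hg := by
    obtain ⟨γ, hγ, he⟩ := L.le hg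
    rwa [← embed_injective f Q he]
  pg := L.pg.comap_of_injective _ (embed_injective f Q)
  norm g hg hn := by
    obtain ⟨c, hc, hmem⟩ := L.norm (embed f Q g) ⟨g, hg, rfl⟩ fun w hw => by
      obtain ⟨γ, hγ, rfl⟩ := L.le hw
      have := hn γ hw
      rwa [Subgroup.mem_comap, map_mul, map_mul, map_inv] at this
    obtain ⟨γ, hγ, he⟩ := hc
    obtain ⟨i⟩ := ‹Nonempty ι›
    have hγ' : γ.val.map f = Matrix.scalar ι (c : K) := by
      have h := congrArg (fun z => Q * z * Q⁻¹) he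
      rw [embed_apply, show Q * (Q⁻¹ * GeneralLinearGroup.map f γ * Q) * Q⁻¹ = GeneralLinearGroup.map f γ by group,
        ← sc_comm, mul_inv_cancel_right] at h
      exact congrArg Units.val h
    have hcf : f (γ.val i i) = (c : K) := by
      have h := congrFun (congrFun hγ' i) i
      simpa [Matrix.scalar_apply] using h
    obtain ⟨c0, hc0⟩ := eq_sc_of_val (g := γ) (r := γ.val i i) (Matrix.map_injective f.injective (by
      show γ.val.map f = (Matrix.scalar ι (γ.val i i)).map f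
      rw [hγ', Matrix.scalar_apply, Matrix.scalar_apply, Matrix.diagonal_map (map_zero f), ← hcf]))
    subst hc0
    refine ⟨c0, hγ, ?_⟩
    rw [Subgroup.mem_comap, map_mul, map_inv, he]
    exact hmem
  scal c hc he := by
    obtain ⟨e, he⟩ := he
    rw [Subgroup.mem_comap, embed_sc]
    exact L.scal _ ⟨sc c, hc, embed_sc f Q c⟩ ⟨e, by rw [← map_pow, he, map_one]⟩
  comm M hM := by
    obtain ⟨r, hr⟩ := L.comm (Q⁻¹.val * M.map f * Q.val) fun w hw hd => by
      obtain ⟨γ, hγ, rfl⟩ := L.le hw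
      rw [det_embed] at hd
      have hd' : GeneralLinearGroup.det γ = 1 :=
        Units.map_injective f.injective (hd.trans (map_one _).symm)
      have h : γ.val.map f * M.map f = M.map f * γ.val.map f := by
        rw [← Matrix.map_mul, ← Matrix.map_mul, hM γ hw hd']
      rw [embed_apply, Units.val_mul, Units.val_mul, show (GeneralLinearGroup.map f γ).val = γ.val.map f from rfl]
      simp only [Matrix.mul_assoc]
      rw [← Matrix.mul_assoc Q.val Q⁻¹.val, Units.mul_inv, Matrix.one_mul, ← Matrix.mul_assoc Q.val Q⁻¹.val,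
        Units.mul_inv, Matrix.one_mul, ← Matrix.mul_assoc (γ.val.map f), h, Matrix.mul_assoc]
    have h : M.map f = Matrix.scalar ι r := by
      have h1 := congrArg (fun z => Q.val * z * Q⁻¹.val) hr
      rw [← (Matrix.scalar_commute r (fun r' => Commute.all _ r') Q.val).eq] at h1
      simp only [Matrix.mul_assoc, Units.mul_inv, Matrix.mul_one] at h1
      rwa [← Matrix.mul_assoc, Units.mul_inv, Matrix.one_mul] at h1
    obtain ⟨i⟩ := ‹Nonempty ι›
    have hri : f (M i i) = r := by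
      have h1 := congrFun (congrFun h i) i
      simpa [Matrix.scalar_apply] using h1
    exact ⟨M i i, Matrix.map_injective f.injective (by
      show M.map f = (Matrix.scalar ι (M i i)).map f
      rw [h, Matrix.scalar_apply, Matrix.scalar_apply, Matrix.diagonal_map (map_zero f), ← hri])⟩

end CfsgLib.HallGen.Pronormal.Lin
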