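import Cfsg.Agent.Lib.Char.Exceptional.SLProjective.Module
import Cfsg.Agent.Lib.Classical.SLGroup
import Cfsg.Agent.Lib.Classical.SylowGL
import Cfsg.Agent.Lib.HallGen.Pronormal.Good
import Cfsg.Agent.Lib.Known.SL2Char.SylowTwo

/-!
# Odd index subgroups of `SLₙ(q)`, `q` even

An overgroup of the upper unitriangular subgroup is normalised by the diagonal torus.
-/

set_option autoImplicit false
set_option linter.all false

namespace CfsgLib.HallGen.Pronormal.LinEven

open Matrix CfsgLib.SLProjective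

variable {F : Type*} [Field F] {m : ℕ}

local notation "SLn" => SpecialLinearGroup (Fin (m + 1)) F

/-- The root subgroup on the position `(a, b)` lies in `K`, or `a = b`. -/
def Rel (K : Subgroup (SpecialLinearGroup (Fin (m + 1)) F)) (a b : Fin (m + 1)) : Prop :=
  ∀ h : a ≠ b, ∀ c : F, SpecialLinearGroup.transvection h c ∈ K

/-- The diagonal matrix with entries `f` lies in `K`. -/
def DiagIn (K : Subgroup (SpecialLinearGroup (Fin (m + 1)) F)) (f : Fin (m + 1) → F) : Prop :=
  ∃ x ∈ K, x.1 = Matrix.diagonal f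

variable {K : Subgroup (SpecialLinearGroup (Fin (m + 1)) F)}

theorem rel_of_lt (hU : Up (m + 1) F ≤ K) {a b : Fin (m + 1)} (h : a < b) : Rel K a b :=
  fun _ c => hU (transvection_mem_up h c)

theorem rel_refl (a : Fin (m + 1)) : Rel K a a := fun h => absurd rfl h

theorem rel_trans {a b c : Fin (m + 1)} (h1 : Rel K a b) (h2 : Rel K b c) : Rel K a c := by
  intro hac z
  by_cases hab : a = b
  · subst hab; exact h2 hac z
  by_cases hbc : b = c
  · subst hbc; exact h1 hab z
  rw [← CfsgLib.Classical.transvection_eq_commutator hac hab hbc z]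
  simp only [commutatorElement_def]
  exact K.mul_mem (K.mul_mem (K.mul_mem (h1 hab _) (h2 hbc _)) (K.inv_mem (h1 hab _))) (K.inv_mem (h2 hbc _))

theorem rel_total (hU : Up (m + 1) F ≤ K) (a b : Fin (m + 1)) : Rel K a b ∨ Rel K b a := by
  rcases lt_trichotomy a b with h | rfl | h
  · exact Or.inl (rel_of_lt hU h)
  · exact Or.inl (rel_refl a)
  · exact Or.inr (rel_of_lt hU h)

/-- The positions strictly below `a`. -/
noncomputable def belowSet (K : Subgroup (SpecialLinearGroup (Fin (m + 1)) F)) (a : Fin (m + 1)) :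
    Finset (Fin (m + 1)) :=
  (Set.toFinite {b | ¬ Rel K a b}).toFinset

/-- The number of positions strictly below `a`. -/
noncomputable def below (K : Subgroup (SpecialLinearGroup (Fin (m + 1)) F)) (a : Fin (m + 1)) : ℕ :=
  (belowSet K a).card

theorem mem_belowSet {a b : Fin (m + 1)} : b ∈ belowSet K a ↔ ¬ Rel K a b := by simp [belowSet]

theorem rel_iff (hU : Up (m + 1) F ≤ K) {a b : Fin (m + 1)} : Rel K a b ↔ below K a ≤ below K b := by
  have hsub : ∀ {x y : Fin (m + 1)}, Rel K x y → belowSet K x ⊆ belowSet K y := by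
    intro x y hxy z hz
    rw [mem_belowSet] at hz ⊢
    exact fun h => hz (rel_trans hxy h)
  refine ⟨fun h => Finset.card_le_card (hsub h), fun h => ?_⟩
  by_contra hab
  have hba : Rel K b a := (rel_total hU a b).resolve_left hab
  refine absurd h (not_le.2 (Finset.card_lt_card (Finset.ssubset_iff_of_subset (hsub hba) |>.2 ⟨b, ?_, ?_⟩)))
  · exact mem_belowSet.2 hab
  · exact fun h => mem_belowSet.1 h (rel_refl b)

theorem DiagIn.mul {f g : Fin (m + 1) → F} (hf : DiagIn K f) (hg : DiagIn K g) :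
    DiagIn K fun i => f i * g i := by
  obtain ⟨x, hx, hxf⟩ := hf
  obtain ⟨y, hy, hyg⟩ := hg
  refine ⟨x * y, K.mul_mem hx hy, ?_⟩
  show x.1 * y.1 = _
  rw [hxf, hyg, Matrix.diagonal_mul_diagonal]

theorem diag2n_mem {i j : Fin (m + 1)} (h : i ≠ j) (h1 : Rel K i j) (h2 : Rel K j i) {a : F} (ha : a ≠ 0) :
    SpecialLinearGroup.diag2n h a ha ∈ K := by
  have hw : (weyl h : SLn) ∈ K := K.mul_mem (K.mul_mem (h1 h 1) (h2 h.symm _)) (h1 h 1)
  have e := weyl_mul_upper (F := F) h (a := -a⁻¹) (neg_ne_zero.2 (inv_ne_zero ha))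
  have hmem : (weyl h : SLn) * SpecialLinearGroup.transvection h (-a⁻¹) ∈ K := K.mul_mem hw (h1 h _)
  rw [e, K.mul_mem_cancel_right (h2 h.symm _), K.mul_mem_cancel_left (h1 h _)] at hmem
  convert hmem using 2
  simp

/-- The quotient of a diagonal element by its image under a permutation fixing the classes. -/
theorem diagIn_perm (hU : Up (m + 1) F ≤ K) (s : ℕ) : ∀ σ : Equiv.Perm (Fin (m + 1)), σ.support.card ≤ s →
    (∀ a, below K (σ a) = below K a) → ∀ t : Fin (m + 1) → F, (∀ a, t a ≠ 0) →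
      DiagIn K fun a => t (σ a) / t a := by
  induction s with
  | zero =>
    intro σ hσ _ t ht
    rw [Nat.le_zero, Finset.card_eq_zero, Equiv.Perm.support_eq_empty_iff] at hσ
    subst hσ
    refine ⟨1, K.one_mem, ?_⟩
    show (1 : Matrix (Fin (m + 1)) (Fin (m + 1)) F) = _
    rw [← Matrix.diagonal_one]
    exact congrArg Matrix.diagonal (funext fun a => by simp [div_self (ht a)])
  | succ s ih =>
    intro σ hσ hfix t ht
    by_cases h1 : σ = 1
    · exact ih σ (by simp [h1]) hfix t ht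
    obtain ⟨a, ha⟩ : ∃ a, σ a ≠ a := by
      by_contra h
      push Not at h
      exact h1 (Equiv.ext h)
    set τ : Equiv.Perm (Fin (m + 1)) := Equiv.swap a (σ a) * σ with hτ
    have hτs : τ.support.card ≤ s :=
      Nat.lt_succ_iff.1 (lt_of_lt_of_le (Equiv.Perm.card_support_swap_mul ha) hσ)
    have hswap : ∀ b, below K (Equiv.swap a (σ a) b) = below K b := by
      intro b
      rcases eq_or_ne b a with rfl | hba
      · rw [Equiv.swap_apply_left, hfix]
      rcases eq_or_ne b (σ a) with rfl | hbs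
      · rw [Equiv.swap_apply_right, hfix]
      · rw [Equiv.swap_apply_of_ne_of_ne hba hbs]
    have hτfix : ∀ b, below K (τ b) = below K b := fun b => by rw [hτ, Equiv.Perm.mul_apply, hswap, hfix]
    have hA : DiagIn K fun b => t (Equiv.swap a (σ a) (τ b)) / t (Equiv.swap a (σ a) b) :=
      ih τ hτs hτfix (fun b => t (Equiv.swap a (σ a) b)) fun b => ht _
    have hB : DiagIn K fun b => t (Equiv.swap a (σ a) b) / t b := by
      refine ⟨SpecialLinearGroup.diag2n ha.symm (t (σ a) / t a) (div_ne_zero (ht _) (ht _)), diag2n_mem _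
        ((rel_iff hU).2 (hfix a).ge) ((rel_iff hU).2 (hfix a).le) _, ?_⟩
      ext x y
      rw [isMono_diag2n ha.symm (div_ne_zero (ht _) (ht _)) x y, Equiv.Perm.one_apply, Matrix.diagonal_apply]
      by_cases hxy : x = y
      · subst hxy
        rcases eq_or_ne x a with rfl | hxa
        · simp
        rcases eq_or_ne x (σ a) with rfl | hxs
        · simp [ha, inv_div]
        · simp [Equiv.swap_apply_of_ne_of_ne hxa hxs, hxa, hxs, div_self (ht x)]
      · simp [hxy]
    obtain ⟨x, hx, hxe⟩ := hA.mul hB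
    refine ⟨x, hx, hxe.trans (congrArg Matrix.diagonal (funext fun b => ?_))⟩
    rw [hτ, Equiv.Perm.mul_apply, Equiv.swap_apply_self, div_mul_div_cancel₀ (ht _)]

theorem exists_mono_all (σ : Equiv.Perm (Fin (m + 1))) :
    ∃ x : SLn, ∃ ε, IsMono x σ ε := by
  obtain ⟨x, -, ε, h⟩ := exists_mono (H := (⊤ : Subgroup SLn)) (fun i => trivial) σ
  exact ⟨x, ε, h⟩

/-- Monomial elements of `K` fix the classes. -/
theorem below_perm (hU : Up (m + 1) F ≤ K) {x : SLn} (hx : x ∈ K) {σ : Equiv.Perm (Fin (m + 1))}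
    {ε : Fin (m + 1) → F} (h : IsMono x σ ε) (a : Fin (m + 1)) : below K (σ a) = below K a := by
  have hstep : ∀ {b c : Fin (m + 1)}, b < c → Rel K (σ b) (σ c) := by
    intro b c hbc hne z
    have e := h.mul_transvection hbc.ne (z * ε c / ε b)
    have hz : ε b * (z * ε c / ε b) / ε c = z := by
      have := h.ne_zero b
      have := h.ne_zero c
      field_simp
    rw [hz] at e
    have hmem := K.mul_mem hx (hU (transvection_mem_up hbc (z * ε c / ε b)))
    rw [e, K.mul_mem_cancel_right hx] at hmem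
    exact hmem
  have hmono1 : Monotone (below K ∘ σ) := fun b c hbc => by
    rcases hbc.eq_or_lt with rfl | h'
    · exact le_rfl
    · exact (rel_iff hU).1 (hstep h')
  have hmono2 : Monotone (below K ∘ (1 : Equiv.Perm (Fin (m + 1)))) := fun b c hbc => by
    rcases hbc.eq_or_lt with rfl | h'
    · exact le_rfl
    · exact (rel_iff hU).1 (rel_of_lt hU h')
  exact congrFun (Tuple.unique_monotone hmono1 hmono2) a

/-- An overgroup of the unitriangular group is normalised by the torus. -/
theorem torus_conj_mem (hU : Up (m + 1) F ≤ K) {t : SLn} (ht : SLProjective.IsDiag t) {x : SLn} (hx : x ∈ K) :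
    t * x * t⁻¹ ∈ K := by
  classical
  choose mm ee hmm using exists_mono_all (F := F) (m := m)
  obtain ⟨u, hu, σ, b, hb, rfl⟩ := exists_bruhat_SL x mm ee hmm
  obtain ⟨t', ht', u', hu', rfl⟩ := exists_torus_mul hb
  set m0 := mm σ * t' with hm0
  have hx0 : m0 ∈ K := by
    rw [show u * mm σ * (t' * u') = u * m0 * u' by rw [hm0]; simp [mul_assoc]] at hx
    rwa [K.mul_mem_cancel_right (hU hu'), K.mul_mem_cancel_left (hU hu)] at hx
  have hmono := (hmm σ).mul ht'.isMono
  rw [mul_one, ← hm0] at hmono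
  have hconj : t * m0 * t⁻¹ ∈ K := by
    obtain ⟨y, hy, hye⟩ := diagIn_perm hU _ σ le_rfl (below_perm hU hx0 hmono) (fun a => t.1 a a) (ht.isMono.ne_zero)
    suffices h : t * m0 * t⁻¹ = m0 * y by rw [h]; exact K.mul_mem hx0 hy
    rw [mul_inv_eq_iff_eq_mul]
    refine Subtype.ext (Matrix.ext fun a c => ?_)
    show (t.1 * m0.1) a c = (m0.1 * y.1 * t.1) a c
    rw [hye, ht.eq_diagonal, Matrix.diagonal_mul, Matrix.mul_diagonal, Matrix.mul_diagonal, hmono a c]
    simp only [Matrix.diagonal_apply_eq]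
    by_cases hac : a = σ c
    · subst hac
      rw [if_pos rfl]
      have := ht.isMono.ne_zero c
      field_simp
    · simp [hac]
  rw [show t * (u * mm σ * (t' * u')) * t⁻¹ = (t * u * t⁻¹) * (t * m0 * t⁻¹) * (t * u' * t⁻¹) by
    rw [hm0]; group]
  exact K.mul_mem (K.mul_mem (hU (ht.conj_upper hu)) hconj) (hU (ht.conj_upper hu'))

/-- The normalizer of the unitriangular group consists of upper triangular elements. -/
theorem mem_normalizer_Up {g : SLn}
    (hg : ∀ x ∈ Up (m + 1) F, g * x * g⁻¹ ∈ Up (m + 1) F) :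
    ∃ u ∈ Up (m + 1) F, ∃ t, SLProjective.IsDiag t ∧ ∃ u' ∈ Up (m + 1) F, g = u * t * u' := by
  classical
  choose mm ee hmm using exists_mono_all (F := F) (m := m)
  obtain ⟨u, hu, σ, b, hb, rfl⟩ := exists_bruhat_SL g mm ee hmm
  obtain ⟨t', ht', u', hu', rfl⟩ := exists_torus_mul hb
  have hmono := (hmm σ).mul ht'.isMono
  rw [mul_one] at hmono
  set m0 := mm σ * t' with hm0
  refine ⟨u, hu, m0, ?_, u', hu', by rw [hm0]; simp [mul_assoc]⟩
  have hmU : ∀ x ∈ Up (m + 1) F, m0 * x * m0⁻¹ ∈ Up (m + 1) F := by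
    intro x hx
    have h := hg (u'⁻¹ * x * u') ((Up _ F).mul_mem ((Up _ F).mul_mem ((Up _ F).inv_mem hu') hx) hu')
    have h2 := (Up _ F).mul_mem ((Up _ F).mul_mem ((Up _ F).inv_mem hu) h) hu
    convert h2 using 1
    rw [hm0]; group
  have hσ : StrictMono σ := by
    intro a c hac
    by_contra hle
    have hlt : σ c < σ a := lt_of_le_of_ne (not_lt.1 hle) (σ.injective.ne hac.ne')
    have h := hmU _ (transvection_mem_up hac 1)
    rw [hmono.mul_transvection hac.ne 1, mul_inv_cancel_right, mem_uniSL_iff] at h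
    have h3 := h (σ a) (σ c) hlt.le
    rw [val_transvection, Matrix.add_apply, Matrix.one_apply, if_neg hlt.ne', zero_add,
      Matrix.single_apply, if_pos ⟨rfl, rfl⟩] at h3
    exact div_ne_zero (mul_ne_zero (hmono.ne_zero a) one_ne_zero) (hmono.ne_zero c) h3
  have hσ1 : σ = 1 := Equiv.ext fun a => congrFun (Tuple.unique_monotone (f := (id : Fin (m + 1) → Fin (m + 1))) (σ := σ) (τ := 1) hσ.monotone monotone_id) a
  intro a c hac
  rw [hmono a c, hσ1, Equiv.Perm.one_apply, if_neg hac]

end CfsgLib.HallGen.Pronormal.LinEven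

namespace CfsgLib.HallGen.Pronormal.LinEven

open Matrix CfsgLib.SLProjective

variable {F : Type*} [Field F] [Fintype F] [CharP F 2] {m : ℕ}

/-- Odd index subgroups of `SLₙ(q)`, `q` even, are pronormal. -/
theorem pronormal_SL (K : Subgroup (SpecialLinearGroup (Fin (m + 1)) F)) (hK : ¬ 2 ∣ K.index) :
    Cfsg.IsPronormal K := by
  classical
  haveI : Fact (Nat.Prime 2) := ⟨Nat.prime_two⟩
  obtain ⟨f, hf, hq⟩ := CfsgLib.Classical.exists_card_eq_prime_pow (F := F) 2
  have hUp : IsPGroup 2 (Up (m + 1) F) :=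
    IsPGroup.of_card (n := f * ((m + 1) * (m + 1 - 1) / 2))
      (by rw [CfsgLib.PSLSteinberg.card_uniSL, hq, pow_mul])
  have hidx : ¬ 2 ∣ (Up (m + 1) F).index := by
    intro hd
    have hmul : (Fintype.card F - 1) * ((Up (m + 1) F).index) =
        ∏ i ∈ Finset.range (m + 1), (Fintype.card F ^ (i + 1) - 1) := by
      have h1 := CfsgLib.Classical.card_SL_mul (F := F) (ι := Fin (m + 1))
      rw [CfsgLib.Classical.card_GL_eq, ← (Up (m + 1) F).card_mul_index, CfsgLib.PSLSteinberg.card_uniSL] at h1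
      have h0 : 0 < Fintype.card F ^ ((m + 1) * (m + 1 - 1) / 2) := pow_pos Fintype.card_pos _
      rw [mul_left_comm] at h1
      exact Nat.eq_of_mul_eq_mul_left h0 h1
    have h2 : ¬ 2 ∣ ∏ i ∈ Finset.range (m + 1), (Fintype.card F ^ (i + 1) - 1) :=
      CfsgLib.Classical.not_dvd_prod Nat.prime_two fun i _ =>
        CfsgLib.Classical.not_dvd_pow_sub_one Nat.prime_two (hq ▸ dvd_pow_self 2 (by omega))
          Fintype.card_pos (by omega)
    exact h2 (hmul ▸ hd.mul_left _)
  let U : Sylow 2 (SpecialLinearGroup (Fin (m + 1)) F) := hUp.toSylow hidx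
  have hU : (U : Subgroup (SpecialLinearGroup (Fin (m + 1)) F)) = Up (m + 1) F := rfl
  obtain ⟨Q, hQ⟩ := Core.PronormalOver.exists_sylow_le_iff.2 hK
  obtain ⟨c, hc⟩ := MulAction.exists_smul_eq (SpecialLinearGroup (Fin (m + 1)) F) Q U
  refine (Core.PronormalOver.pronormal_equiv_iff (MulAut.conj c) K).1 ?_
  set K' := K.map (MulAut.conj c).toMonoidHom with hK'
  have hUK : Up (m + 1) F ≤ K' := by
    rw [← hU, ← hc]
    exact Subgroup.map_mono hQ
  refine pronormal_of_reduce U K' (hU ▸ hUK) fun g hg => ⟨1, one_mem _, ?_⟩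
  rw [hU] at hg
  obtain ⟨u, hu, t, ht, u', hu', rfl⟩ := mem_normalizer_Up fun x hx => (Subgroup.mem_normalizer_iff.1 hg x).1 hx
  have htN : t ∈ Subgroup.normalizer (K' : Set (SpecialLinearGroup (Fin (m + 1)) F)) :=
    CfsgLib.SL2Char.mem_normalizer_of_conj_mem fun x hx => torus_conj_mem hUK ht hx
  have hN := mul_mem (mul_mem (Subgroup.le_normalizer (hUK hu)) htN) (Subgroup.le_normalizer (hUK hu'))
  rw [CfsgLib.Transfer.map_conj_eq_self_iff.2 hN]
  ext y; simp

end CfsgLib.HallGen.Pronormal.LinEven
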