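import Cfsg.Agent.Lib.HallGen.Pronormal.LinBase
import Cfsg.Agent.Lib.HallGen.Pronormal.Good
import Cfsg.Agent.Lib.Classical.Unitary.Matrix
import Cfsg.Prelude.Def_Classical

/-!
# Sylow 2-subgroups of linear and unitary groups in dimension a power of two, odd characteristic

In dimension at least four they are self-normalising in determinant one.
-/

set_option autoImplicit false
set_option linter.all false

namespace CfsgLib.HallGen.Pronormal.Lin

open Matrix

/-- Index types of size a power of two. -/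
def Idx : ℕ → Type
  | 0 => Fin 2
  | k + 1 => Idx k ⊕ Idx k

instance instFintypeIdx : ∀ k, Fintype (Idx k)
  | 0 => inferInstanceAs (Fintype (Fin 2))
  | k + 1 => letI := instFintypeIdx k; inferInstanceAs (Fintype (Idx k ⊕ Idx k))

instance instDecIdx : ∀ k, DecidableEq (Idx k)
  | 0 => inferInstanceAs (DecidableEq (Fin 2))
  | k + 1 => letI := instDecIdx k; inferInstanceAs (DecidableEq (Idx k ⊕ Idx k))

theorem card_idx : ∀ k, Fintype.card (Idx k) = 2 ^ (k + 1)
  | 0 => Fintype.card_fin 2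
  | k + 1 => by
    rw [show Fintype.card (Idx (k + 1)) = Fintype.card (Idx k ⊕ Idx k) from rfl, Fintype.card_sum,
      card_idx k, ← two_mul, ← pow_succ']

instance instNonemptyIdx (k : ℕ) : Nonempty (Idx k) :=
  Fintype.card_pos_iff.1 (by rw [card_idx]; positivity)

theorem even_idx (k : ℕ) : Even (Fintype.card (Idx k)) := by
  rw [card_idx, pow_succ']; exact ⟨2 ^ k, two_mul _⟩

variable {F : Type*} [Field F]

/-! ### Elements -/

/-- An element of 2-power order with prescribed powers. -/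
theorem exists_two_gen {K : Type*} [Field K] [Fintype K] (n l : ℕ) (hN : Fintype.card K - 1 = n * l)
    (hn : n % 4 = 2) (hl : l % 4 = 0) (hl0 : 0 < l) :
    ∃ u : Kˣ, u ∈ twoPart K ∧ u ^ l = -1 ∧ u ^ (2 * n) ≠ 1 := by
  classical
  obtain ⟨e, m, hm, rfl⟩ := Nat.exists_eq_two_pow_mul_odd hl0.ne'
  obtain ⟨g, hg⟩ := IsCyclic.exists_generator (α := Kˣ)
  have hord : orderOf g = n * (2 ^ e * m) := by
    rw [orderOf_eq_card_of_forall_mem_zpowers hg, Nat.card_eq_fintype_card, Fintype.card_units, hN]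
  have he : 2 ≤ e := by
    by_contra h
    have hm' := Nat.odd_iff.1 hm
    interval_cases e <;> omega
  have hm0 : 0 < m := Nat.pos_of_ne_zero fun h => by subst h; simp at hm
  have hc : n = 2 * (n / 2) := by omega
  set c := n / 2 with hcdef
  have hc0 : 0 < c := by omega
  have hcodd : c % 2 = 1 := by omega
  set u := g ^ (c * m) with hu
  have hou : orderOf u = 2 ^ (e + 1) := by
    rw [hu, orderOf_pow' _ (by positivity), hord, hc]
    rw [show 2 * c * (2 ^ e * m) = 2 ^ (e + 1) * (c * m) by ring,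
      Nat.gcd_eq_right (dvd_mul_left _ _), Nat.mul_div_cancel _ (by positivity)]
  have hneg : u ^ 2 ^ e = -1 := by
    have h1 : (u ^ 2 ^ e) ^ 2 = 1 := by rw [← pow_mul, ← pow_succ, ← hou, pow_orderOf_eq_one]
    have h2 : u ^ 2 ^ e ≠ 1 := fun h => by
      have h' := orderOf_dvd_of_pow_eq_one h
      rw [hou] at h'
      have := Nat.le_of_dvd (by positivity) h'
      rw [pow_succ] at this
      have : 0 < 2 ^ e := by positivity
      omega
    have h3 : ((u ^ 2 ^ e : Kˣ) : K) ^ 2 = 1 := by rw [← Units.val_pow_eq_pow_val, h1, Units.val_one]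
    rcases sq_eq_one_iff.1 h3 with h | h
    · exact absurd (Units.ext h) h2
    · exact Units.ext (by simpa using h)
  refine ⟨u, ⟨e + 1, by rw [← hou, pow_orderOf_eq_one]⟩, by rw [pow_mul, hneg, hm.neg_one_pow], fun h => ?_⟩
  have h' := orderOf_dvd_of_pow_eq_one h
  rw [hou] at h'
  have h8 : 2 ^ 3 ∣ 2 * n := (pow_dvd_pow 2 (by omega : 3 ≤ e + 1)).trans h'
  omega

theorem exists_i {K : Type*} [Field K] [Fintype K] (h : Fintype.card K % 4 = 1) :
    ∃ i : Kˣ, i * i = -1 ∧ i ∈ twoPart K := by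
  obtain ⟨i, hi⟩ := (FiniteField.isSquare_neg_one_iff (F := K)).2 (by omega)
  have hi0 : i ≠ 0 := fun h0 => by rw [h0, mul_zero] at hi; exact neg_ne_zero.2 one_ne_zero hi
  have hii : Units.mk0 i hi0 * Units.mk0 i hi0 = -1 := Units.ext (by simpa using hi.symm)
  refine ⟨Units.mk0 i hi0, hii, 2, ?_⟩
  rw [show (2 : ℕ) ^ 2 = 2 * 2 by norm_num, pow_mul, pow_two, pow_two, hii, neg_one_mul, neg_neg]

theorem neg_one_ne_one_units {K : Type*} [Field K] (h2 : (2 : K) ≠ 0) : (-1 : Kˣ) ≠ 1 := fun h => h2 (by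
  have h' := congrArg Units.val h
  simp at h'
  linear_combination -h')

theorem neg_one_mem_twoPart {K : Type*} [Field K] : (-1 : Kˣ) ∈ twoPart K := ⟨1, by simp⟩

/-! ### Hyperbolic basis -/

section Rot

variable {K : Type*} [Field K]

/-- The change of basis. -/
def hyp (i : Kˣ) (h2 : (2 : K) ≠ 0) : GL (Fin 2) K :=
  GeneralLinearGroup.mkOfDetNeZero !![(1 : K), 1; (i : K), -(i : K)] (by
    rw [Matrix.det_fin_two]
    simp
    intro h
    have : (2 : K) * i = 0 := by linear_combination -h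
    exact (mul_ne_zero h2 i.ne_zero) this)

theorem hyp_val (i : Kˣ) (h2 : (2 : K) ≠ 0) : (hyp i h2).val = !![(1 : K), 1; (i : K), -(i : K)] := rfl

variable {Γ : Subgroup (GL (Fin 2) F)}

theorem sw_mem_embed (f : F →+* K) (i : Kˣ) (h2 : (2 : K) ≠ 0) {δ : GL (Fin 2) F}
    (hδ : δ ∈ Γ) (hval : δ.val = !![1, 0; 0, -1]) : sw ∈ Γ.map (embed f (hyp i h2)) := by
  refine ⟨δ, hδ, ?_⟩
  rw [embed_apply, mul_assoc, inv_mul_eq_iff_eq_mul]
  refine Units.ext ?_
  rw [Units.val_mul, Units.val_mul, sw_val, hyp_val,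
    show (GeneralLinearGroup.map f δ).val = δ.val.map f from rfl, hval]
  ext x y; fin_cases x <;> fin_cases y <;> simp [Matrix.mul_apply, Fin.sum_univ_two]

theorem dia_mem_embed (f : F →+* K) (i : Kˣ) (hi : i * i = -1) (h2 : (2 : K) ≠ 0) (a b : Kˣ) (r s : F)
    (hra : f r + i * f s = a) (hrb : f r - i * f s = b)
    (hΓ : ∀ g : GL (Fin 2) F, g.val = !![r, s; -s, r] → g ∈ Γ) : dia (a, b) ∈ Γ.map (embed f (hyp i h2)) := by
  have hi' : (i : K) * i = -1 := by simpa using congrArg Units.val hi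
  have hdet : r * r + s * s ≠ 0 := fun h => by
    have h' : f r * f r + f s * f s = 0 := by rw [← map_mul, ← map_mul, ← map_add, h, map_zero]
    exact mul_ne_zero a.ne_zero b.ne_zero (by rw [← hra, ← hrb]; linear_combination h' - f s * f s * hi')
  let g : GL (Fin 2) F := GeneralLinearGroup.mkOfDetNeZero !![r, s; -s, r] (by
    rw [Matrix.det_fin_two]; simpa using hdet)
  refine ⟨g, hΓ g rfl, ?_⟩
  rw [embed_apply, mul_assoc, inv_mul_eq_iff_eq_mul]
  refine Units.ext ?_
  rw [Units.val_mul, Units.val_mul, dia_val, hyp_val,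
    show (GeneralLinearGroup.map f g).val = (!![r, s; -s, r]).map f from rfl]
  ext x y
  fin_cases x <;> fin_cases y <;> simp [Matrix.mul_apply, Fin.sum_univ_two]
  · linear_combination hra
  · linear_combination hrb
  · linear_combination (i : K) * hra - f s * hi'
  · linear_combination -(i : K) * hrb - f s * hi'

end Rot

/-! ### The general linear groups -/

variable [Fintype F]

theorem two_ne (hodd : Odd (Fintype.card F)) : (2 : F) ≠ 0 := Ring.two_ne_zero fun h => by
  have h1 := FiniteField.even_card_iff_char_two.1 h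
  have h3 := Nat.odd_iff.1 hodd
  omega

theorem level_GL_two_ext {K : Type*} [Field K] [Fintype K] (f : F →+* K) (i : Kˣ) (hi : i * i = -1)
    (h4 : Fintype.card F % 4 = 3) (hcard : Fintype.card K = Fintype.card F ^ 2) (h2K : (2 : K) ≠ 0)
    (hrep : ∀ z : K, ∃ r s : F, f r + i * f s = z) : Nonempty (Level (⊤ : Subgroup (GL (Fin 2) F))) := by
  have hiv : (i : K) * i = -1 := by simpa using congrArg Units.val hi
  obtain ⟨p, hchar⟩ := CharP.exists F
  haveI := hchar
  obtain ⟨d, hp, hd⟩ := FiniteField.card F p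
  haveI : Fact p.Prime := ⟨hp⟩
  haveI : CharP K p := charP_of_injective_ringHom f.injective p
  have hiq : (i : K) ^ Fintype.card F = -(i : K) := by
    rw [show Fintype.card F = 2 * (Fintype.card F / 2) + 1 by omega, pow_add, pow_mul, pow_two, hiv,
      pow_one, Odd.neg_one_pow (Nat.odd_iff.2 (by omega)), neg_one_mul]
  have hfrob : ∀ r s : F, (f r + i * f s) ^ Fintype.card F = f r - i * f s := by
    intro r s
    have hr : f r ^ Fintype.card F = f r := by rw [← map_pow, FiniteField.pow_card]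
    have hs : f s ^ Fintype.card F = f s := by rw [← map_pow, FiniteField.pow_card]
    have hadd : (f r + i * f s) ^ Fintype.card F = f r ^ Fintype.card F + (i * f s) ^ Fintype.card F := by
      rw [hd]; exact add_pow_char_pow (f r) ((i : K) * f s) (p := p) _
    rw [hadd, mul_pow, hr, hs, hiq]; ring
  obtain ⟨u, hu, hul, hun⟩ := exists_two_gen (K := K) (Fintype.card F - 1) (Fintype.card F + 1)
    (by rw [hcard, mul_comm, ← Nat.sq_sub_sq, one_pow]) (by omega) (by omega) (by omega)
  obtain ⟨r, s, hrs⟩ := hrep (u : K)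
  have hmem : dia (u, u ^ Fintype.card F) ∈ (⊤ : Subgroup (GL (Fin 2) F)).map (embed f (hyp i h2K)) :=
    dia_mem_embed f i hi h2K _ _ r s hrs (by rw [Units.val_pow_eq_pow_val, ← hrs, hfrob]) fun g _ => trivial
  let δ : GL (Fin 2) F := GeneralLinearGroup.mkOfDetNeZero !![1, 0; 0, -1] (by simp [Matrix.det_fin_two])
  refine ⟨(levelMono (sw_mem_embed f i h2K (δ := δ) (Subgroup.mem_top δ) rfl) u (u ^ Fintype.card F) hu
    (pow_mem hu _) hmem ?_ u (u ^ Fintype.card F) hu (pow_mem hu _) ?_ hmem).comap f (hyp i h2K)⟩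
  · intro h
    apply hun
    rw [← pow_mul] at h
    have h1 : u ^ (2 * (Fintype.card F - 1)) * u ^ 2 = u ^ 2 := by
      rw [← pow_add]
      conv_rhs => rw [h]
      congr 1
      omega
    exact mul_eq_right.1 h1
  · rw [← hul, pow_succ']

theorem exists_level_GL_two (hodd : Odd (Fintype.card F)) : Nonempty (Level (⊤ : Subgroup (GL (Fin 2) F))) := by
  classical
  have h2 : (2 : F) ≠ 0 := two_ne hodd
  have hmod := Nat.odd_iff.1 hodd
  rcases (by omega : Fintype.card F % 4 = 1 ∨ Fintype.card F % 4 = 3) with h4 | h4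
  · obtain ⟨i, hi, hi2⟩ := exists_i h4
    refine ⟨levelMono (Γ := ⊤) trivial i 1 hi2 (one_mem _) trivial ?_ (-1) 1 neg_one_mem_twoPart (one_mem _)
      (mul_one _) trivial⟩
    rw [one_pow, pow_two, hi]
    exact neg_one_ne_one_units h2
  · -- quadratic extension
    have hns : ∀ b : F, b ^ 2 ≠ -1 := fun b hb => (FiniteField.isSquare_neg_one_iff (F := F)).1 ⟨b, by rw [← hb, pow_two]⟩ h4
    haveI : Fact (Irreducible (Polynomial.X ^ 2 - Polynomial.C (-1 : F))) :=
      ⟨X_pow_sub_C_irreducible_of_prime Nat.prime_two hns⟩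
    let K := AdjoinRoot (Polynomial.X ^ 2 - Polynomial.C (-1 : F))
    have hmon : (Polynomial.X ^ 2 - Polynomial.C (-1 : F)).Monic := Polynomial.monic_X_pow_sub_C _ two_ne_zero
    let B := AdjoinRoot.powerBasis' hmon
    have hdim : B.dim = 2 := by
      simp only [B, AdjoinRoot.powerBasis'_dim]
      exact Polynomial.natDegree_X_pow_sub_C
    haveI : Module.Finite F K := B.finite
    haveI : Finite K := Module.finite_of_finite F
    letI : Fintype K := Fintype.ofFinite K
    have hcard : Fintype.card K = Fintype.card F ^ 2 := by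
      rw [Module.card_eq_pow_finrank (K := F) (V := K), B.finrank, hdim]
    let f : F →+* K := AdjoinRoot.of _
    have h2K : (2 : K) ≠ 0 := fun h => h2 (f.injective (by rw [map_ofNat, map_zero]; exact h))
    have hroot : (AdjoinRoot.root (Polynomial.X ^ 2 - Polynomial.C (-1 : F)) : K) ^ 2 = -1 := by
      have h := AdjoinRoot.eval₂_root (Polynomial.X ^ 2 - Polynomial.C (-1 : F))
      simp only [Polynomial.eval₂_sub, Polynomial.eval₂_X_pow, Polynomial.eval₂_C, map_neg, map_one, Polynomial.eval₂_neg, Polynomial.eval₂_one] at h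
      exact sub_eq_zero.1 h
    have hi0 : (AdjoinRoot.root (Polynomial.X ^ 2 - Polynomial.C (-1 : F)) : K) ≠ 0 := fun h => by
      rw [h] at hroot; simp at hroot
    set i : Kˣ := Units.mk0 _ hi0 with hidef
    have hi : i * i = -1 := Units.ext (by rw [Units.val_mul, ← pow_two]; simpa [hidef] using hroot)
    have hrep : ∀ z : K, ∃ r s : F, f r + i * f s = z := by
      intro z
      obtain ⟨P, hP, rfl⟩ := B.exists_eq_aeval z
      rw [hdim] at hP
      obtain ⟨a, b, rfl⟩ := Polynomial.exists_eq_X_add_C_of_natDegree_le_one (Nat.lt_succ_iff.1 hP)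
      refine ⟨b, a, ?_⟩
      simp [B, f, hidef, AdjoinRoot.powerBasis'_gen, AdjoinRoot.algebraMap_eq]
      ring
    exact level_GL_two_ext f i hi h4 hcard h2K hrep

theorem exists_level_GL (hodd : Odd (Fintype.card F)) : ∀ k, Nonempty (Level (⊤ : Subgroup (GL (Idx k) F)))
  | 0 => exists_level_GL_two hodd
  | k + 1 => by
    obtain ⟨L⟩ := exists_level_GL hodd k
    exact ⟨L.double (Δ := (⊤ : Subgroup (GL (Idx k ⊕ Idx k) F)))
      ⟨fun _ _ => by simp, trivial, trivial, even_idx k,
        two_ne hodd⟩⟩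

/-! ### Self-normalising Sylow subgroups -/

/-- A self-normalising 2-subgroup is a Sylow subgroup; odd index subgroups are then pronormal. -/
theorem good_of_self_normalising {G : Type*} [Group G] [Finite G] (P : Subgroup G) (hP : IsPGroup 2 P)
    (hN : Subgroup.normalizer (P : Set G) ≤ P) : Good G := by
  haveI : Fact (Nat.Prime 2) := ⟨Nat.prime_two⟩
  obtain ⟨Q, hPQ⟩ := hP.exists_le_sylow
  have hQP : (Q : Subgroup G) = P := by
    refine le_antisymm ?_ hPQ
    rw [← Subgroup.subgroupOf_eq_top]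
    haveI : Group.IsNilpotent (Q : Subgroup G) := Q.isPGroup'.isNilpotent
    refine (normalizerCondition_iff_only_full_group_self_normalizing.1 normalizerCondition_of_isNilpotent _ ?_)
    refine le_antisymm (fun x hx => ?_) Subgroup.le_normalizer
    refine hN (Subgroup.mem_normalizer_iff.2 fun y => ?_)
    constructor
    · intro hy
      exact (Subgroup.mem_normalizer_iff.1 hx ⟨y, hPQ hy⟩).1 hy
    · intro hy
      have hyQ : y ∈ (Q : Subgroup G) := by
        have h1 := mul_mem (mul_mem (inv_mem x.2) (hPQ hy)) x.2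
        simpa [mul_assoc] using h1
      exact (Subgroup.mem_normalizer_iff.1 hx ⟨y, hyQ⟩).2 hy
  have hself : Subgroup.normalizer ((Q : Subgroup G) : Set G) = Q :=
    le_antisymm (by rw [hQP]; exact hN) Subgroup.le_normalizer
  refine good_of_sylow Q (fun K hK => (Core.PronormalOver.pronormal_of_selfNormalizing Q hself hK).2)
    fun u hu hu' => ?_
  rw [hself] at hu
  exact absurd hu hu'

theorem good_of_double {K : Type*} [Field K] [Finite K] {ι : Type*} [Fintype ι] [DecidableEq ι] [Nonempty ι]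
    {Γ : Subgroup (GL ι K)} {k : ℕ} (L : Level Γ) {Δ : Subgroup (GL (ι ⊕ ι) K)} (D : Doubles Γ Δ)
    (hι : Fintype.card (ι ⊕ ι) = 2 ^ k) {G : Type*} [Group G] [Finite G] (ψ : G →* GL (ι ⊕ ι) K)
    (hψ : Function.Injective ψ)
    (hrange : ∀ g, g ∈ ψ.range ↔ g ∈ Δ ∧ GeneralLinearGroup.det g = 1) : Good G := by
  haveI : Finite (GL (ι ⊕ ι) K) := Finite.of_injective Units.val Units.val_injective
  refine good_of_self_normalising ((L.double D).W.comap ψ) ((L.double D).pg.comap_of_injective ψ hψ) fun x hx => ?_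
  refine L.double_det_one D hι ((hrange _).1 ⟨x, rfl⟩).1 ((hrange _).1 ⟨x, rfl⟩).2 fun p hp hd => ?_
  obtain ⟨y, rfl⟩ := (hrange p).2 ⟨(L.double D).le hp, hd⟩
  have := (Subgroup.mem_normalizer_iff.1 hx y).1 hp
  rwa [Subgroup.mem_comap, map_mul, map_mul, map_inv] at this

/-- Odd index subgroups of `PSLₙ(q)`, `n = 2ʷ ≥ 4`, `q` odd. -/
theorem good_PSL {w : ℕ} (hw : 2 ≤ w) (hodd : Odd (Fintype.card F)) :
    Good (ProjectiveSpecialLinearGroup (Fin (2 ^ w)) F) := by
  classical
  haveI : Fact (Nat.Prime 2) := ⟨Nat.prime_two⟩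
  obtain ⟨k, rfl⟩ : ∃ k, w = k + 2 := ⟨w - 2, by omega⟩
  have hc : Fintype.card (Idx k ⊕ Idx k) = 2 ^ (k + 2) := card_idx (k + 1)
  let e : Fin (2 ^ (k + 2)) ≃ Idx k ⊕ Idx k := (Fintype.equivFinOfCardEq hc).symm
  let ψ : SpecialLinearGroup (Fin (2 ^ (k + 2))) F →* GL (Idx k ⊕ Idx k) F :=
    (Units.mapEquiv (Matrix.reindexAlgEquiv F F e).toMulEquiv).toMonoidHom.comp SpecialLinearGroup.toGL
  have hψ : Function.Injective ψ :=
    (Units.mapEquiv (Matrix.reindexAlgEquiv F F e).toMulEquiv).injective.comp SpecialLinearGroup.toGL_injective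
  have hdet : ∀ g, GeneralLinearGroup.det (Units.mapEquiv (Matrix.reindexAlgEquiv F F e).toMulEquiv g) =
      GeneralLinearGroup.det g := fun g => Units.ext (Matrix.det_reindexAlgEquiv F F e g.val)
  obtain ⟨L⟩ := exists_level_GL hodd k
  have hgood : Good (SpecialLinearGroup (Fin (2 ^ (k + 2))) F) :=
    good_of_double L (Δ := ⊤) ⟨fun _ _ => by simp, trivial, trivial, even_idx k,
      two_ne hodd⟩ hc ψ hψ fun g => by
      constructor
      · rintro ⟨x, rfl⟩
        exact ⟨trivial, (hdet _).trans (Units.ext x.2)⟩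
      · rintro ⟨-, hg⟩
        obtain ⟨g, rfl⟩ := (Units.mapEquiv (Matrix.reindexAlgEquiv F F e).toMulEquiv).surjective g
        rw [hdet] at hg
        exact ⟨⟨g.val, congrArg Units.val hg⟩,
          congrArg (Units.mapEquiv (Matrix.reindexAlgEquiv F F e).toMulEquiv) (Units.ext rfl)⟩
  refine hgood.map (QuotientGroup.mk' _) (QuotientGroup.mk'_surjective _) ?_
  rw [QuotientGroup.ker_mk']
  rintro ⟨c, hc⟩
  obtain ⟨r, hr, hrc⟩ := Matrix.SpecialLinearGroup.mem_center_iff.1 hc
  refine ⟨k + 2, Subtype.ext (Subtype.ext ?_)⟩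
  show ((c ^ 2 ^ (k + 2) : SpecialLinearGroup (Fin (2 ^ (k + 2))) F)).val = 1
  rw [Matrix.SpecialLinearGroup.coe_pow, ← hrc, ← map_pow]
  rw [Fintype.card_fin] at hr
  rw [hr, map_one]

end CfsgLib.HallGen.Pronormal.Lin
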