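import Mathlib
import Cfsg.Agent.Lib.Known.SL2Char.SylowTwo

/-!
# Sylow 2-subgroups of linear groups in dimension a power of two, the doubling step

A level is a 2-group `W` in a group of invertible matrices which absorbs the scalars of 2-power order, is
normalised only by its products with scalars, and whose elements of determinant one have only scalar commutant.
Doubling the dimension gives again a level, and the elements of determinant one of a level then form a
self-normalising subgroup of the group of elements of determinant one.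
-/

set_option autoImplicit false
set_option linter.all false

namespace CfsgLib.HallGen.Pronormal.Lin

open Matrix

variable {K : Type*} [Field K] {ι : Type*} [Fintype ι] [DecidableEq ι]

/-- Scalar matrices. -/
def sc : Kˣ →* GL ι K := Units.map (Matrix.scalar ι).toMonoidHom

theorem sc_val (c : Kˣ) : (sc c : GL ι K).val = Matrix.scalar ι (c : K) := rfl

theorem sc_comm (c : Kˣ) (g : GL ι K) : sc c * g = g * sc c :=
  Units.ext ((Matrix.scalar_commute (c : K) (fun r => Commute.all _ r) g.val).eq)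

theorem sc_injective [Nonempty ι] : Function.Injective (sc : Kˣ →* GL ι K) := fun a b h =>
  Units.ext (Matrix.scalar_inj.1 (congrArg Units.val h))

theorem val_sc_neg_one : (sc (-1) : GL ι K).val = -1 := by
  rw [sc_val, Units.val_neg, Units.val_one, map_neg, map_one]

theorem val_inv_mul (g : GL ι K) : (g⁻¹).val * g.val = 1 := g.inv_val

/-- A scalar value forces a scalar element. -/
theorem eq_sc_of_val [Nonempty ι] {g : GL ι K} {r : K} (h : g.val = Matrix.scalar ι r) :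
    ∃ c : Kˣ, g = sc c := by
  have hr : r ≠ 0 := by
    rintro rfl
    rw [map_zero] at h
    have h1 := val_inv_mul g
    rw [h, mul_zero] at h1
    exact zero_ne_one h1
  exact ⟨Units.mk0 r hr, Units.ext h⟩

variable (Γ : Subgroup (GL ι K))

/-- A level. -/
structure Level where
  W : Subgroup (GL ι K)
  le : W ≤ Γ
  pg : IsPGroup 2 W
  norm : ∀ g ∈ Γ, (∀ w ∈ W, g * w * g⁻¹ ∈ W) → ∃ c : Kˣ, sc c ∈ Γ ∧ g * (sc c)⁻¹ ∈ W
  scal : ∀ c : Kˣ, sc c ∈ Γ → (∃ e, c ^ 2 ^ e = 1) → sc c ∈ W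
  comm : ∀ M : Matrix ι ι K, (∀ w ∈ W, GeneralLinearGroup.det w = 1 → w.val * M = M * w.val) →
    ∃ r, M = Matrix.scalar ι r

/-! ### The doubled dimension -/

/-- Block diagonal matrices. -/
def blockHom : Matrix ι ι K × Matrix ι ι K →* Matrix (ι ⊕ ι) (ι ⊕ ι) K where
  toFun p := Matrix.fromBlocks p.1 0 0 p.2
  map_one' := Matrix.fromBlocks_one
  map_mul' p r := by rw [Matrix.fromBlocks_multiply]; simp

/-- Block diagonal elements. -/
def bd : GL ι K × GL ι K →* GL (ι ⊕ ι) K :=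
  (Units.map (blockHom (K := K) (ι := ι))).comp MulEquiv.prodUnits.symm.toMonoidHom

theorem bd_val (a b : GL ι K) : (bd (a, b)).val = Matrix.fromBlocks a.val 0 0 b.val := rfl

theorem bd_inj {a b a' b' : GL ι K} (h : bd (a, b) = bd (a', b')) : a = a' ∧ b = b' := by
  have h' := congrArg Units.val h
  rw [bd_val, bd_val, Matrix.fromBlocks_inj] at h'
  exact ⟨Units.ext h'.1, Units.ext h'.2.2.2⟩

theorem sc_sum (c : Kˣ) : (sc c : GL (ι ⊕ ι) K) = bd (sc c, sc c) := Units.ext (by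
  rw [bd_val, sc_val, sc_val, Matrix.scalar_apply, Matrix.scalar_apply, Matrix.fromBlocks_diagonal]
  congr 1
  funext i; cases i <;> rfl)

theorem det_bd (a b : GL ι K) :
    GeneralLinearGroup.det (bd (a, b)) = GeneralLinearGroup.det a * GeneralLinearGroup.det b :=
  Units.ext (by
    rw [GeneralLinearGroup.val_det_apply, bd_val, Matrix.det_fromBlocks_zero₁₂]
    rfl)

/-- The involution `diag(1,-1)`. -/
def zz : GL (ι ⊕ ι) K := bd (1, sc (-1))

/-- The element interchanging the halves. -/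
def tt : GL (ι ⊕ ι) K where
  val := Matrix.fromBlocks 0 1 (-1) 0
  inv := Matrix.fromBlocks 0 (-1) 1 0
  val_inv := by rw [Matrix.fromBlocks_multiply]; simp [Matrix.fromBlocks_one]
  inv_val := by rw [Matrix.fromBlocks_multiply]; simp [Matrix.fromBlocks_one]

theorem tt_val : (tt : GL (ι ⊕ ι) K).val = Matrix.fromBlocks 0 1 (-1) 0 := rfl

theorem tt_sq : (tt : GL (ι ⊕ ι) K) * tt = bd (sc (-1), sc (-1)) := Units.ext (by
  rw [Units.val_mul, tt_val, bd_val, val_sc_neg_one, Matrix.fromBlocks_multiply]; simp)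

theorem tt_bd (a b : GL ι K) : tt * bd (a, b) = bd (b, a) * tt := Units.ext (by
  rw [Units.val_mul, Units.val_mul, tt_val, bd_val, bd_val, Matrix.fromBlocks_multiply,
    Matrix.fromBlocks_multiply]; simp)

theorem tt_conj (a b : GL ι K) : tt * bd (a, b) * tt⁻¹ = bd (b, a) := by
  rw [tt_bd, mul_inv_cancel_right]

theorem det_tt : GeneralLinearGroup.det (tt : GL (ι ⊕ ι) K) = 1 := by
  have e : Matrix.fromBlocks (0 : Matrix ι ι K) 1 (-1) 0 =
      Matrix.fromBlocks (1 : Matrix ι ι K) 1 0 (1 : Matrix ι ι K) *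
        Matrix.fromBlocks (1 : Matrix ι ι K) 0 (-1) (1 : Matrix ι ι K) *
        Matrix.fromBlocks (1 : Matrix ι ι K) 1 0 (1 : Matrix ι ι K) := by
    rw [Matrix.fromBlocks_multiply, Matrix.fromBlocks_multiply]; simp
  refine Units.ext ?_
  rw [GeneralLinearGroup.val_det_apply, tt_val, e, Matrix.det_mul, Matrix.det_mul,
    Matrix.det_fromBlocks_zero₂₁, Matrix.det_fromBlocks_zero₁₂]
  simp

theorem bd_tt_ne [Nonempty ι] (a b a' b' : GL ι K) : bd (a, b) * tt ≠ bd (a', b') := by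
  intro h
  have h' := congrArg Units.val h
  rw [Units.val_mul, bd_val, tt_val, bd_val, Matrix.fromBlocks_multiply, Matrix.fromBlocks_inj] at h'
  have h1 : a.val = 0 := by simpa using h'.2.1
  have h2 := val_inv_mul a
  rw [h1, mul_zero] at h2
  exact zero_ne_one h2

/-- The doubled 2-group. -/
def wreath (W : Subgroup (GL ι K)) (hneg : sc (-1) ∈ W) : Subgroup (GL (ι ⊕ ι) K) where
  carrier := {x | ∃ a ∈ W, ∃ b ∈ W, x = bd (a, b) ∨ x = bd (a, b) * tt}
  one_mem' := ⟨1, W.one_mem, 1, W.one_mem, Or.inl (map_one bd).symm⟩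
  mul_mem' := by
    rintro x y ⟨a, ha, b, hb, hx⟩ ⟨c, hc, d, hd, hy⟩
    rcases hx with rfl | rfl <;> rcases hy with rfl | rfl
    · exact ⟨a * c, W.mul_mem ha hc, b * d, W.mul_mem hb hd, Or.inl (map_mul bd (a, b) (c, d)).symm⟩
    · exact ⟨a * c, W.mul_mem ha hc, b * d, W.mul_mem hb hd, Or.inr (by
        rw [← mul_assoc, ← map_mul]; rfl)⟩
    · exact ⟨a * d, W.mul_mem ha hd, b * c, W.mul_mem hb hc, Or.inr (by
        rw [mul_assoc, tt_bd, ← mul_assoc, ← map_mul]; rfl)⟩
    · refine ⟨a * d * sc (-1), W.mul_mem (W.mul_mem ha hd) hneg, b * c * sc (-1),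
        W.mul_mem (W.mul_mem hb hc) hneg, Or.inl ?_⟩
      rw [show bd (a, b) * tt * (bd (c, d) * tt) = bd (a, b) * (tt * bd (c, d)) * tt by group, tt_bd,
        mul_assoc (bd (a, b)), mul_assoc (bd (d, c)), tt_sq, ← map_mul, ← map_mul]
      simp [mul_assoc]
  inv_mem' := by
    rintro x ⟨a, ha, b, hb, rfl | rfl⟩
    · exact ⟨a⁻¹, W.inv_mem ha, b⁻¹, W.inv_mem hb, Or.inl (map_inv bd (a, b)).symm⟩
    · refine ⟨b⁻¹ * sc (-1), W.mul_mem (W.inv_mem hb) hneg, a⁻¹ * sc (-1),
        W.mul_mem (W.inv_mem ha) hneg, Or.inr (inv_eq_of_mul_eq_one_right ?_)⟩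
      rw [show bd (a, b) * tt * (bd (b⁻¹ * sc (-1), a⁻¹ * sc (-1)) * tt) =
          bd (a, b) * (tt * bd (b⁻¹ * sc (-1), a⁻¹ * sc (-1))) * tt by group, tt_bd,
        mul_assoc (bd (a, b)), mul_assoc (bd (a⁻¹ * sc (-1), b⁻¹ * sc (-1))), tt_sq, ← map_mul, ← map_mul]
      have hsc : (sc (-1) : GL ι K) * sc (-1) = 1 := by rw [← map_mul]; simp
      simp only [Prod.mk_mul_mk, mul_assoc, hsc, mul_one, mul_inv_cancel]
      exact map_one bd

variable {Γ}

theorem bd_mem_wreath [Nonempty ι] {W : Subgroup (GL ι K)} {hneg : sc (-1) ∈ W} {a b : GL ι K} :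
    bd (a, b) ∈ wreath W hneg ↔ a ∈ W ∧ b ∈ W := by
  refine ⟨?_, fun h => ⟨a, h.1, b, h.2, Or.inl rfl⟩⟩
  rintro ⟨a', ha, b', hb, h | h⟩
  · obtain ⟨rfl, rfl⟩ := bd_inj h
    exact ⟨ha, hb⟩
  · exact absurd h.symm (bd_tt_ne _ _ _ _)

theorem tt_mem_wreath {W : Subgroup (GL ι K)} {hneg : sc (-1) ∈ W} : tt ∈ wreath W hneg :=
  ⟨1, W.one_mem, 1, W.one_mem, Or.inr (by rw [Prod.mk_one_one, map_one, one_mul])⟩

theorem isPGroup_wreath {W : Subgroup (GL ι K)} (hW : IsPGroup 2 W) (hneg : sc (-1) ∈ W) :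
    IsPGroup 2 (wreath W hneg) := by
  have key : ∀ a ∈ W, ∀ b ∈ W, ∃ e, bd (a, b) ^ 2 ^ e = 1 := by
    intro a ha b hb
    obtain ⟨e, he⟩ := hW ⟨a, ha⟩
    obtain ⟨f, hf⟩ := hW ⟨b, hb⟩
    have he' : a ^ 2 ^ e = 1 := congrArg Subtype.val he
    have hf' : b ^ 2 ^ f = 1 := congrArg Subtype.val hf
    refine ⟨e + f, ?_⟩
    rw [← map_pow, Prod.pow_mk, pow_add, pow_mul, he', one_pow, Nat.mul_comm, pow_mul, hf', one_pow,
      Prod.mk_one_one, map_one]
  rintro ⟨x, a, ha, b, hb, rfl | rfl⟩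
  · obtain ⟨e, he⟩ := key a ha b hb
    exact ⟨e, Subtype.ext he⟩
  · obtain ⟨e, he⟩ := key _ (W.mul_mem (W.mul_mem ha hb) hneg) _ (W.mul_mem (W.mul_mem hb ha) hneg)
    refine ⟨e + 1, Subtype.ext ?_⟩
    show (bd (a, b) * tt) ^ 2 ^ (e + 1) = 1
    rw [pow_succ', pow_mul, pow_two]
    convert he using 2
    rw [show bd (a, b) * tt * (bd (a, b) * tt) = bd (a, b) * (tt * bd (a, b)) * tt by group, tt_bd,
      mul_assoc (bd (a, b)), mul_assoc (bd (b, a)), tt_sq, ← map_mul, ← map_mul]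
    simp [mul_assoc]

/-- The doubling hypotheses. -/
structure Doubles (Γ : Subgroup (GL ι K)) (Δ : Subgroup (GL (ι ⊕ ι) K)) : Prop where
  bd_iff : ∀ a b, bd (a, b) ∈ Δ ↔ a ∈ Γ ∧ b ∈ Γ
  tt_mem : tt ∈ Δ
  neg_mem : sc (-1) ∈ Γ
  even : Even (Fintype.card ι)
  two : (2 : K) ≠ 0

theorem Level.neg_one_mem (L : Level Γ) {Δ : Subgroup (GL (ι ⊕ ι) K)} (D : Doubles Γ Δ) :
    sc (-1) ∈ L.W :=
  L.scal _ D.neg_mem ⟨1, by simp⟩

theorem det_neg_one {Δ : Subgroup (GL (ι ⊕ ι) K)} (D : Doubles Γ Δ) :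
    GeneralLinearGroup.det (sc (-1) : GL ι K) = 1 := Units.ext (by
  rw [GeneralLinearGroup.val_det_apply, val_sc_neg_one, Matrix.det_neg, D.even.neg_one_pow]
  simp)

/-- The elements normalising a group between the determinant one part and the whole 2-group. -/
theorem exists_scalar_mul [Nonempty ι] [Finite K] (L : Level Γ) {Δ : Subgroup (GL (ι ⊕ ι) K)} (D : Doubles Γ Δ)
    (P : Subgroup (GL (ι ⊕ ι) K)) (hP : P ≤ wreath L.W (L.neg_one_mem D))
    (hP' : ∀ x ∈ wreath L.W (L.neg_one_mem D), GeneralLinearGroup.det x = 1 → x ∈ P)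
    {g : GL (ι ⊕ ι) K} (hg : g ∈ Δ) (hn : ∀ p ∈ P, g * p * g⁻¹ ∈ P) :
    ∃ c : Kˣ, sc c ∈ Δ ∧ g * (sc c)⁻¹ ∈ wreath L.W (L.neg_one_mem D) := by
  haveI : Finite (GL (ι ⊕ ι) K) := Finite.of_injective Units.val Units.val_injective
  have hneg := L.neg_one_mem D
  have hdn := det_neg_one D
  have hW1 : ∀ w ∈ L.W, GeneralLinearGroup.det w = 1 → bd (w, 1) ∈ P ∧ bd (1, w) ∈ P := fun w hw hd =>
    ⟨hP' _ (bd_mem_wreath.2 ⟨hw, one_mem _⟩) (by rw [det_bd, hd, map_one, mul_one]),
      hP' _ (bd_mem_wreath.2 ⟨one_mem _, hw⟩) (by rw [det_bd, hd, map_one, one_mul])⟩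
  have htP : tt ∈ P := hP' _ tt_mem_wreath det_tt
  have hz : zz ∈ P := (hW1 _ hneg hdn).2
  have hgN : g ∈ Subgroup.normalizer (P : Set (GL (ι ⊕ ι) K)) := CfsgLib.SL2Char.mem_normalizer_of_conj_mem hn
  set y := g * zz * g⁻¹ with hy
  have hscc : ∀ x : GL (ι ⊕ ι) K, g * (x * sc (-1)) * g⁻¹ = g * x * g⁻¹ * sc (-1) := fun x => by
    rw [show g * (x * sc (-1)) * g⁻¹ = g * x * (sc (-1) * g⁻¹) by group, sc_comm]; group
  -- the conjugate of the involution commutes with the subgroup up to sign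
  have hsign : ∀ p ∈ P, y * p * y⁻¹ = p ∨ y * p * y⁻¹ = p * sc (-1) := by
    intro p hp
    have hp' : g⁻¹ * p * g ∈ P := by
      have := (Subgroup.mem_normalizer_iff.1 (inv_mem hgN) p).1 hp
      rwa [inv_inv] at this
    have hz2 : zz * (g⁻¹ * p * g) * zz⁻¹ = g⁻¹ * p * g ∨
        zz * (g⁻¹ * p * g) * zz⁻¹ = g⁻¹ * p * g * sc (-1) := by
      obtain ⟨a, ha, b, hb, h | h⟩ := hP hp' <;> rw [h]
      · left
        rw [zz, ← map_inv, ← map_mul, ← map_mul]
        congr 1
        rw [Prod.inv_mk, Prod.mk_mul_mk, Prod.mk_mul_mk, one_mul, inv_one, mul_one, sc_comm,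
          mul_inv_cancel_right]
      · right
        rw [zz, ← map_inv, show bd (1, sc (-1)) * (bd (a, b) * tt) * bd ((1 : GL ι K), sc (-1))⁻¹ =
          bd (1, sc (-1)) * bd (a, b) * (tt * bd ((1 : GL ι K), sc (-1))⁻¹) by group, Prod.inv_mk, tt_bd,
          ← mul_assoc, ← map_mul, ← map_mul, sc_sum, mul_assoc (bd (a, b)) tt, tt_bd, ← mul_assoc,
          ← map_mul]
        congr 2
        simp only [Prod.mk_mul_mk, inv_one, one_mul, mul_one]
        rw [← map_inv, inv_neg, inv_one, sc_comm (-1) b]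
    rcases hz2 with h | h
    · left
      calc y * p * y⁻¹ = g * (zz * (g⁻¹ * p * g) * zz⁻¹) * g⁻¹ := by rw [hy]; group
        _ = p := by rw [h]; group
    · right
      calc y * p * y⁻¹ = g * (zz * (g⁻¹ * p * g) * zz⁻¹) * g⁻¹ := by rw [hy]; group
        _ = p * sc (-1) := by rw [h, hscc]; group
  have h2 : (1 : K) ≠ -1 := fun h => D.two (by linear_combination h)
  have hne : (1 : GL ι K) ≠ sc (-1) := fun h => h2 (by
    have := congrArg Units.val (sc_injective (((map_one sc).trans h) : (sc 1 : GL ι K) = sc (-1)))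
    simpa using this)
  obtain ⟨a, ha, b, hb, hyd | hyd⟩ := hP (hn _ hz : y ∈ P)
  swap
  · -- the conjugate interchanges the halves
    exfalso
    rw [← hy] at hyd
    have hall : ∀ w ∈ L.W, GeneralLinearGroup.det w = 1 → w = 1 ∨ w = sc (-1) := by
      intro w hw hd
      have h := hsign _ (hW1 w hw hd).1
      rw [hyd, show bd (a, b) * tt * bd (w, 1) * (bd (a, b) * tt)⁻¹ =
        bd (a, b) * (tt * bd (w, 1) * tt⁻¹) * (bd (a, b))⁻¹ by group, tt_conj, ← map_inv, ← map_mul,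
        ← map_mul, sc_sum, ← map_mul] at h
      rcases h with h | h <;> have h' := (bd_inj h).1 <;> simp at h'
      · exact Or.inl h'.symm
      · exact Or.inr (by
          have := eq_inv_of_mul_eq_one_left (h'.symm)
          rw [this, ← map_inv, inv_neg, inv_one])
    obtain ⟨i⟩ := ‹Nonempty ι›
    obtain ⟨j, hj⟩ : ∃ j, j ≠ i := by
      by_contra h
      push Not at h
      have : Fintype.card ι = 1 := Fintype.card_eq_one_iff.2 ⟨i, h⟩
      exact absurd D.even (by rw [this]; decide)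
    obtain ⟨r, hr⟩ := L.comm (Matrix.single i j 1) fun w hw hd => by
      rcases hall w hw hd with rfl | rfl <;> simp [val_sc_neg_one]
    have := congrFun (congrFun hr i) j
    simp [Matrix.scalar_apply, Matrix.diagonal_apply_ne _ hj.symm] at this
  rw [← hy] at hyd
  have hcomp : ∀ w ∈ L.W, GeneralLinearGroup.det w = 1 → a * w * a⁻¹ = w ∧ b * w * b⁻¹ = w := by
    intro w hw hd
    constructor
    · have h := hsign _ (hW1 w hw hd).1
      rw [hyd, ← map_inv, ← map_mul, ← map_mul, sc_sum, ← map_mul] at h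
      rcases h with h | h
      · exact (bd_inj h).1
      · exact absurd (by simpa using (bd_inj h).2) hne
    · have h := hsign _ (hW1 w hw hd).2
      rw [hyd, ← map_inv, ← map_mul, ← map_mul, sc_sum, ← map_mul] at h
      rcases h with h | h
      · exact (bd_inj h).2
      · exact absurd (by simpa using (bd_inj h).1) hne
  obtain ⟨α, rfl⟩ : ∃ c, a = sc c := by
    obtain ⟨r, hr⟩ := L.comm a.val fun w hw hd => by
      have := (hcomp w hw hd).1
      rw [mul_inv_eq_iff_eq_mul] at this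
      exact congrArg Units.val this.symm
    exact eq_sc_of_val hr
  obtain ⟨β, rfl⟩ : ∃ c, b = sc c := by
    obtain ⟨r, hr⟩ := L.comm b.val fun w hw hd => by
      have := (hcomp w hw hd).2
      rw [mul_inv_eq_iff_eq_mul] at this
      exact congrArg Units.val this.symm
    exact eq_sc_of_val hr
  have hαsq : α * α = 1 := by
    have h : y * y = 1 := by
      rw [hy, show g * zz * g⁻¹ * (g * zz * g⁻¹) = g * (zz * zz) * g⁻¹ by group, zz, ← map_mul]
      simp [← map_mul, Prod.mk_one_one]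
    rw [hyd, ← map_mul, ← map_one bd, ← Prod.mk_one_one] at h
    exact sc_injective (by rw [map_mul, map_one]; exact (bd_inj h).1)
  have hβ : β = -α := by
    have hβα : β = α ∨ β = -α := by
      have h := hsign _ htP
      rw [hyd] at h
      have e : bd ((sc α : GL ι K), sc β) * tt * (bd ((sc α : GL ι K), sc β))⁻¹ =
          bd ((sc α : GL ι K) * (sc β)⁻¹, sc β * (sc α)⁻¹) * tt := by
        rw [← map_inv, Prod.inv_mk, mul_assoc, tt_bd, ← mul_assoc, ← map_mul]; rfl
      rw [e] at h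
      rcases h with h | h
      · have h' := bd_inj ((mul_left_injective tt (h.trans (by rw [Prod.mk_one_one, map_one, one_mul] :
          (tt : GL (ι ⊕ ι) K) = bd (1, 1) * tt))) : _ = bd (1, 1))
        exact Or.inl (sc_injective (mul_inv_eq_one.1 h'.1)).symm
      · rw [← sc_comm, sc_sum] at h
        have h' := bd_inj (mul_left_injective tt h)
        right
        have h'' := h'.1
        rw [← map_inv, ← map_mul] at h''
        have := sc_injective h''
        rw [mul_inv_eq_iff_eq_mul] at this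
        rw [this, neg_one_mul, neg_neg]
    refine hβα.resolve_left fun hβ => ?_
    -- the involution is not central
    rw [hβ, ← sc_sum] at hyd
    have hzc : (zz : GL (ι ⊕ ι) K) = sc α := by
      have h : g⁻¹ * y * g = g⁻¹ * sc α * g := by rw [hyd]
      rw [hy, show g⁻¹ * (g * zz * g⁻¹) * g = zz by group, mul_assoc, sc_comm, inv_mul_cancel_left] at h
      exact h
    rw [zz, sc_sum] at hzc
    obtain ⟨e1, e2⟩ := bd_inj hzc
    exact hne (e1.trans e2.symm)
  -- adjust by the element interchanging the halves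
  obtain ⟨τ, hτW, hτP, hτ⟩ : ∃ τ, τ ∈ wreath L.W hneg ∧ τ ∈ P ∧ τ * y * τ⁻¹ = zz := by
    have hα : α = 1 ∨ α = -1 := by
      have h : (α : K) * α = 1 := by rw [← Units.val_mul, hαsq, Units.val_one]
      rcases mul_self_eq_one_iff.1 h with h | h
      · exact Or.inl (Units.ext h)
      · exact Or.inr (Units.ext (by simpa using h))
    rcases hα with hα | hα
    · refine ⟨1, one_mem _, one_mem _, ?_⟩
      rw [hyd, hβ, hα, map_one, zz]; simp
    · refine ⟨tt, tt_mem_wreath, htP, ?_⟩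
      rw [hyd, tt_conj, hβ, hα, neg_neg, map_one, zz]
  set g' := τ * g with hg'
  have hτΔ : τ ∈ Δ := by
    obtain ⟨u, hu, v, hv, rfl | rfl⟩ := hτW
    · exact (D.bd_iff _ _).2 ⟨L.le hu, L.le hv⟩
    · exact Δ.mul_mem ((D.bd_iff _ _).2 ⟨L.le hu, L.le hv⟩) D.tt_mem
  have hg'Δ : g' ∈ Δ := Δ.mul_mem hτΔ hg
  have hg'n : ∀ p ∈ P, g' * p * g'⁻¹ ∈ P := fun p hp => by
    rw [hg', show τ * g * p * (τ * g)⁻¹ = τ * (g * p * g⁻¹) * τ⁻¹ by group]
    exact P.mul_mem (P.mul_mem hτP (hn p hp)) (P.inv_mem hτP)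
  have hcz : g' * zz = zz * g' := by
    rw [← mul_inv_eq_iff_eq_mul, hg']
    calc τ * g * zz * (τ * g)⁻¹ = τ * y * τ⁻¹ := by rw [hy]; group
      _ = zz := hτ
  obtain ⟨u, v, hguv⟩ : ∃ u v : GL ι K, g' = bd (u, v) := by
    have hblock : ∀ x : GL (ι ⊕ ι) K, x * zz = zz * x →
        ∃ A B, x.val = Matrix.fromBlocks A 0 0 B := by
      intro x hx
      have hv := congrArg Units.val hx
      rw [Units.val_mul, Units.val_mul, zz, bd_val, val_sc_neg_one, Units.val_one,
        ← Matrix.fromBlocks_toBlocks x.val, Matrix.fromBlocks_multiply, Matrix.fromBlocks_multiply,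
        Matrix.fromBlocks_inj] at hv
      simp at hv
      have hh : ∀ M : Matrix ι ι K, -M = M → M = 0 := fun M hM => by
        ext i j
        have h := congrFun (congrFun hM i) j
        simp only [Matrix.neg_apply] at h
        exact (mul_eq_zero.1 (show (2 : K) * M i j = 0 by linear_combination -h)).resolve_left D.two
      refine ⟨x.val.toBlocks₁₁, x.val.toBlocks₂₂, ?_⟩
      conv_lhs => rw [← Matrix.fromBlocks_toBlocks x.val]
      rw [hh _ hv.1, hh _ hv.2.symm]
    obtain ⟨A, B, hAB⟩ := hblock g' hcz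
    obtain ⟨A', B', hAB'⟩ := hblock g'⁻¹ (by
      rw [inv_mul_eq_iff_eq_mul, ← mul_assoc, hcz, mul_inv_cancel_right])
    have h1 := g'.mul_inv
    have h2' := g'.inv_mul
    rw [hAB, hAB', Matrix.fromBlocks_multiply, ← Matrix.fromBlocks_one, Matrix.fromBlocks_inj] at h1 h2'
    simp at h1 h2'
    exact ⟨⟨A, A', h1.1, h2'.1⟩, ⟨B, B', h1.2, h2'.2⟩, Units.ext (by rw [hAB, bd_val])⟩
  obtain ⟨huΓ, hvΓ⟩ := (D.bd_iff u v).1 (hguv ▸ hg'Δ)
  have hvn : ∀ w ∈ L.W, v * w * v⁻¹ ∈ L.W := by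
    intro w hw
    have hp : bd (w⁻¹, w) ∈ P :=
      hP' _ (bd_mem_wreath.2 ⟨inv_mem hw, hw⟩) (by rw [det_bd, map_inv, inv_mul_cancel])
    have h := hP (hg'n _ hp)
    rw [hguv, ← map_inv, ← map_mul, ← map_mul] at h
    exact (bd_mem_wreath.1 h).2
  obtain ⟨c, hc, hvc⟩ := L.norm v hvΓ hvn
  have huv : u * v⁻¹ ∈ L.W := by
    have h := hP (hg'n _ htP)
    have hmem := (wreath L.W hneg).mul_mem h ((wreath L.W hneg).inv_mem (tt_mem_wreath (hneg := hneg)))
    rw [hguv, ← map_inv, show bd (u, v) * tt * bd (u, v)⁻¹ * tt⁻¹ =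
      bd (u, v) * (tt * bd (u, v)⁻¹ * tt⁻¹) by group, Prod.inv_mk, tt_conj, ← map_mul] at hmem
    exact (bd_mem_wreath.1 hmem).1
  refine ⟨c, by rw [sc_sum]; exact (D.bd_iff _ _).2 ⟨hc, hc⟩, ?_⟩
  have hmem : g' * (sc c)⁻¹ ∈ wreath L.W hneg := by
    rw [hguv, sc_sum, ← map_inv, ← map_mul]
    refine bd_mem_wreath.2 ⟨?_, hvc⟩
    have := L.W.mul_mem huv hvc
    rwa [← mul_assoc, inv_mul_cancel_right] at this
  have := (wreath L.W hneg).mul_mem ((wreath L.W hneg).inv_mem hτW) hmem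
  rwa [hg', ← mul_assoc, inv_mul_cancel_left] at this

/-- The doubled level. -/
def Level.double [Nonempty ι] [Finite K] (L : Level Γ) {Δ : Subgroup (GL (ι ⊕ ι) K)} (D : Doubles Γ Δ) :
    Level Δ where
  W := wreath L.W (L.neg_one_mem D)
  le := by
    rintro x ⟨a, ha, b, hb, rfl | rfl⟩
    · exact (D.bd_iff _ _).2 ⟨L.le ha, L.le hb⟩
    · exact Δ.mul_mem ((D.bd_iff _ _).2 ⟨L.le ha, L.le hb⟩) D.tt_mem
  pg := isPGroup_wreath L.pg _
  norm g hg hn := exists_scalar_mul L D _ le_rfl (fun x hx _ => hx) hg hn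
  scal c hc he := by
    rw [sc_sum] at hc ⊢
    exact bd_mem_wreath.2 ⟨L.scal c ((D.bd_iff _ _).1 hc).1 he, L.scal c ((D.bd_iff _ _).1 hc).1 he⟩
  comm M hM := by
    have hneg := L.neg_one_mem D
    have hdn := det_neg_one D
    have hb : ∀ a ∈ L.W, ∀ b ∈ L.W, GeneralLinearGroup.det a = 1 → GeneralLinearGroup.det b = 1 →
        a.val * M.toBlocks₁₁ = M.toBlocks₁₁ * a.val ∧ a.val * M.toBlocks₁₂ = M.toBlocks₁₂ * b.val ∧
        b.val * M.toBlocks₂₁ = M.toBlocks₂₁ * a.val ∧ b.val * M.toBlocks₂₂ = M.toBlocks₂₂ * b.val := by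
      intro a ha b hb hda hdb
      have h := hM _ (bd_mem_wreath.2 ⟨ha, hb⟩) (by rw [det_bd, hda, hdb, mul_one])
      rw [bd_val, ← Matrix.fromBlocks_toBlocks M, Matrix.fromBlocks_multiply, Matrix.fromBlocks_multiply,
        Matrix.fromBlocks_inj] at h
      simpa using h
    have hz := hb 1 (one_mem _) _ hneg (map_one _) hdn
    rw [val_sc_neg_one, Units.val_one] at hz
    simp at hz
    have hh : ∀ N : Matrix ι ι K, -N = N → N = 0 := fun N hN => by
      ext i j
      have h := congrFun (congrFun hN i) j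
      simp only [Matrix.neg_apply] at h
      exact (mul_eq_zero.1 (show (2 : K) * N i j = 0 by linear_combination -h)).resolve_left D.two
    have h12 := hh _ hz.1.symm
    have h21 := hh _ hz.2
    obtain ⟨r, hr⟩ := L.comm M.toBlocks₁₁ fun w hw hd => (hb w hw 1 (one_mem _) hd (map_one _)).1
    obtain ⟨r', hr'⟩ := L.comm M.toBlocks₂₂ fun w hw hd => (hb 1 (one_mem _) w hw (map_one _) hd).2.2.2
    have ht := hM _ (tt_mem_wreath (W := L.W) (hneg := hneg)) det_tt
    rw [tt_val, ← Matrix.fromBlocks_toBlocks M, h12, h21, Matrix.fromBlocks_multiply,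
      Matrix.fromBlocks_multiply, Matrix.fromBlocks_inj] at ht
    simp at ht
    refine ⟨r, ?_⟩
    conv_lhs => rw [← Matrix.fromBlocks_toBlocks M, h12, h21, ht.1, hr]
    rw [Matrix.scalar_apply, Matrix.scalar_apply, Matrix.fromBlocks_diagonal]
    congr 1
    funext i; cases i <;> rfl

/-- The determinant one part of a doubled level is self-normalising in determinant one. -/
theorem Level.double_det_one [Nonempty ι] [Finite K] {k : ℕ} (L : Level Γ) {Δ : Subgroup (GL (ι ⊕ ι) K)}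
    (D : Doubles Γ Δ) (hι : Fintype.card (ι ⊕ ι) = 2 ^ k)
    {g : GL (ι ⊕ ι) K} (hg : g ∈ Δ) (hdet : GeneralLinearGroup.det g = 1)
    (hn : ∀ p ∈ (L.double D).W, GeneralLinearGroup.det p = 1 →
      g * p * g⁻¹ ∈ (L.double D).W) :
    g ∈ (L.double D).W := by
  set W := (L.double D).W with hW
  obtain ⟨c, hc, hmem⟩ := exists_scalar_mul L D (W ⊓ GeneralLinearGroup.det.ker) inf_le_left
    (fun x hx hd => ⟨hx, hd⟩) hg (fun p hp => ⟨hn p hp.1 hp.2, by
      show GeneralLinearGroup.det (g * p * g⁻¹) = 1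
      rw [map_mul, map_mul, map_inv, MonoidHom.mem_ker.1 hp.2, mul_one, mul_inv_cancel]⟩)
  obtain ⟨e, he⟩ := (L.double D).pg ⟨_, hmem⟩
  have hcd : GeneralLinearGroup.det (sc c : GL (ι ⊕ ι) K) = c ^ 2 ^ k := Units.ext (by
    rw [GeneralLinearGroup.val_det_apply, sc_val, Matrix.scalar_apply, Matrix.det_diagonal]
    simp [← hι])
  have h : (c ^ 2 ^ k)⁻¹ ^ 2 ^ e = 1 := by
    have h1 := congrArg (fun x : W => GeneralLinearGroup.det (x : GL (ι ⊕ ι) K)) he
    simpa [map_mul, hdet, hcd] using h1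
  have hscal : sc c ∈ W := (L.double D).scal c hc ⟨k + e, by
    rw [inv_pow, inv_eq_one, ← pow_mul, ← pow_add] at h; exact h⟩
  have := W.mul_mem hmem hscal
  rwa [inv_mul_cancel_right] at this

end CfsgLib.HallGen.Pronormal.Lin
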