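import Cfsg.Agent.Lib.HallGen.Pronormal.SpGood
import Cfsg.Agent.Lib.HallGen.Pronormal.LinEven
import Cfsg.Agent.Lib.HallGen.Pronormal.LinGroups

/-!
# Odd index subgroups of `PSLₙ(q)`, `n` a power of two
-/

set_option autoImplicit false
set_option linter.all false

namespace CfsgLib.HallGen.Pronormal

open Equiv Matrix CfsgLib.PLocal.SLTwo

universe u

variable {F : Type u} [Field F] [Fintype F]

theorem good_S2 (hodd : Odd (Fintype.card F)) : Good (S2 F) := by
  classical
  let ψ : S2 F →* isoGroup (formSum : LinearMap.BilinForm F (Vec (Fin 1) F)) :=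
    (dgHom (F := F) (ι := Fin 1)).codRestrict _ fun n => dg_mem_isoGroup n
  have hψ : Function.Bijective ψ := by
    refine ⟨fun a b h => ?_, fun x => ?_⟩
    · have h' : (dg a : Vec (Fin 1) F ≃ₗ[F] Vec (Fin 1) F) = dg b := congrArg Subtype.val h
      exact congrFun (mono_inj h').1 0
    · obtain ⟨s, hs⟩ := eq_el_of_moved (a := (0 : Fin 1)) x.2 fun v =>
        mem_blk.2 fun b hb => absurd (Subsingleton.elim b 0) hb
      refine ⟨s, Subtype.ext ?_⟩
      rw [hs]
      show dg s = el 0 s
      rw [dg, el]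
      congr 1
      funext b
      rw [Subsingleton.elim b 0, Pi.mulSingle_eq_same]
  haveI : Finite (Vec (Fin 1) F ≃ₗ[F] Vec (Fin 1) F) := Finite.of_injective _ DFunLike.coe_injective
  exact (good_isoGroup (F := F) (ι := Fin 1) (k := 0) (Fintype.card_fin 1) hodd).mulEquiv
    (MulEquiv.ofBijective ψ hψ).symm

theorem good_PSL_two (hodd : Odd (Fintype.card F)) : Good (ProjectiveSpecialLinearGroup (Fin 2) F) := by
  classical
  refine (good_S2 hodd).map (QuotientGroup.mk' _) (QuotientGroup.mk'_surjective _) ?_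
  rw [QuotientGroup.ker_mk']
  rintro ⟨c, hc⟩
  obtain ⟨r, hr, hrc⟩ := Matrix.SpecialLinearGroup.mem_center_iff.1 hc
  refine ⟨1, Subtype.ext (Subtype.ext ?_)⟩
  show ((c ^ 2 ^ 1 : S2 F)).val = 1
  rw [Matrix.SpecialLinearGroup.coe_pow, ← hrc, ← map_pow, pow_one]
  rw [Fintype.card_fin] at hr
  rw [hr, map_one]

/-- Odd index subgroups of `PSLₙ(q)`, `n` a power of two, are pronormal. -/
theorem pronormal_PSL {w : ℕ} (hw : 1 ≤ w)
    (H : Subgroup (ProjectiveSpecialLinearGroup (Fin (2 ^ w)) F)) (hH : ¬ 2 ∣ H.index) :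
    Cfsg.IsPronormal H := by
  classical
  rcases Nat.even_or_odd (Fintype.card F) with heven | hodd
  · obtain ⟨p, hchar⟩ := CharP.exists F
    haveI := hchar
    obtain ⟨d, hp, hd⟩ := FiniteField.card F p
    obtain rfl : p = 2 := hp.eq_two_or_odd'.resolve_right fun hpo => by
      rw [hd] at heven
      exact (Nat.not_even_iff_odd.2 hpo.pow) heven
    obtain ⟨m, hm⟩ : ∃ m, 2 ^ w = m + 1 := ⟨2 ^ w - 1, by have : 0 < 2 ^ w := (by positivity); omega⟩
    revert H hH
    rw [hm]
    intro H hH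
    rw [← Subgroup.map_comap_eq_self_of_surjective (QuotientGroup.mk'_surjective _) H]
    refine Core.PronormalOver.pronormal_map _ (QuotientGroup.mk'_surjective _) (LinEven.pronormal_SL _ ?_)
    rw [Subgroup.index_comap_of_surjective _ (QuotientGroup.mk'_surjective _)]
    exact hH
  · obtain rfl | hw2 : w = 1 ∨ 2 ≤ w := by omega
    · exact (good_PSL_two hodd).pron H hH
    · exact (Lin.good_PSL hw2 hodd).pron H hH

end CfsgLib.HallGen.Pronormal
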