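import Mathlib

/-!
# Isometries of an alternating form moving a plane

* `moved g` : the range of `g - 1`
* `fix_iff` : the fixed vectors are the orthogonal of the moved ones
* `proj z` : the projection on the negated plane of an involution
* `QuatPair B z i j` : two anticommuting square roots of `z` moving only its plane
-/

set_option autoImplicit false
set_option linter.all false

namespace CfsgLib.HallGen.Pronormal

open Module

universe u v

variable {F : Type u} [Field F] {V : Type v} [AddCommGroup V] [Module F V]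

/-- The range of `g - 1`. -/
def moved (g : V ≃ₗ[F] V) : Submodule F V :=
  LinearMap.range ((g : V →ₗ[F] V) - LinearMap.id)

theorem sub_mem_moved (g : V ≃ₗ[F] V) (v : V) : g v - v ∈ moved g :=
  ⟨v, by simp⟩

theorem moved_le {g : V ≃ₗ[F] V} {W : Submodule F V} (h : ∀ v, g v - v ∈ W) : moved g ≤ W := by
  rintro _ ⟨v, rfl⟩
  simpa using h v

theorem moved_mul_le {g h : V ≃ₗ[F] V} {W : Submodule F V} (hg : ∀ v, g v - v ∈ W)
    (hh : ∀ v, h v - v ∈ W) (v : V) : (g * h) v - v ∈ W := by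
  rw [LinearEquiv.mul_apply, ← sub_add_sub_cancel (g (h v)) (h v) v]
  exact W.add_mem (hg _) (hh _)

theorem moved_inv_le {g : V ≃ₗ[F] V} {W : Submodule F V} (hg : ∀ v, g v - v ∈ W) (v : V) :
    g⁻¹ v - v ∈ W := by
  have h := W.neg_mem (hg (g⁻¹ v))
  rwa [← LinearEquiv.mul_apply, mul_inv_cancel, show ∀ x : V, (1 : V ≃ₗ[F] V) x = x from fun _ => rfl, neg_sub] at h

/-- The elements moving inside `W`. -/
def moveSubgroup (J : Subgroup (V ≃ₗ[F] V)) (W : Submodule F V) : Subgroup (V ≃ₗ[F] V) where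
  carrier := {g | g ∈ J ∧ ∀ v, g v - v ∈ W}
  one_mem' := ⟨J.one_mem, fun v => by simp⟩
  mul_mem' := fun ha hb => ⟨J.mul_mem ha.1 hb.1, moved_mul_le ha.2 hb.2⟩
  inv_mem' := fun ha => ⟨J.inv_mem ha.1, moved_inv_le ha.2⟩

theorem mem_moveSubgroup {J : Subgroup (V ≃ₗ[F] V)} {W : Submodule F V} {g : V ≃ₗ[F] V} :
    g ∈ moveSubgroup J W ↔ g ∈ J ∧ ∀ v, g v - v ∈ W := Iff.rfl

theorem maps_of_moved {g : V ≃ₗ[F] V} {W : Submodule F V} (hg : ∀ v, g v - v ∈ W) {w : V}
    (hw : w ∈ W) : g w ∈ W := by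
  simpa using W.add_mem (hg w) hw

theorem moved_conj (g h : V ≃ₗ[F] V) {v : V} (hv : v ∈ moved h) : g v ∈ moved (g * h * g⁻¹) := by
  obtain ⟨w, rfl⟩ := hv
  refine ⟨g w, ?_⟩
  simp [LinearEquiv.mul_apply, ← LinearEquiv.symm_apply_eq]

theorem finrank_moved_conj (g h : V ≃ₗ[F] V) :
    finrank F (moved (g * h * g⁻¹)) = finrank F (moved h) := by
  have e : moved (g * h * g⁻¹) = (moved h).map (g : V →ₗ[F] V) := by
    refine le_antisymm (moved_le fun v => ⟨h (g⁻¹ v) - g⁻¹ v, sub_mem_moved _ _, ?_⟩) ?_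
    · have : g (g⁻¹ v) = v := by
        rw [← LinearEquiv.mul_apply, mul_inv_cancel, show ∀ x : V, (1 : V ≃ₗ[F] V) x = x from fun _ => rfl]
      simp [LinearEquiv.mul_apply, map_sub]
    · rintro _ ⟨v, hv, rfl⟩
      exact moved_conj g h hv
  rw [e, LinearEquiv.finrank_map_eq g]

section Form

variable (B : LinearMap.BilinForm F V)

/-- `g` preserves `B`. -/
def IsIso (g : V ≃ₗ[F] V) : Prop := ∀ u v, B (g u) (g v) = B u v

/-- The group of isometries. -/
def isoGroup : Subgroup (V ≃ₗ[F] V) where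
  carrier := {g | IsIso B g}
  one_mem' := fun u v => rfl
  mul_mem' := fun {a b} ha hb u v => (ha (b u) (b v)).trans (hb u v)
  inv_mem' := fun {a} ha u v => by
    have h := ha (a⁻¹ u) (a⁻¹ v)
    rw [← LinearEquiv.mul_apply, ← LinearEquiv.mul_apply, mul_inv_cancel] at h
    simpa using h.symm

/-- An alternating non-degenerate form. -/
structure IsSymp : Prop where
  alt : B.IsAlt
  nondeg : ∀ u, (∀ v, B u v = 0) → u = 0

variable {B}

theorem IsSymp.swap (hB : IsSymp B) {u v : V} (h : B u v = 0) : B v u = 0 := by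
  rw [← LinearMap.IsAlt.neg hB.alt u v, h, neg_zero]

theorem fix_iff (hB : IsSymp B) {g : V ≃ₗ[F] V} (hg : IsIso B g) {v : V} :
    g v = v ↔ ∀ w ∈ moved g, B w v = 0 := by
  constructor
  · rintro h _ ⟨u, rfl⟩
    have h1 := hg u v
    rw [h] at h1
    simp [h1]
  · intro h
    refine sub_eq_zero.1 (hB.nondeg _ fun u => hB.swap ?_)
    obtain ⟨u, rfl⟩ := g.surjective u
    have h1 := h _ (sub_mem_moved g u)
    rw [map_sub, LinearMap.sub_apply, sub_eq_zero] at h1
    rw [map_sub, hg, h1, sub_self]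

variable {z : V ≃ₗ[F] V}

/-- The projection on the plane negated by the involution `z`. -/
noncomputable def proj (z : V ≃ₗ[F] V) : V →ₗ[F] V :=
  (2⁻¹ : F) • (LinearMap.id - (z : V →ₗ[F] V))

theorem proj_apply (z : V ≃ₗ[F] V) (v : V) : proj z v = (2⁻¹ : F) • (v - z v) := rfl

theorem apply_moved (hzz : z * z = 1) {u : V} (hu : u ∈ moved z) : z u = -u := by
  obtain ⟨w, rfl⟩ := hu
  simp only [LinearMap.sub_apply, LinearEquiv.coe_coe, LinearMap.id_coe, id_eq, map_sub, neg_sub]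
  rw [← LinearEquiv.mul_apply, hzz, show ∀ x : V, (1 : V ≃ₗ[F] V) x = x from fun _ => rfl]

theorem mem_moved_of_neg (h2 : (2 : F) ≠ 0) {u : V} (hu : z u = -u) : u ∈ moved z := by
  refine ⟨(-2⁻¹ : F) • u, ?_⟩
  simp only [LinearMap.sub_apply, LinearEquiv.coe_coe, map_smul, LinearMap.id_coe, id_eq, hu]
  rw [show -u - u = (-2 : F) • u by rw [neg_smul, two_smul]; abel, smul_smul,
    show (-2⁻¹ : F) * -2 = 1 by rw [neg_mul_neg, inv_mul_cancel₀ h2], one_smul]

theorem proj_mem (z : V ≃ₗ[F] V) (v : V) : proj z v ∈ moved z := by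
  refine ⟨(-2⁻¹ : F) • v, ?_⟩
  rw [proj_apply]
  simp only [LinearMap.sub_apply, LinearEquiv.coe_coe, map_smul, LinearMap.id_coe, id_eq, smul_sub]
  match_scalars <;> ring

theorem apply_eq_sub_proj (h2 : (2 : F) ≠ 0) (z : V ≃ₗ[F] V) (v : V) :
    z v = v - (2 : F) • proj z v := by
  rw [proj_apply, smul_smul, mul_inv_cancel₀ h2, one_smul, sub_sub_cancel]

theorem apply_sub_proj (h2 : (2 : F) ≠ 0) (hzz : z * z = 1) (v : V) :
    z (v - proj z v) = v - proj z v := by
  rw [map_sub, apply_moved hzz (proj_mem z v), apply_eq_sub_proj h2 z v, two_smul]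
  abel

theorem proj_of_mem (h2 : (2 : F) ≠ 0) (hzz : z * z = 1) {u : V} (hu : u ∈ moved z) :
    proj z u = u := by
  rw [proj_apply, apply_moved hzz hu, sub_neg_eq_add, ← two_smul F u, smul_smul,
    inv_mul_cancel₀ h2, one_smul]

theorem proj_of_fix {v : V} (hv : z v = v) : proj z v = 0 := by
  rw [proj_apply, hv, sub_self, smul_zero]

theorem perp_of_fix (hB : IsSymp B) (hz : IsIso B z) {u v : V} (hu : u ∈ moved z) (hv : z v = v) :
    B u v = 0 :=
  (fix_iff hB hz).1 hv u hu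

theorem form_proj (h2 : (2 : F) ≠ 0) (hB : IsSymp B) (hz : IsIso B z) (hzz : z * z = 1) {u : V}
    (hu : u ∈ moved z) (v : V) : B (proj z v) u = B v u := by
  have h := hB.swap (perp_of_fix hB hz hu (apply_sub_proj h2 hzz v))
  rw [map_sub, LinearMap.sub_apply, sub_eq_zero] at h
  exact h.symm

theorem moved_nondeg (h2 : (2 : F) ≠ 0) (hB : IsSymp B) (hz : IsIso B z) (hzz : z * z = 1) {u : V}
    (hu : u ∈ moved z) (h : ∀ u' ∈ moved z, B u' u = 0) : u = 0 :=
  hB.nondeg u fun v => hB.swap (by rw [← form_proj h2 hB hz hzz hu v]; exact h _ (proj_mem z v))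

/-- An involution is determined by the plane it negates. -/
theorem eq_of_moved_eq (h2 : (2 : F) ≠ 0) (hB : IsSymp B) {z' : V ≃ₗ[F] V} (hz : IsIso B z)
    (hz' : IsIso B z') (hzz : z * z = 1) (hzz' : z' * z' = 1) (h : moved z = moved z') : z = z' := by
  refine LinearEquiv.ext fun v => ?_
  have e : proj z v = proj z' v := by
    refine sub_eq_zero.1 (moved_nondeg h2 hB hz hzz ((moved z).sub_mem (proj_mem z v)
      (h ▸ proj_mem z' v)) fun u hu => ?_)
    rw [map_sub, sub_eq_zero, ← LinearMap.IsAlt.neg hB.alt (proj z v), form_proj h2 hB hz hzz hu,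
      ← LinearMap.IsAlt.neg hB.alt (proj z' v), form_proj h2 hB hz' hzz' (h ▸ hu)]
  rw [apply_eq_sub_proj h2 z, apply_eq_sub_proj h2 z', e]

variable (B) in
/-- Two anticommuting square roots of an involution, moving only its plane. -/
structure QuatPair (z i j : V ≃ₗ[F] V) : Prop where
  isoz : IsIso B z
  isoi : IsIso B i
  isoj : IsIso B j
  zz : z * z = 1
  plane : finrank F (moved z) = 2
  ii : i * i = z
  jj : j * j = z
  ij : i * j = z * (j * i)
  mi : ∀ v, i v - v ∈ moved z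
  mj : ∀ v, j v - v ∈ moved z

variable {i j : V ≃ₗ[F] V}

namespace QuatPair

variable (q : QuatPair B z i j)
include q

theorem fix_i (hB : IsSymp B) {v : V} (hv : z v = v) : i v = v :=
  (fix_iff hB q.isoi).2 fun w hw => perp_of_fix hB q.isoz (moved_le q.mi hw) hv

theorem fix_j (hB : IsSymp B) {v : V} (hv : z v = v) : j v = v :=
  (fix_iff hB q.isoj).2 fun w hw => perp_of_fix hB q.isoz (moved_le q.mj hw) hv

theorem i_mem {u : V} (hu : u ∈ moved z) : i u ∈ moved z := maps_of_moved q.mi hu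

theorem j_mem {u : V} (hu : u ∈ moved z) : j u ∈ moved z := maps_of_moved q.mj hu

theorem i_i {u : V} (hu : u ∈ moved z) : i (i u) = -u := by
  rw [← LinearEquiv.mul_apply, q.ii, apply_moved q.zz hu]

theorem j_j {u : V} (hu : u ∈ moved z) : j (j u) = -u := by
  rw [← LinearEquiv.mul_apply, q.jj, apply_moved q.zz hu]

theorem i_j {u : V} (hu : u ∈ moved z) : i (j u) = -j (i u) := by
  rw [← LinearEquiv.mul_apply, q.ij, LinearEquiv.mul_apply, LinearEquiv.mul_apply,
    apply_moved q.zz (q.j_mem (q.i_mem hu))]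

theorem swap : QuatPair B z j i := by
  refine ⟨q.isoz, q.isoj, q.isoi, q.zz, q.plane, q.jj, q.ii, ?_, q.mj, q.mi⟩
  rw [q.ij, ← mul_assoc, q.zz, one_mul]

theorem mul_sq : (i * j) * (i * j) = z := by
  have hc : j * z = z * j := by rw [← q.jj]; group
  have hji : j * i = z * (i * j) := q.swap.ij
  calc (i * j) * (i * j) = i * (j * i) * j := by group
    _ = i * (z * (i * j)) * j := by rw [hji]
    _ = (i * z) * i * (j * j) := by group
    _ = (z * i) * i * z := by rw [q.jj, show i * z = z * i by rw [← q.ii]; group]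
    _ = z * (i * i) * z := by group
    _ = z := by rw [q.ii, q.zz, one_mul]

/-- No line of the plane is fixed by both `i` and `j`. -/
theorem no_line (h2 : (2 : F) ≠ 0) {v : V} (hv : v ∈ moved z) {a b : F} (ha : i v = a • v)
    (hb : j v = b • v) : v = 0 := by
  by_contra hne
  have h1 : (a * a + 1) • v = 0 := by
    have h := q.i_i hv
    rw [ha, map_smul, ha, smul_smul] at h
    rw [add_smul, h, one_smul, neg_add_cancel]
  have h3 : (b * b + 1) • v = 0 := by
    have h := q.j_j hv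
    rw [hb, map_smul, hb, smul_smul] at h
    rw [add_smul, h, one_smul, neg_add_cancel]
  have h4 : (b * a + a * b) • v = 0 := by
    have h := q.i_j hv
    rw [hb, map_smul, ha, map_smul, hb, smul_smul, smul_smul] at h
    rw [add_smul, h, neg_add_cancel]
  simp only [smul_eq_zero, hne, or_false] at h1 h3 h4
  have h5 : (2 : F) * (a * a) * (b * b) = 0 := by linear_combination (a * b) * h4
  rw [show a * a = -1 by linear_combination h1, show b * b = -1 by linear_combination h3] at h5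
  exact h2 (by linear_combination h5)

/-- A linear map killing `i v`, `j v`, `i (j v)` kills the plane. -/
theorem span_killed [FiniteDimensional F V] (h2 : (2 : F) ≠ 0) {X : Type*} [AddCommGroup X]
    [Module F X] (f : V →ₗ[F] X) {v : V} (hv : v ∈ moved z) (hv0 : v ≠ 0) (h1 : f (i v) = 0)
    (h3 : f (j v) = 0) (h4 : f (i (j v)) = 0) {u : V} (hu : u ∈ moved z) : f u = 0 := by
  by_contra hne
  set K := moved z ⊓ LinearMap.ker f
  have hlt : K < moved z := lt_of_le_of_ne inf_le_left fun h => hne (h.symm ▸ hu : u ∈ K).2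
  have hK := Submodule.finrank_lt_finrank_of_lt hlt
  rw [q.plane] at hK
  have hmem : ∀ w : V, w ∈ moved z → f w = 0 → w ∈ K := fun w hw h => ⟨hw, h⟩
  have hiv : i v ≠ 0 := fun h => hv0 (i.map_eq_zero_iff.1 h)
  have hK1 : K = F ∙ i v := by
    refine (Submodule.eq_of_le_of_finrank_le
      ((Submodule.span_singleton_le_iff_mem _ _).2 (hmem _ (q.i_mem hv) h1)) ?_).symm
    rw [finrank_span_singleton hiv]
    omega
  obtain ⟨a, ha⟩ := Submodule.mem_span_singleton.1 (hK1 ▸ hmem _ (q.j_mem hv) h3 : j v ∈ F ∙ i v)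
  obtain ⟨b, hb⟩ := Submodule.mem_span_singleton.1
    (hK1 ▸ hmem _ (q.i_mem (q.j_mem hv)) h4 : i (j v) ∈ F ∙ i v)
  have he : i (j v) = -(a • v) := by rw [← ha, map_smul, q.i_i hv, smul_neg]
  have ha0 : a ≠ 0 := by
    rintro rfl
    rw [zero_smul] at ha
    exact hv0 (j.map_eq_zero_iff.1 ha.symm)
  have hv' : v = (-(a⁻¹ * b)) • i v := by
    rw [neg_smul, ← smul_smul, hb, he, smul_neg, smul_smul, inv_mul_cancel₀ ha0, one_smul, neg_neg]
  set c := -(a⁻¹ * b)
  have hiv' : i v = (-c) • v := by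
    have h := congrArg i hv'
    rwa [map_smul, q.i_i hv, smul_neg, ← neg_smul] at h
  exact hv0 (q.no_line h2 hv hiv' (show j v = (a * -c) • v by rw [← ha, hiv', smul_smul]))

/-- The combination `i + b j + c (i j)`. -/
def nil (_q : QuatPair B z i j) (b c : F) : V →ₗ[F] V :=
  (i : V →ₗ[F] V) + b • (j : V →ₗ[F] V) + c • ((i * j : V ≃ₗ[F] V) : V →ₗ[F] V)

theorem nil_apply (b c : F) (v : V) : q.nil b c v = i v + b • j v + c • i (j v) := rfl

theorem nil_mem (b c : F) {u : V} (hu : u ∈ moved z) : q.nil b c u ∈ moved z :=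
  Submodule.add_mem _ (Submodule.add_mem _ (q.i_mem hu) (Submodule.smul_mem _ _ (q.j_mem hu)))
    (Submodule.smul_mem _ _ (q.i_mem (q.j_mem hu)))

theorem nil_nil {b c : F} (h : b * b + c * c + 1 = 0) {u : V} (hu : u ∈ moved z) :
    q.nil b c (q.nil b c u) = 0 := by
  have hiu := q.i_mem hu
  have hju := q.j_mem hu
  have e1 : j (i u) = -i (j u) := q.swap.i_j hu
  have e2 : i (i (j u)) = -j u := q.i_i hju
  have e3 : j (i (j u)) = i u := by
    rw [q.swap.i_j hju, q.j_j hu, map_neg, neg_neg]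
  have e4 : i (j (i u)) = j u := by rw [e1, map_neg, e2, neg_neg]
  have e5 : i (j (j u)) = -i u := by rw [q.j_j hu, map_neg]
  have e6 : i (j (i (j u))) = -u := by rw [e3, q.i_i hu]
  simp only [nil_apply, map_add, map_smul, q.i_i hu, q.j_j hu, e1, e2, e3, e4, e5, e6, map_neg]
  match_scalars <;> first | linear_combination h | linear_combination -h | ring

theorem nil_ne_zero [FiniteDimensional F V] (h2 : (2 : F) ≠ 0) (b c : F) :
    ∃ u ∈ moved z, q.nil b c u ≠ 0 := by
  obtain ⟨u, hu, hu0⟩ : ∃ u ∈ moved z, u ≠ 0 := by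
    by_contra! hh
    have := q.plane
    rw [show moved z = ⊥ from (Submodule.eq_bot_iff _).2 hh, finrank_bot] at this
    omega
  by_contra! hh
  have e1 : j (i u) = -i (j u) := q.swap.i_j hu
  have h1 := congrArg i (hh u hu)
  have h3 := hh _ (q.i_mem hu)
  have e2 : i (i (j u)) = -j u := q.i_i (q.j_mem hu)
  simp only [nil_apply, map_add, map_smul, q.i_i hu, e2, e1, map_neg, map_zero] at h1 h3
  have h4 : (-2 : F) • u = 0 := by
    rw [← add_zero (0 : V)]
    nth_rewrite 1 [← h1]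
    nth_rewrite 1 [← h3]
    match_scalars <;> ring
  exact hu0 ((smul_eq_zero.1 h4).resolve_left (neg_ne_zero.2 h2))

/-- A map of the plane commuting with `i` and `j` is scalar. -/
theorem scalar_of_commute [Finite F] [FiniteDimensional F V] (h2 : (2 : F) ≠ 0) (g : V →ₗ[F] V)
    (hg : ∀ u ∈ moved z, g u ∈ moved z) (hgi : ∀ u ∈ moved z, g (i u) = i (g u))
    (hgj : ∀ u ∈ moved z, g (j u) = j (g u)) : ∃ a : F, ∀ u ∈ moved z, g u = a • u := by
  haveI : Fintype F := Fintype.ofFinite F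
  obtain ⟨b, c, hbc⟩ : ∃ b c : F, b * b + c * c + 1 = 0 := by
    obtain ⟨p, hp⟩ := CharP.exists F
    haveI := hp
    haveI : Fact p.Prime := ⟨CharP.char_is_prime F p⟩
    obtain ⟨b, c, h⟩ := ZMod.sq_add_sq p (-1)
    refine ⟨ZMod.castHom dvd_rfl F b, ZMod.castHom dvd_rfl F c, ?_⟩
    have h' := congrArg (ZMod.castHom dvd_rfl F) h
    simp only [map_add, map_pow, map_neg, map_one] at h'
    linear_combination h'
  obtain ⟨u0, hu0, hne⟩ := q.nil_ne_zero h2 b c
  obtain ⟨x, hx, hne', hxk⟩ : ∃ x ∈ moved z, x ≠ 0 ∧ q.nil b c x = 0 :=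
    ⟨_, q.nil_mem b c hu0, hne, q.nil_nil hbc hu0⟩
  have hgx : q.nil b c (g x) = 0 := by
    have h := congrArg g hxk
    rw [map_zero] at h
    rw [← h]
    simp only [nil_apply, map_add, map_smul, hgi _ hx, hgj _ hx, hgi _ (q.j_mem hx)]
  have hK : moved z ⊓ LinearMap.ker (q.nil b c) < moved z :=
    lt_of_le_of_ne inf_le_left fun h => hne (h.symm ▸ hu0 : u0 ∈ moved z ⊓ LinearMap.ker _).2
  have hK' := Submodule.finrank_lt_finrank_of_lt hK
  rw [q.plane] at hK'
  have hK1 : moved z ⊓ LinearMap.ker (q.nil b c) = F ∙ x := by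
    refine (Submodule.eq_of_le_of_finrank_le
      ((Submodule.span_singleton_le_iff_mem _ _).2 (Submodule.mem_inf.2 ⟨hx, hxk⟩)) ?_).symm
    rw [finrank_span_singleton hne']
    omega
  obtain ⟨a, ha⟩ := Submodule.mem_span_singleton.1 (hK1 ▸ Submodule.mem_inf.2 ⟨hg x hx, hgx⟩ : g x ∈ F ∙ x)
  refine ⟨a, fun u hu => sub_eq_zero.1 ?_⟩
  refine q.span_killed h2 (g - a • LinearMap.id) hx hne' ?_ ?_ ?_ hu <;>
    simp only [LinearMap.sub_apply, LinearMap.smul_apply, LinearMap.id_coe, id_eq]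
  · rw [hgi _ hx, ← ha, map_smul, sub_self]
  · rw [hgj _ hx, ← ha, map_smul, sub_self]
  · rw [hgi _ (q.j_mem hx), hgj _ hx, ← ha, map_smul, map_smul, sub_self]

end QuatPair

end Form

end CfsgLib.HallGen.Pronormal
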