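import Cfsg.Agent.Lib.HallGen.Pronormal.PlaneBasics

/-!
# Odd order elements normalised by a quaternion pair

* `QuatPair.eq_one_of_inverted` : an odd order isometry inverted by `z` and commuting with its
  conjugates under `i`, `j`, `i j` is trivial
* `QuatPair.trivial_on_plane` : an odd order group normalised by `i`, `j` and centralising `z` is
  trivial on the plane, when the elements moving only the plane form a `2`-group
-/

set_option autoImplicit false
set_option linter.all false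

namespace CfsgLib.HallGen.Pronormal

open Module

universe u v

variable {F : Type u} [Field F] {V : Type v} [AddCommGroup V] [Module F V]
variable {B : LinearMap.BilinForm F V} {z i j : V ≃ₗ[F] V}

theorem apply_inv_apply' (g : V ≃ₗ[F] V) (v : V) : g (g⁻¹ v) = v := by
  rw [← LinearEquiv.mul_apply, mul_inv_cancel]; rfl

theorem inv_apply_apply' (g : V ≃ₗ[F] V) (v : V) : g⁻¹ (g v) = v := by
  rw [← LinearEquiv.mul_apply, inv_mul_cancel]; rfl

theorem eq_one_of_odd_pow {G : Type*} [Monoid G] {g : G} {n : ℕ} (hn : Odd n) (hgn : g ^ n = 1)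
    {e : ℕ} (he : g ^ 2 ^ e = 1) : g = 1 := by
  have hcop : Nat.Coprime n (2 ^ e) := (Nat.coprime_two_right.2 hn).pow_right e
  exact orderOf_eq_one_iff.1 (Nat.eq_one_of_dvd_coprimes hcop (orderOf_dvd_of_pow_eq_one hgn)
    (orderOf_dvd_of_pow_eq_one he))

namespace QuatPair

variable [FiniteDimensional F V] (q : QuatPair B z i j)
include q

theorem eq_one_of_inverted (h2 : (2 : F) ≠ 0) (hB : IsSymp B) {d : V ≃ₗ[F] V} (hd : IsIso B d)
    {n : ℕ} (hn : Odd n) (hdn : d ^ n = 1) (hinv : z * d * z = d⁻¹)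
    (hi : Commute d (i * d * i⁻¹)) (hj : Commute d (j * d * j⁻¹))
    (hk : Commute d ((i * j) * d * (i * j)⁻¹)) : d = 1 := by
  let M : V →ₗ[F] V := (d : V →ₗ[F] V) - ((d⁻¹ : V ≃ₗ[F] V) : V →ₗ[F] V)
  have hM : ∀ v, M v = d v - d⁻¹ v := fun v => rfl
  have hinv' : z * d⁻¹ * z = d := by
    rw [← hinv, show z * (z * d * z) * z = (z * z) * d * (z * z) by group, q.zz, one_mul, mul_one]
  have hzM : ∀ v, z (M (z v)) = -M v := fun v => by
    rw [hM, map_sub, hM, neg_sub]
    exact congrArg₂ (· - ·) (congrArg (fun g : V ≃ₗ[F] V => g v) hinv)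
      (congrArg (fun g : V ≃ₗ[F] V => g v) hinv')
  have hMfix : ∀ v, z v = v → M v ∈ moved z := fun v hv =>
    mem_moved_of_neg h2 (by have h := hzM v; rwa [hv] at h)
  have hMmoved : ∀ u ∈ moved z, z (M u) = M u := fun u hu => by
    have h := hzM u
    rw [apply_moved q.zz hu, map_neg, map_neg, neg_inj] at h
    exact h
  have hskew : ∀ x y, B (M x) y = -B x (M y) := fun x y => by
    have h1 : B (d x) y = B x (d⁻¹ y) := by
      conv_lhs => rw [← apply_inv_apply' d y]
      exact hd _ _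
    have h3 : B (d⁻¹ x) y = B x (d y) := by
      conv_rhs => rw [← apply_inv_apply' d x]
      exact (hd _ _).symm
    rw [hM, hM, map_sub, LinearMap.sub_apply, map_sub, h1, h3, neg_sub]
  -- `M` on the fixed space
  have hkey : ∀ k : V ≃ₗ[F] V, IsIso B k → (∀ v, k v - v ∈ moved z) → k * k = z →
      Commute d (k * d * k⁻¹) → ∀ v, z v = v → M (k (M v)) = 0 := by
    intro k hki hkm hkk hc v hv
    have hkfix : ∀ w, z w = w → k w = w := fun w hw =>
      (fix_iff hB hki).2 fun x hx => perp_of_fix hB q.isoz (moved_le hkm hx) hw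
    have hkneg : ∀ u ∈ moved z, k⁻¹ u = -k u := fun u hu => by
      apply k.injective
      rw [apply_inv_apply', map_neg, ← LinearEquiv.mul_apply, hkk, apply_moved q.zz hu, neg_neg]
    let Mk : V → V := fun x => k (M (k⁻¹ x))
    have hcomm : ∀ x, M (Mk x) = Mk (M x) := by
      have key : ∀ a b : V ≃ₗ[F] V, Commute a b → ∀ x, a (b x) = b (a x) := fun a b h x =>
        congrArg (fun g : V ≃ₗ[F] V => g x) h.eq
      have e : ∀ x, Mk x = (k * d * k⁻¹) x - (k * d * k⁻¹)⁻¹ x := fun x => by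
        simp only [Mk, hM, map_sub, mul_inv_rev, inv_inv, LinearEquiv.mul_apply]
      intro x
      rw [e, e, hM, hM]
      simp only [map_sub, key d _ hc, key d⁻¹ _ hc.inv_left, key d _ hc.inv_right,
        key d⁻¹ _ hc.inv_left.inv_right]
      abel
    have h := hcomm v
    have hv' : k⁻¹ v = v := by
      conv_lhs => rw [← hkfix v hv]
      exact inv_apply_apply' k v
    simp only [Mk, hv', hkneg _ (hMfix v hv), map_neg] at h
    rw [hkfix _ (hMmoved _ (maps_of_moved hkm (hMfix v hv)))] at h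
    have h' : (2 : F) • M (k (M v)) = 0 := by
      rw [two_smul]
      nth_rewrite 1 [h]
      rw [neg_add_cancel]
    exact (smul_eq_zero.1 h').resolve_left h2
  have hfix0 : ∀ v, z v = v → M v = 0 := by
    intro v hv
    by_contra hne
    have hall : ∀ u ∈ moved z, M u = 0 := fun u hu => q.span_killed h2 M (hMfix v hv) hne
      (hkey i q.isoi q.mi q.ii hi v hv) (hkey j q.isoj q.mj q.jj hj v hv)
      (hkey (i * j) ((isoGroup B).mul_mem q.isoi q.isoj) (moved_mul_le q.mi q.mj) q.mul_sq hk v hv) hu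
    refine hne (moved_nondeg h2 hB q.isoz q.zz (hMfix v hv) fun u hu => hB.swap ?_)
    rw [hskew, hall u hu, map_zero, neg_zero]
  have hu0 : ∀ u ∈ moved z, M u = 0 := fun u hu => hB.nondeg _ fun w => by
    rw [show w = proj z w + (w - proj z w) by abel, map_add,
      hB.swap (perp_of_fix hB q.isoz (proj_mem z w) (hMmoved u hu)), zero_add, hskew,
      hfix0 _ (apply_sub_proj h2 q.zz w), map_zero, neg_zero]
  have hd2 : d = d⁻¹ := LinearEquiv.ext fun v => sub_eq_zero.1 (by
    show M v = 0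
    rw [show v = proj z v + (v - proj z v) by abel, map_add, hu0 _ (proj_mem z v),
      hfix0 _ (apply_sub_proj h2 q.zz v), add_zero])
  refine eq_one_of_odd_pow hn hdn (e := 1) ?_
  rw [pow_one, pow_two]
  nth_rewrite 2 [hd2]
  exact mul_inv_cancel d

theorem trivial_on_plane [Finite F] (h2 : (2 : F) ≠ 0) (hB : IsSymp B) (J X : Subgroup (V ≃ₗ[F] V))
    (hXJ : X ≤ J) (hi : i ∈ J) (hj : j ∈ J) (hXi : ∀ x ∈ X, i * x * i⁻¹ ∈ X)
    (hXj : ∀ x ∈ X, j * x * j⁻¹ ∈ X) (hodd : ∀ x ∈ X, ∃ n, Odd n ∧ x ^ n = 1)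
    (hsmall : ∀ g ∈ J, (∀ v, g v - v ∈ moved z) → ∃ e : ℕ, g ^ 2 ^ e = 1)
    {c : V ≃ₗ[F] V} (hc : c ∈ X) (hci : IsIso B c) (hcz : Commute c z) :
    ∀ u ∈ moved z, c u = u := by
  have hcU : ∀ u ∈ moved z, c u ∈ moved z := fun u hu => mem_moved_of_neg h2 (by
    rw [← LinearEquiv.mul_apply, ← hcz.eq, LinearEquiv.mul_apply, apply_moved q.zz hu, map_neg])
  have hcomm : ∀ k ∈ J, (∀ x ∈ X, k * x * k⁻¹ ∈ X) → (∀ v, k v - v ∈ moved z) → Commute c k := by
    intro k hk hXk hkm
    have hg : c * (k * c⁻¹ * k⁻¹) ∈ X := X.mul_mem hc (hXk _ (X.inv_mem hc))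
    have hm : ∀ v, (c * (k * c⁻¹ * k⁻¹)) v - v ∈ moved z := by
      rw [show c * (k * c⁻¹ * k⁻¹) = (c * k * c⁻¹) * k⁻¹ by group]
      refine moved_mul_le (fun v => ?_) (moved_inv_le hkm)
      rw [LinearEquiv.mul_apply, LinearEquiv.mul_apply]
      have h := hcU _ (hkm (c⁻¹ v))
      rwa [map_sub, apply_inv_apply'] at h
    obtain ⟨n, hn, hxn⟩ := hodd _ hg
    obtain ⟨e, he⟩ := hsmall _ (J.mul_mem (hXJ hc) (J.mul_mem (J.mul_mem hk
      (J.inv_mem (hXJ hc))) (J.inv_mem hk))) hm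
    have h1 := eq_one_of_odd_pow hn hxn he
    calc c * k = c * (k * c⁻¹ * k⁻¹) * (k * c) := by group
      _ = k * c := by rw [h1, one_mul]
  have hci' := hcomm i hi hXi q.mi
  have hcj' := hcomm j hj hXj q.mj
  obtain ⟨a, ha⟩ := q.scalar_of_commute h2 (c : V →ₗ[F] V) hcU
    (fun u _ => congrArg (fun g : V ≃ₗ[F] V => g u) hci'.eq)
    (fun u _ => congrArg (fun g : V ≃ₗ[F] V => g u) hcj'.eq)
  intro u hu
  rcases eq_or_ne u 0 with rfl | hu0
  · exact map_zero c
  obtain ⟨u', hu', hne⟩ : ∃ u' ∈ moved z, B u' u ≠ 0 := by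
    by_contra! h
    exact hu0 (moved_nondeg h2 hB q.isoz q.zz hu h)
  have h := hci u' u
  have hcu : c u = a • u := ha u hu
  have hcu' : c u' = a • u' := ha u' hu'
  simp only [hcu, hcu', map_smul, LinearMap.smul_apply, smul_eq_mul] at h
  rw [← mul_assoc, mul_eq_right₀ hne] at h
  obtain ⟨n, hn, hcn⟩ := hodd c hc
  have hpow : ∀ m : ℕ, (c ^ m) u = a ^ m • u := fun m => by
    induction m with
    | zero => rw [pow_zero, pow_zero, one_smul]; rfl
    | succ m ih => rw [pow_succ, LinearEquiv.mul_apply, hcu, map_smul, ih, smul_smul, pow_succ']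
  have han : a ^ n = 1 := by
    have h' := hpow n
    rw [hcn] at h'
    exact (smul_left_injective F hu0 (show (1 : F) • u = a ^ n • u by rw [one_smul]; exact h')).symm
  have ha1 : a = 1 := eq_one_of_odd_pow hn han (e := 1) (by rw [pow_one, pow_two, h])
  rw [hcu, ha1, one_smul]

end QuatPair

end CfsgLib.HallGen.Pronormal
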