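import Cfsg.Agent.Lib.HallGen.Pronormal.PlaneTransvection
import Cfsg.Agent.Lib.HallGen.Pronormal.PlaneInverted
import Cfsg.Agent.Lib.Core.Coprime
import Cfsg.Agent.Lib.Core.PronormalOvergroups
import Cfsg.Agent.Lib.ZStar.Main

/-!
# Classical involutions with quaternion root groups commute

If a finite group of isometries of an alternating form in odd characteristic contains no transvection,
and `D` is an invariant set of involutions negating planes, each the square of two anticommuting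
elements moving only its plane, the elements moving only such a plane form `2`-groups, and two members
of `D` generating a `2`-group commute, then any two members of `D` commute.
-/

set_option autoImplicit false
set_option linter.all false

namespace CfsgLib.HallGen.Pronormal

open Module Cfsg

universe u v

variable {F : Type u} [Field F] {V : Type v} [AddCommGroup V] [Module F V]
variable {B : LinearMap.BilinForm F V} {z z' i j : V ≃ₗ[F] V}

/-- The hypotheses on the set `D`. -/
structure PlaneData (B : LinearMap.BilinForm F V) (J : Subgroup (V ≃ₗ[F] V))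
    (D : Set (V ≃ₗ[F] V)) : Prop where
  iso : ∀ g ∈ J, IsIso B g
  mem : ∀ z ∈ D, z ∈ J
  conj : ∀ g ∈ J, ∀ z ∈ D, g * z * g⁻¹ ∈ D
  quat : ∀ z ∈ D, ∃ i ∈ J, ∃ j ∈ J, QuatPair B z i j
  small : ∀ z ∈ D, ∀ g ∈ J, (∀ v, g v - v ∈ moved z) → ∃ e : ℕ, g ^ 2 ^ e = 1
  comm : ∀ z ∈ D, ∀ z' ∈ D, (∃ e : ℕ, (z * z') ^ 2 ^ e = 1) → z * z' = z' * z
  noTv : ∀ g ∈ J, finrank F (moved g) ≠ 1

theorem moved_one : moved (1 : V ≃ₗ[F] V) = ⊥ :=
  le_bot_iff.1 (moved_le fun v => by
    show (1 : V ≃ₗ[F] V) v - v ∈ (⊥ : Submodule F V)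
    rw [show (1 : V ≃ₗ[F] V) v = v from rfl, sub_self]
    exact zero_mem _)

theorem eq_one_of_moved_eq_bot {g : V ≃ₗ[F] V} (h : moved g = ⊥) : g = 1 := by
  refine LinearEquiv.ext fun v => sub_eq_zero.1 ?_
  exact (Submodule.mem_bot F).1 (h ▸ sub_mem_moved g v)

section Main

variable [Finite F] [FiniteDimensional F V]

theorem PlaneData.commute {J : Subgroup (V ≃ₗ[F] V)} {D : Set (V ≃ₗ[F] V)} (h2 : (2 : F) ≠ 0)
    (hB : IsSymp B) (hD : PlaneData B J D) {z z' : V ≃ₗ[F] V} (hz : z ∈ D) (hz' : z' ∈ D) :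
    z * z' = z' * z := by
  classical
  by_contra hne
  obtain ⟨i, hi, j, hj, q⟩ := hD.quat z hz
  obtain ⟨i', hi', j', hj', q'⟩ := hD.quat z' hz'
  have hzz := q.zz
  have hzi := q.isoz
  haveI : Finite V := Module.finite_of_finite F
  haveI : Finite (V ≃ₗ[F] V) := Finite.of_injective _ DFunLike.coe_injective
  have hUne : moved z' ≠ moved z := fun h =>
    hne (by rw [eq_of_moved_eq h2 hB hzi q'.isoz hzz q'.zz h.symm])
  set W := moved z ⊔ moved z' with hW
  -- the part orthogonal to the first plane is not totally isotropic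
  obtain ⟨c, hcW, c', hc'W, hzc, hzc', hcc⟩ :
      ∃ c ∈ W, ∃ c' ∈ W, z c = c ∧ z c' = c' ∧ B c c' ≠ 0 := by
    by_contra! h
    obtain ⟨g, hg, hg1, -⟩ := exists_transvection h2 hB q q'.isoz q'.zz q'.plane hUne
      (fun a ha b hb h1 h3 => h a ha b hb h1 h3) J hi hj (hD.mem z' hz')
    exact hD.noTv g hg hg1
  set C := W ⊓ LinearMap.ker ((z : V →ₗ[F] V) - LinearMap.id) with hC
  have hmemC : ∀ x, x ∈ C ↔ x ∈ W ∧ z x = x := fun x => by
    rw [hC, Submodule.mem_inf, LinearMap.mem_ker]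
    simp [sub_eq_zero]
  have hcC : c ∈ C := (hmemC c).2 ⟨hcW, hzc⟩
  have hc'C : c' ∈ C := (hmemC c').2 ⟨hc'W, hzc'⟩
  have hprojW : ∀ x ∈ W, x - proj z x ∈ C := fun x hx =>
    (hmemC _).2 ⟨W.sub_mem hx (Submodule.mem_sup_left (proj_mem z x)), apply_sub_proj h2 hzz x⟩
  have hCdim : finrank F C ≤ 2 := by
    have hle : C ≤ (moved z').map (LinearMap.id - proj z) := by
      intro x hx
      obtain ⟨hxW, hzx⟩ := (hmemC x).1 hx
      obtain ⟨u, hu, u', hu', rfl⟩ := Submodule.mem_sup.1 hxW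
      refine ⟨u', hu', ?_⟩
      have h := proj_of_fix hzx
      rw [map_add, proj_of_mem h2 hzz hu] at h
      simp only [LinearMap.sub_apply, LinearMap.id_coe, id_eq]
      rw [eq_neg_of_add_eq_zero_right h]
      abel
    exact (Submodule.finrank_mono hle).trans ((Submodule.finrank_map_le _ _).trans q'.plane.le)
  set β := B c c' with hβ
  have hc'c : B c' c = -β := (LinearMap.IsAlt.neg hB.alt c c').symm
  have hind : ∀ a b : F, a • c + b • c' = 0 → a = 0 ∧ b = 0 := by
    intro a b h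
    have h1 := congrArg (fun x => B x c') h
    have h3 := congrArg (fun x => B x c) h
    simp only [map_add, map_smul, LinearMap.add_apply, LinearMap.smul_apply, smul_eq_mul, hB.alt c,
      hB.alt c', hc'c, mul_zero, add_zero, zero_add, map_zero, LinearMap.zero_apply, mul_neg,
      neg_eq_zero, ← hβ, mul_eq_zero] at h1 h3
    exact ⟨h1.resolve_right hcc, h3.resolve_right hcc⟩
  have hspan : C = Submodule.span F {c, c'} := by
    refine (Submodule.eq_of_le_of_finrank_le (Submodule.span_le.2 ?_) ?_).symm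
    · rintro x (rfl | rfl) <;> assumption
    · refine hCdim.trans ?_
      have hli : LinearIndependent F ![c, c'] :=
        LinearIndependent.pair_iff.2 fun a b h => hind a b h
      have := finrank_span_eq_card hli
      rw [Fintype.card_fin, Matrix.range_cons, Matrix.range_cons, Matrix.range_empty,
        Set.union_empty, Set.singleton_union] at this
      exact this.ge
  have hC0 : ∀ x ∈ C, B x c = 0 → B x c' = 0 → x = 0 := by
    intro x hx h1 h3
    rw [hspan] at hx
    obtain ⟨a, b, rfl⟩ := Submodule.mem_span_pair.1 hx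
    simp only [map_add, map_smul, LinearMap.add_apply, LinearMap.smul_apply, smul_eq_mul, hB.alt c,
      hB.alt c', hc'c, mul_zero, add_zero, zero_add, mul_neg, neg_eq_zero, ← hβ, mul_eq_zero] at h1 h3
    rw [h3.resolve_right hcc, h1.resolve_right hcc, zero_smul, zero_smul, add_zero]
  have hUC : ∀ u ∈ moved z, ∀ x ∈ C, B u x = 0 := fun u hu x hx =>
    perp_of_fix hB hzi hu ((hmemC x).1 hx).2
  -- `W` is non-degenerate
  have hW0 : ∀ x ∈ W, (∀ w ∈ W, B x w = 0) → x = 0 := by
    intro x hx h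
    have h1 : x - proj z x = 0 := by
      refine hC0 _ (hprojW x hx) ?_ ?_ <;>
        rw [map_sub, LinearMap.sub_apply, sub_eq_zero, hUC _ (proj_mem z x) _ (by assumption)]
      · exact h c hcW
      · exact h c' hc'W
    have h3 : proj z x = 0 := moved_nondeg h2 hB hzi hzz (proj_mem z x) fun u hu => hB.swap (by
      rw [form_proj h2 hB hzi hzz hu x]
      exact h u (Submodule.mem_sup_left hu))
    rw [h3, sub_zero] at h1
    exact h1
  have hdec : ∀ v, ∃ w ∈ W, ∀ w' ∈ W, B w' (v - w) = 0 := by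
    intro v
    refine ⟨proj z v + ((B v c' / β) • c + (-(B v c) / β) • c'), W.add_mem
      (Submodule.mem_sup_left (proj_mem z v))
      (W.add_mem (W.smul_mem _ hcW) (W.smul_mem _ hc'W)), fun w' hw' => hB.swap ?_⟩
    set w := proj z v + ((B v c' / β) • c + (-(B v c) / β) • c') with hw
    have hproj0 : B (proj z v) c = 0 ∧ B (proj z v) c' = 0 :=
      ⟨hUC _ (proj_mem z v) _ hcC, hUC _ (proj_mem z v) _ hc'C⟩
    have hwc : B (v - w) c = 0 := by
      simp only [hw, map_sub, map_add, map_smul, LinearMap.sub_apply, LinearMap.add_apply,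
        LinearMap.smul_apply, smul_eq_mul, hB.alt c, hc'c, hproj0.1]
      field_simp
      ring
    have hwc' : B (v - w) c' = 0 := by
      simp only [hw, map_sub, map_add, map_smul, LinearMap.sub_apply, LinearMap.add_apply,
        LinearMap.smul_apply, smul_eq_mul, hB.alt c', ← hβ, hproj0.2]
      field_simp
      ring
    have hwu : ∀ u ∈ moved z, B (v - w) u = 0 := by
      intro u hu
      simp only [hw, map_sub, map_add, map_smul, LinearMap.sub_apply, LinearMap.add_apply,
        LinearMap.smul_apply, smul_eq_mul, hB.swap (hUC u hu c hcC), hB.swap (hUC u hu c' hc'C),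
        form_proj h2 hB hzi hzz hu v]
      ring
    have hwC : ∀ x ∈ C, B (v - w) x = 0 := by
      intro x hx
      rw [hspan] at hx
      obtain ⟨a, b, rfl⟩ := Submodule.mem_span_pair.1 hx
      rw [map_add, map_smul, map_smul, hwc, hwc', smul_zero, smul_zero, add_zero]
    rw [show w' = proj z w' + (w' - proj z w') by abel, map_add, hwu _ (proj_mem z w'),
      hwC _ (hprojW w' hw'), add_zero]
  -- the subgroup moving inside `W`
  set G := moveSubgroup J W with hG
  have hfaith : ∀ g h : V ≃ₗ[F] V, g ∈ G → h ∈ G → (∀ w ∈ W, g w = h w) → g = h := by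
    intro g h hg hh hgh
    refine LinearEquiv.ext fun v => ?_
    obtain ⟨w, hw, hperp⟩ := hdec v
    have hfix : ∀ a ∈ G, a (v - w) = v - w := fun a ha =>
      (fix_iff hB (hD.iso a ha.1)).2 fun x hx => hperp x (moved_le ha.2 hx)
    rw [show v = w + (v - w) by abel, map_add, map_add, hgh w hw, hfix g hg, hfix h hh]
  have hmovedW : ∀ a ∈ D, moved a ≤ W → a ∈ G := fun a ha hle =>
    ⟨hD.mem a ha, fun v => hle (sub_mem_moved a v)⟩
  have hzG : z ∈ G := hmovedW z hz le_sup_left
  have hz'G : z' ∈ G := hmovedW z' hz' le_sup_right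
  let Z : Subgroup G :=
    { carrier := {g | (∀ w ∈ W, (g : V ≃ₗ[F] V) w = w) ∨ ∀ w ∈ W, (g : V ≃ₗ[F] V) w = -w}
      one_mem' := Or.inl fun w _ => rfl
      mul_mem' := by
        rintro a b (ha | ha) (hb | hb)
        · exact Or.inl fun w hw => by
            rw [Subgroup.coe_mul, LinearEquiv.mul_apply, hb w hw, ha w hw]
        · exact Or.inr fun w hw => by
            rw [Subgroup.coe_mul, LinearEquiv.mul_apply, hb w hw, map_neg, ha w hw]
        · exact Or.inr fun w hw => by
            rw [Subgroup.coe_mul, LinearEquiv.mul_apply, hb w hw, ha w hw]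
        · exact Or.inl fun w hw => by
            rw [Subgroup.coe_mul, LinearEquiv.mul_apply, hb w hw, map_neg, ha w hw, neg_neg]
      inv_mem' := by
        rintro a (ha | ha)
        · exact Or.inl fun w hw => by
            rw [Subgroup.coe_inv]
            conv_lhs => rw [← ha w hw]
            exact inv_apply_apply' _ w
        · exact Or.inr fun w hw => by
            rw [Subgroup.coe_inv]
            have h := ha (-w) (W.neg_mem hw)
            rw [neg_neg] at h
            conv_lhs => rw [← h]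
            exact inv_apply_apply' _ _ }
  have hZc : Z ≤ Subgroup.center G := by
    intro g hg
    refine Subgroup.mem_center_iff.2 fun h => Subtype.ext (hfaith _ _ (h * g).2 (g * h).2 ?_)
    intro w hw
    have hhw := maps_of_moved h.2.2 hw
    simp only [Subgroup.coe_mul, LinearEquiv.mul_apply]
    rcases hg with hg | hg <;> rw [hg w hw, hg _ hhw]
    rw [map_neg]
  haveI hZn : Z.Normal := ⟨fun g hg h => by
    rw [Subgroup.mem_center_iff.1 (hZc hg) h, mul_inv_cancel_right]; exact hg⟩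
  -- members of `D` moving inside `W` and commuting with `z`
  have hdich : ∀ a ∈ D, ∀ haG : a ∈ G, z * a = a * z → (⟨z, hzG⟩ : G) * ⟨a, haG⟩ ∈ Z := by
    intro a ha haG hza
    obtain ⟨ia, -, ja, -, qa⟩ := hD.quat a ha
    have hUa : moved a ≤ W := moved_le haG.2
    have hzU : ∀ u ∈ moved a, z u ∈ moved a := fun u hu => by
      have h := moved_conj z a hu
      rwa [hza, mul_inv_cancel_right] at h
    have hp : ∀ u ∈ moved a, proj z u ∈ moved a := fun u hu =>
      (moved a).smul_mem _ ((moved a).sub_mem hu (hzU u hu))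
    by_cases hall : ∀ u ∈ moved a, proj z u = u
    · -- the same plane
      have he : z = a := eq_of_moved_eq h2 hB hzi qa.isoz hzz qa.zz
        (Submodule.eq_of_le_of_finrank_eq (fun u hu => hall u hu ▸ proj_mem z u)
          (by rw [q.plane, qa.plane])).symm
      subst he
      rw [show (⟨z, hzG⟩ : G) * ⟨z, haG⟩ = 1 from Subtype.ext hzz]
      exact Z.one_mem
    by_cases hnone : ∀ u ∈ moved a, proj z u = 0
    · -- the orthogonal plane
      have hle : moved a ≤ C := fun u hu => (hmemC u).2 ⟨hUa hu, by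
        rw [apply_eq_sub_proj h2 z u, hnone u hu, smul_zero, sub_zero]⟩
      have hUC' : moved a = C := Submodule.eq_of_le_of_finrank_le hle (by rw [qa.plane]; exact hCdim)
      refine Or.inr fun w hw => ?_
      show (z * a) w = -w
      have h1 : a (proj z w) = proj z w := (fix_iff hB qa.isoz).2 fun x hx =>
        hB.swap (hUC _ (proj_mem z w) x (hUC' ▸ hx))
      have h3 : a (w - proj z w) = -(w - proj z w) :=
        apply_moved qa.zz (hUC'.symm ▸ hprojW w hw)
      rw [LinearEquiv.mul_apply]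
      conv_lhs => rw [show w = proj z w + (w - proj z w) by abel, map_add, h1, h3, map_add, map_neg,
        apply_moved hzz (proj_mem z w), apply_sub_proj h2 hzz w]
      abel
    exfalso
    push Not at hall hnone
    obtain ⟨u₁, hu₁, hne₁⟩ := hall
    obtain ⟨u₂, hu₂, hne₂⟩ := hnone
    set p := proj z u₂
    set r := u₁ - proj z u₁ with hr
    have hpm : p ∈ moved a := hp u₂ hu₂
    have hrm : r ∈ moved a := (moved a).sub_mem hu₁ (hp u₁ hu₁)
    have hr0 : r ≠ 0 := fun h => hne₁ (sub_eq_zero.1 h).symm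
    refine hne₂ (moved_nondeg h2 hB qa.isoz qa.zz hpm fun u hu => ?_)
    have hsp : moved a ⊓ LinearMap.ker (B.flip p) = moved a := by
      refine Submodule.eq_of_le_of_finrank_le inf_le_left ?_
      have hlt : F ∙ p < moved a ⊓ LinearMap.ker (B.flip p) := by
        refine lt_of_le_of_ne ((Submodule.span_singleton_le_iff_mem _ _).2
          (Submodule.mem_inf.2 ⟨hpm, hB.alt p⟩)) fun h => hr0 ?_
        have hrmem : r ∈ F ∙ p := h.symm ▸ Submodule.mem_inf.2
          ⟨hrm, hB.swap (perp_of_fix hB hzi (proj_mem z u₂) (apply_sub_proj h2 hzz u₁))⟩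
        obtain ⟨t, ht⟩ := Submodule.mem_span_singleton.1 hrmem
        have h' := congrArg (proj z) ht
        rw [map_smul, proj_of_fix (apply_sub_proj h2 hzz u₁), proj_of_mem h2 hzz (proj_mem z u₂),
          ht] at h'
        exact h'
      have := Submodule.finrank_lt_finrank_of_lt hlt
      rw [finrank_span_singleton hne₂] at this
      rw [qa.plane]
      omega
    exact (Submodule.mem_inf.1 (hsp.symm ▸ hu : u ∈ moved a ⊓ _)).2
  -- odd order modulo `Z`
  have hodd : ∀ a ∈ D, ∀ haG : a ∈ G, ∃ s : ℕ, ((⟨z, hzG⟩ : G) * ⟨a, haG⟩) ^ (2 * s + 1) ∈ Z := by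
    intro a ha haG
    obtain ⟨ia, -, ja, -, qa⟩ := hD.quat a ha
    set r := z * a with hr
    obtain ⟨e, m, hm, hem⟩ := Nat.exists_eq_two_pow_mul_odd (n := orderOf r) (orderOf_pos r).ne'
    obtain ⟨s, hs⟩ := hm
    refine ⟨s, ?_⟩
    have hzr : z * r * z = r⁻¹ := by
      rw [hr, show z * (z * a) * z = (z * z) * a * z by group, hzz, one_mul, mul_inv_rev,
        inv_eq_of_mul_eq_one_right hzz, inv_eq_of_mul_eq_one_right qa.zz]
    set w := r ^ (-(s : ℤ)) with hw
    have hwJ : w ∈ G := G.zpow_mem (G.mul_mem hzG haG) _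
    have hb : w * a * w⁻¹ ∈ D := hD.conj w hwJ.1 a ha
    have hbG : w * a * w⁻¹ ∈ G := G.mul_mem (G.mul_mem hwJ haG) (G.inv_mem hwJ)
    have e1 : z * (w * a * w⁻¹) = r ^ (2 * s + 1) := by
      have hzw : z * w = r ^ (s : ℤ) * z := by
        have h := (map_zpow (MulAut.conj z) r (-(s : ℤ)))
        simp only [MulAut.conj_apply, inv_eq_of_mul_eq_one_right hzz, hzr, inv_zpow', neg_neg] at h
        rw [← hw] at h
        rw [← h, mul_assoc _ z z, hzz, mul_one]
      rw [show z * (w * a * w⁻¹) = (z * w) * a * w⁻¹ by group, hzw, mul_assoc _ z a, ← hr, hw,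
        ← zpow_neg, neg_neg, ← zpow_add_one, ← zpow_add, ← zpow_natCast]
      congr 1
      push_cast
      ring
    have hcm : z * (w * a * w⁻¹) = (w * a * w⁻¹) * z := hD.comm z hz _ hb ⟨e, by
      rw [e1, ← pow_mul, ← hs, mul_comm, ← hem, pow_orderOf_eq_one]⟩
    have h := hdich _ hb hbG hcm
    convert h using 1
    exact Subtype.ext e1.symm
  have hzne : ¬ (⟨z, hzG⟩ : G) ∈ Z := by
    rintro (h | h)
    · exact hne (by
        rw [show z = 1 from hfaith z 1 hzG G.one_mem h, one_mul, mul_one])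
    · have h' := h c hcW
      change z c = -c at h'
      rw [hzc] at h'
      have : (2 : F) • c = 0 := by rw [two_smul]; nth_rewrite 2 [h']; exact add_neg_cancel c
      rw [smul_eq_zero, or_iff_right h2] at this
      exact hcc (by rw [hβ, this, map_zero, LinearMap.zero_apply])
  -- Glauberman's theorem in the quotient
  let π := QuotientGroup.mk' Z
  have hu2 : orderOf (π ⟨z, hzG⟩) = 2 := orderOf_eq_prime
    (by rw [← map_pow, pow_two, show (⟨z, hzG⟩ : G) * ⟨z, hzG⟩ = 1 from Subtype.ext hzz, map_one])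
    fun h => hzne ((QuotientGroup.eq_one_iff _).1 h)
  have hoddπ : ∀ a ∈ D, ∀ haG : a ∈ G, ∃ s : ℕ,
      (π ((⟨z, hzG⟩ : G) * ⟨a, haG⟩)) ^ (2 * s + 1) = 1 := fun a ha haG => by
    obtain ⟨s, hs⟩ := hodd a ha haG
    exact ⟨s, by rw [← map_pow]; exact (QuotientGroup.eq_one_iff _).2 hs⟩
  have hstar : ∀ x : G ⧸ Z, π ⟨z, hzG⟩ * x * (π ⟨z, hzG⟩)⁻¹ * x⁻¹ ∈ oddCore (G ⧸ Z) :=
    ZStar.mem_oddCore_of_odd_commutator hu2 fun x => by
      obtain ⟨g, rfl⟩ := QuotientGroup.mk'_surjective Z x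
      have haD : (g : V ≃ₗ[F] V) * z * (g : V ≃ₗ[F] V)⁻¹ ∈ D := hD.conj _ g.2.1 z hz
      have haG : (g : V ≃ₗ[F] V) * z * (g : V ≃ₗ[F] V)⁻¹ ∈ G :=
        G.mul_mem (G.mul_mem g.2 hzG) (G.inv_mem g.2)
      obtain ⟨s, hs⟩ := hoddπ _ haD haG
      refine Odd.of_dvd_nat ⟨s, rfl⟩ (orderOf_dvd_of_pow_eq_one ?_)
      rw [← map_mul, ← map_inv, ← map_mul, ← map_inv, ← map_mul]
      convert hs using 3
      refine Subtype.ext ?_
      simp only [Subgroup.coe_mul, Subgroup.coe_inv, inv_eq_of_mul_eq_one_right hzz]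
      group
  set r : G := ⟨z, hzG⟩ * ⟨z', hz'G⟩ with hr
  obtain ⟨s, hs⟩ := hoddπ z' hz' hz'G
  rw [← hr] at hs
  have hzπ : π ⟨z, hzG⟩ * π r * (π ⟨z, hzG⟩)⁻¹ = (π r)⁻¹ := by
    rw [← map_mul, ← map_inv, ← map_mul, ← map_inv]
    refine congrArg π (Subtype.ext ?_)
    simp only [hr, Subgroup.coe_mul, Subgroup.coe_inv, mul_inv_rev, inv_eq_of_mul_eq_one_right hzz,
      inv_eq_of_mul_eq_one_right q'.zz]
    rw [← mul_assoc, hzz, one_mul]
  have hrcore : π r ∈ oddCore (G ⧸ Z) := by
    have h := hstar (π r ^ s)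
    rw [show π ⟨z, hzG⟩ * π r ^ s * (π ⟨z, hzG⟩)⁻¹ = ((π r)⁻¹) ^ s by
      rw [← conj_pow, hzπ], inv_pow, ← mul_inv_rev, ← pow_add] at h
    rw [show π r = ((π r) ^ (s + s))⁻¹ from eq_inv_of_mul_eq_one_right (by
      rw [← pow_succ, ← two_mul]; exact hs)]
    exact h
  -- lifting to the odd core
  have hZ2 : Nat.card Z ≤ 2 := by
    refine le_trans (Nat.card_le_card_of_injective
      (fun g : Z => decide (∀ w ∈ W, ((g : G) : V ≃ₗ[F] V) w = w)) ?_) (by simp)
    intro g g' hgg'
    simp only [decide_eq_decide] at hgg'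
    refine Subtype.ext (Subtype.ext (hfaith _ _ g.1.2 g'.1.2 fun w hw => ?_))
    by_cases hg : ∀ w ∈ W, ((g : G) : V ≃ₗ[F] V) w = w
    · rw [hg w hw, hgg'.1 hg w hw]
    · rw [g.2.resolve_left hg w hw, g'.2.resolve_left (fun h => hg (hgg'.2 h)) w hw]
  have hr2 : r ^ 2 ∈ oddCore G := by
    set N := (oddCore (G ⧸ Z)).comap π with hN
    have hrN : r ^ 2 ∈ N := by
      rw [hN, Subgroup.mem_comap, map_pow]
      exact pow_mem hrcore 2
    have hord : Odd (orderOf (r ^ 2)) := by
      refine Odd.of_dvd_nat ⟨s, rfl⟩ (orderOf_dvd_of_pow_eq_one ?_)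
      rw [← map_pow] at hs
      have hmem := (QuotientGroup.eq_one_iff _).1 hs
      rw [← pow_mul, mul_comm, pow_mul, pow_two]
      refine Subtype.ext (hfaith _ _ (_ : G).2 G.one_mem fun w hw => ?_)
      rcases hmem with h | h
      · rw [Subgroup.coe_mul, LinearEquiv.mul_apply, h w hw, h w hw]
        rfl
      · rw [Subgroup.coe_mul, LinearEquiv.mul_apply, h w hw, map_neg, h w hw, neg_neg]
        rfl
    have hcard := Core.card_comap_mk' Z (oddCore (G ⧸ Z))
    rcases Nat.lt_or_ge (Nat.card Z) 2 with h1 | h1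
    · have h1' : Nat.card Z = 1 := by have := Nat.card_pos (α := Z); omega
      refine ZStar.le_oddCore (N := N) inferInstance ?_ hrN
      rw [hN, hcard, h1', one_mul]
      exact ZStar.odd_card_oddCore _
    · have h2' : Nat.card Z = 2 := le_antisymm hZ2 h1
      refine ZStar.mem_oddCore_of_central hZc h2' (N := N) inferInstance ?_
        (ZStar.odd_card_oddCore _) (by rw [hN, hcard, h2']) hrN hord
      intro k hk
      rw [hN, Subgroup.mem_comap, QuotientGroup.mk'_apply, (QuotientGroup.eq_one_iff k).2 hk]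
      exact one_mem _
  -- `z` centralises the odd core
  set O : Subgroup (V ≃ₗ[F] V) := (oddCore G).map G.subtype with hO
  have hOG : O ≤ G := Subgroup.map_subtype_le _
  have hOodd : Odd (Nat.card O) := by
    rw [hO, Subgroup.card_map_of_injective G.subtype_injective]
    exact ZStar.odd_card_oddCore _
  set A := moveSubgroup J (moved z) with hA
  have hAG : A ≤ G := fun g hg => ⟨hg.1, fun v => Submodule.mem_sup_left (hg.2 v)⟩
  have hAp : IsPGroup 2 A := fun g => by
    obtain ⟨e, he⟩ := hD.small z hz _ g.2.1 g.2.2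
    exact ⟨e, Subtype.ext (by rw [SubmonoidClass.coe_pow, he]; rfl)⟩
  haveI : Group.IsNilpotent A := hAp.isNilpotent
  have hAO : A ≤ Subgroup.normalizer (O : Set (V ≃ₗ[F] V)) := by
    rw [Subgroup.le_normalizer_iff]
    rintro a ha _ ⟨x, hx, rfl⟩
    exact ⟨⟨a, hAG ha⟩ * x * ⟨a, hAG ha⟩⁻¹,
      (inferInstance : (oddCore G).Normal).conj_mem x hx _, rfl⟩
  have hcop : (Nat.card A).Coprime (Nat.card O) := by
    obtain ⟨e, he⟩ := IsPGroup.iff_card.1 hAp
    rw [he]
    exact ((Nat.coprime_two_left.2 hOodd)).pow_left e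
  have hOJ : O ≤ J := fun x hx => (hOG hx).1
  have hOpow : ∀ x ∈ O, x ^ Nat.card O = 1 := fun x hx => by
    have h := congrArg Subtype.val (pow_card_eq_one' (x := (⟨x, hx⟩ : O)))
    rw [SubmonoidClass.coe_pow] at h
    exact h
  set CO : Subgroup O := (Subgroup.centralizer ({z} : Set (V ≃ₗ[F] V))).subgroupOf O with hCO
  have hzO : CO = ⊤ := by
    rw [← Subgroup.index_eq_one]
    by_contra hidx
    obtain ⟨p, hp, hpd⟩ := Nat.exists_prime_and_dvd hidx
    haveI := Fact.mk hp
    refine (CfsgLib.Core.PronormalOver.exists_sylow_le_iff (K := CO)).1 ?_ hpd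
    obtain ⟨P, hP⟩ := Core.exists_invariant_sylow hAO hcop (Or.inl inferInstance) p
    refine ⟨P, ?_⟩
    set R := (P : Subgroup O).map O.subtype with hR
    have hRO : R ≤ O := Subgroup.map_subtype_le _
    have hRp : IsPGroup p R := P.isPGroup'.map _
    intro x hx
    rw [hCO, Subgroup.mem_subgroupOf, Subgroup.mem_centralizer_singleton_iff]
    have hxR : (x : V ≃ₗ[F] V) ∈ R := ⟨x, hx, rfl⟩
    rcases eq_or_ne R ⊥ with hbot | hbot
    · rw [hbot, Subgroup.mem_bot] at hxR
      rw [hxR, one_mul, mul_one]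
    haveI : Nontrivial R := (Subgroup.nontrivial_iff_ne_bot R).2 hbot
    haveI := hRp.center_nontrivial
    obtain ⟨c₀, hc₀⟩ := exists_ne (1 : Subgroup.center R)
    set X := (Subgroup.center R).map R.subtype with hX
    have hXO : X ≤ O := (Subgroup.map_subtype_le _).trans hRO
    have hAX : ∀ a ∈ A, ∀ y ∈ X, a * y * a⁻¹ ∈ X := by
      rintro a ha _ ⟨y, hy, rfl⟩
      have hRn : ∀ b, a * b * a⁻¹ ∈ R ↔ b ∈ R := fun b =>
        (Subgroup.mem_normalizer_iff.1 (hP ha) b).symm
      refine ⟨⟨a * y * a⁻¹, (hRn _).2 y.2⟩, Subgroup.mem_center_iff.2 fun w => Subtype.ext ?_, rfl⟩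
      have hw : a⁻¹ * (w : V ≃ₗ[F] V) * a ∈ R :=
        (hRn _).1 (by rw [show a * (a⁻¹ * (w : V ≃ₗ[F] V) * a) * a⁻¹ = w by group]; exact w.2)
      have h := congrArg Subtype.val (Subgroup.mem_center_iff.1 hy ⟨_, hw⟩)
      simp only [Subgroup.coe_mul] at h ⊢
      calc (w : V ≃ₗ[F] V) * (a * y * a⁻¹)
          = a * ((a⁻¹ * (w : V ≃ₗ[F] V) * a) * y) * a⁻¹ := by group
        _ = a * (y * (a⁻¹ * (w : V ≃ₗ[F] V) * a)) * a⁻¹ := by rw [h]
        _ = a * y * a⁻¹ * w := by group
    have hiA : i ∈ A := ⟨hi, q.mi⟩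
    have hjA : j ∈ A := ⟨hj, q.mj⟩
    have hzA : z ∈ A := ⟨hD.mem z hz, sub_mem_moved z⟩
    have hXcomm : ∀ a b, a ∈ X → b ∈ X → Commute a b := by
      rintro _ _ ⟨a, ha, rfl⟩ ⟨b, hb, rfl⟩
      exact congrArg Subtype.val (Subgroup.mem_center_iff.1 ha b).symm
    have hXz : ∀ c ∈ X, Commute c z := by
      intro c hc
      have hzcz : z * c * z ∈ X := by
        have h := hAX z hzA c hc
        rwa [inv_eq_of_mul_eq_one_right hzz] at h
      set d := c * (z * c * z)⁻¹ with hd
      have hdX : d ∈ X := X.mul_mem hc (X.inv_mem hzcz)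
      have hd1 : d = 1 := by
        refine q.eq_one_of_inverted h2 hB (hD.iso d (hOJ (hXO hdX))) hOodd (hOpow d (hXO hdX)) ?_
          (hXcomm _ _ hdX (hAX i hiA d hdX)) (hXcomm _ _ hdX (hAX j hjA d hdX))
          (hXcomm _ _ hdX (hAX _ (A.mul_mem hiA hjA) d hdX))
        have hzi'' := inv_eq_of_mul_eq_one_right hzz
        rw [hd, mul_inv_rev (c) ((z * c * z)⁻¹), inv_inv]
        rw [show (z * c * z)⁻¹ = z * c⁻¹ * z by rw [mul_inv_rev, mul_inv_rev, hzi'', ← mul_assoc]]
        calc z * (c * (z * c⁻¹ * z)) * z = (z * c * z) * c⁻¹ * (z * z) := by group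
          _ = (z * c * z) * c⁻¹ := by rw [hzz, mul_one]
      rw [hd, mul_inv_eq_one] at hd1
      calc c * z = z * c * z * z := by rw [← hd1]
        _ = z * c := by rw [mul_assoc _ z z, hzz, mul_one]
    have hXU : ∀ c ∈ X, ∀ u ∈ moved z, c u = u := fun c hc =>
      q.trivial_on_plane h2 hB J X (hXO.trans hOJ) hi hj (hAX i hiA) (hAX j hjA)
        (fun y hy => ⟨_, hOodd, hOpow y (hXO hy)⟩) (hD.small z hz) hc (hD.iso c (hOJ (hXO hc)))
        (hXz c hc)
    set c₁ : V ≃ₗ[F] V := ((c₀ : R) : V ≃ₗ[F] V) with hc₁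
    have hc₁X : c₁ ∈ X := ⟨c₀, c₀.2, rfl⟩
    have hc₁J : c₁ ∈ J := hOJ (hXO hc₁X)
    have hle : moved c₁ ≤ C := by
      intro y hy
      refine (hmemC y).2 ⟨moved_le (hOG (hXO hc₁X)).2 hy, (fix_iff hB hzi).2 fun u hu => ?_⟩
      exact hB.swap ((fix_iff hB (hD.iso c₁ hc₁J)).1 (hXU c₁ hc₁X u hu) y hy)
    have hmc : moved c₁ = C := by
      refine Submodule.eq_of_le_of_finrank_le hle (hCdim.trans ?_)
      have h0 : finrank F (moved c₁) ≠ 0 := fun h => hc₀ (Subtype.ext (Subtype.ext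
        (eq_one_of_moved_eq_bot (Submodule.finrank_eq_zero.1 h))))
      have h1 := hD.noTv c₁ hc₁J
      omega
    have hstab : ∀ y ∈ R, ∀ w ∈ C, (y : V ≃ₗ[F] V) w ∈ C := by
      intro y hy w hw
      have hyc : y * c₁ = c₁ * y :=
        congrArg Subtype.val (Subgroup.mem_center_iff.1 c₀.2 ⟨y, hy⟩)
      have h := moved_conj y c₁ (hmc ▸ hw : w ∈ moved c₁)
      rw [hyc, mul_inv_cancel_right, hmc] at h
      exact h
    have hxU : ∀ u ∈ moved z, (x : V ≃ₗ[F] V) u ∈ moved z := by
      intro u hu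
      set t := (x : V ≃ₗ[F] V) u with ht
      have htW : t ∈ W := maps_of_moved (hOG (hRO hxR)).2 (Submodule.mem_sup_left hu)
      have h0 : t - proj z t = 0 := by
        have key : ∀ w ∈ C, B (t - proj z t) w = 0 := fun w hw => by
          have hw' := hstab _ (R.inv_mem hxR) w hw
          rw [map_sub, LinearMap.sub_apply, hUC _ (proj_mem z t) w hw, sub_zero, ht,
            ← apply_inv_apply' (x : V ≃ₗ[F] V) w, hD.iso _ (hOJ (hRO hxR))]
          exact hUC u hu _ hw'
        exact hC0 _ (hprojW t htW) (key c hcC) (key c' hc'C)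
      rw [sub_eq_zero.1 h0]
      exact proj_mem z t
    have he : (x : V ≃ₗ[F] V) * z * (x : V ≃ₗ[F] V)⁻¹ = z := by
      have hconj : moved ((x : V ≃ₗ[F] V) * z * (x : V ≃ₗ[F] V)⁻¹) = moved z := by
        refine Submodule.eq_of_le_of_finrank_eq ?_ (finrank_moved_conj _ _)
        refine moved_le fun v => ?_
        have h := hxU _ (sub_mem_moved z ((x : V ≃ₗ[F] V)⁻¹ v))
        rw [map_sub, apply_inv_apply'] at h
        exact h
      have hxz := hD.conj _ (hOJ (hRO hxR)) z hz
      obtain ⟨ix, -, jx, -, qx⟩ := hD.quat _ hxz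
      exact eq_of_moved_eq h2 hB qx.isoz hzi qx.zz hzz hconj
    exact mul_inv_eq_iff_eq_mul.1 he
  have hcomm : (z * z') ^ 2 * z = z * (z * z') ^ 2 := by
    have hmem : (⟨(z * z') ^ 2, ⟨r ^ 2, hr2, rfl⟩⟩ : O) ∈ CO := by rw [hzO]; trivial
    exact Subgroup.mem_centralizer_singleton_iff.1 (Subgroup.mem_subgroupOf.1 hmem)
  refine hne (hD.comm z hz z' hz' ⟨2, ?_⟩)
  have hzi' := inv_eq_of_mul_eq_one_right hzz
  have hinv : z * (z * z') ^ 2 * z = ((z * z') ^ 2)⁻¹ := by
    rw [← inv_pow, show (z * z')⁻¹ = z * (z * z') * z⁻¹ by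
      rw [mul_inv_rev, hzi', inv_eq_of_mul_eq_one_right q'.zz, ← mul_assoc z z, hzz, one_mul],
      conj_pow, hzi']
  rw [show (2 : ℕ) ^ 2 = 2 * 2 from rfl, pow_mul, pow_two ((z * z') ^ 2)]
  rw [← hcomm, mul_assoc, hzz, mul_one] at hinv
  nth_rewrite 2 [hinv]
  exact mul_inv_cancel _

end Main

end CfsgLib.HallGen.Pronormal
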