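import Cfsg.Agent.Lib.HallGen.Pronormal.PlaneBasics

/-!
# Two planes spanning a degenerate space give a transvection

If a group `J` of isometries contains two square roots `i`, `j` of an involution `z` moving only its
plane and an involution `z'` such that the part of the sum of the two planes orthogonal to the first is
totally isotropic, then `J` contains a transvection moving into that part.
-/

set_option autoImplicit false
set_option linter.all false

namespace CfsgLib.HallGen.Pronormal

open Module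

universe u v

variable {F : Type u} [Field F] {V : Type v} [AddCommGroup V] [Module F V]
variable {B : LinearMap.BilinForm F V} {z z' i j : V ≃ₗ[F] V}

/-- The elements `1 + P X R` of `J`. -/
def Attained (J : Subgroup (V ≃ₗ[F] V)) (P R X : V →ₗ[F] V) : Prop :=
  ∃ g ∈ J, ∀ v, g v = v + P (X (R v))

theorem Attained.add {J : Subgroup (V ≃ₗ[F] V)} {P R X Y : V →ₗ[F] V} (hRP : ∀ v, R (P v) = 0)
    (hX : Attained J P R X) (hY : Attained J P R Y) : Attained J P R (X + Y) := by
  obtain ⟨g, hg, hgv⟩ := hX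
  obtain ⟨g', hg', hgv'⟩ := hY
  refine ⟨g * g', J.mul_mem hg hg', fun v => ?_⟩
  rw [LinearEquiv.mul_apply, hgv', hgv, map_add R, hRP, add_zero, LinearMap.add_apply, map_add]
  abel

theorem Attained.nsmul {J : Subgroup (V ≃ₗ[F] V)} {P R X : V →ₗ[F] V} (hRP : ∀ v, R (P v) = 0)
    (hX : Attained J P R X) (n : ℕ) : Attained J P R (n • X) := by
  induction n with
  | zero => exact ⟨1, J.one_mem, fun v => by simp⟩
  | succ n ih => rw [succ_nsmul]; exact ih.add hRP hX

theorem attained_sigma (h2 : (2 : F) ≠ 0) (hB : IsSymp B) (hzz : z * z = 1) (hz : IsIso B z)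
    (J : Subgroup (V ≃ₗ[F] V)) (hzJ : z ∈ J) (hz'J : z' ∈ J) (P R : V →ₗ[F] V)
    (hPfix : ∀ v, z (P v) = P v) (hP0 : ∀ v, z v = v → P v = 0) (hRm : ∀ v, R v ∈ moved z)
    (hR0 : ∀ u ∈ moved z, R u = 0) (hRP : ∀ v, R (P v) = 0)
    (hz' : ∀ v, z' v = v - (2 : F) • (proj z v + R v + P v + P (R v)))
    (k : V ≃ₗ[F] V) (hk : k ∈ J) (hkk : k * k = z) (hki : IsIso B k)
    (hkm : ∀ v, k v - v ∈ moved z) : Attained J P R ((-8 : F) • (k : V →ₗ[F] V)) := by
  have hkfix : ∀ v, z v = v → k v = v := fun v hv =>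
    (fix_iff hB hki).2 fun w hw => perp_of_fix hB hz (moved_le hkm hw) hv
  have hkmem : ∀ u ∈ moved z, k u ∈ moved z := fun u hu => maps_of_moved hkm hu
  have hPP : ∀ v, P (P v) = 0 := fun v => hP0 _ (hPfix v)
  have hkP : ∀ v, k (P v) = P v := fun v => hkfix _ (hPfix v)
  have hprojP : ∀ v, proj z (P v) = 0 := fun v => proj_of_fix (hPfix v)
  have hprojR : ∀ v, proj z (R v) = R v := fun v => proj_of_mem h2 hzz (hRm v)
  have hprojk : ∀ v, proj z (k (R v)) = k (R v) := fun v => proj_of_mem h2 hzz (hkmem _ (hRm v))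
  have hRR : ∀ v, R (R v) = 0 := fun v => hR0 _ (hRm v)
  have hRk : ∀ v, R (k (R v)) = 0 := fun v => hR0 _ (hkmem _ (hRm v))
  have hRproj : ∀ v, R (proj z v) = 0 := fun v => hR0 _ (proj_mem z v)
  have hPproj : ∀ v, P (proj z v) = P v := fun v => by
    have h := hP0 _ (apply_sub_proj h2 hzz v)
    rw [map_sub, sub_eq_zero] at h
    exact h.symm
  set a := z * z' with ha
  have haJ : a ∈ J := J.mul_mem hzJ hz'J
  have hzR : ∀ v, z (R v) = -R v := fun v => apply_moved hzz (hRm v)
  have hav : ∀ v, a v = v + (2 : F) • R v - (2 : F) • P v - (2 : F) • P (R v) := fun v => by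
    rw [ha, LinearEquiv.mul_apply, hz', map_sub, map_smul, map_add, map_add, map_add, hPfix, hPfix,
      hzR, apply_moved hzz (proj_mem z v), apply_eq_sub_proj h2 z v]
    match_scalars <;> ring
  have hkinv : ∀ v, k⁻¹ v - v ∈ moved z := moved_inv_le hkm
  have hRkinv : ∀ v, R (k⁻¹ v) = R v := fun v => by
    have h := hR0 _ (hkinv v)
    rwa [map_sub, sub_eq_zero] at h
  have hkneg : ∀ u ∈ moved z, k⁻¹ u = -k u := fun u hu => by
    have h1 : k (k u) = -u := by rw [← LinearEquiv.mul_apply, hkk, apply_moved hzz hu]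
    apply k.injective
    rw [← LinearEquiv.mul_apply, mul_inv_cancel, map_neg, h1, neg_neg]
    rfl
  have hPkinv : ∀ v, P (k⁻¹ v) = -P (k (proj z v)) := fun v => by
    have h1 : k⁻¹ v = k⁻¹ (proj z v) + (v - proj z v) := by
      have h := hkfix _ (apply_sub_proj h2 hzz v)
      have h' : k⁻¹ (v - proj z v) = v - proj z v := by
        apply k.injective
        rw [← LinearEquiv.mul_apply, mul_inv_cancel, h]
        rfl
      rw [map_sub, sub_eq_iff_eq_add] at h'
      rw [h']
      abel
    rw [h1, map_add, hP0 _ (apply_sub_proj h2 hzz v), add_zero, hkneg _ (proj_mem z v), map_neg]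
  set b := k * a * k⁻¹ with hb
  have hbv : ∀ v, b v = v + (2 : F) • k (R v) + (2 : F) • P (k (proj z v)) - (2 : F) • P (R v) :=
    fun v => by
      rw [hb, LinearEquiv.mul_apply, LinearEquiv.mul_apply, hav]
      simp only [map_add, map_sub, map_smul, map_neg, hkP, hRkinv, hPkinv]
      rw [← LinearEquiv.mul_apply k k⁻¹, mul_inv_cancel, show (1 : V ≃ₗ[F] V) v = v from rfl]
      match_scalars <;> ring
  refine ⟨a * b * (b * a)⁻¹,
    J.mul_mem (J.mul_mem haJ (J.mul_mem (J.mul_mem hk haJ) (J.inv_mem hk)))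
      (J.inv_mem (J.mul_mem (J.mul_mem (J.mul_mem hk haJ) (J.inv_mem hk)) haJ)), fun v => ?_⟩
  obtain ⟨w, rfl⟩ : ∃ w, (b * a) w = v := ⟨(b * a)⁻¹ v, by
    rw [← LinearEquiv.mul_apply, mul_inv_cancel]; rfl⟩
  rw [← LinearEquiv.mul_apply (a * b * (b * a)⁻¹), inv_mul_cancel_right, LinearEquiv.mul_apply a,
    LinearEquiv.mul_apply b, hav, hbv, hbv, hav]
  simp only [map_add, map_sub, map_smul, LinearMap.smul_apply, LinearEquiv.coe_coe, hPP, hkP,
    hprojP, hprojR, hprojk, hRR, hRk, hRproj, hRP, hPproj, map_zero, smul_zero, add_zero, sub_zero]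
  match_scalars <;> ring

/-- The transvection of a degenerate pair of planes. -/
theorem exists_transvection [Finite F] [FiniteDimensional F V] (h2 : (2 : F) ≠ 0) (hB : IsSymp B)
    (q : QuatPair B z i j) (hz' : IsIso B z') (hzz' : z' * z' = 1)
    (hpl : finrank F (moved z') = 2) (hne : moved z' ≠ moved z)
    (hC : ∀ c ∈ moved z ⊔ moved z', ∀ c' ∈ moved z ⊔ moved z', z c = c → z c' = c' → B c c' = 0)
    (J : Subgroup (V ≃ₗ[F] V)) (hi : i ∈ J) (hj : j ∈ J) (hz'J : z' ∈ J) :
    ∃ g ∈ J, finrank F (moved g) = 1 ∧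
      ∀ v ∈ moved g, z v = v ∧ v ∈ moved z ⊔ moved z' := by
  have hzJ : z ∈ J := q.ii ▸ J.mul_mem hi hi
  -- the projection of the second plane is bijective
  have hinj : ∀ s ∈ moved z', proj z s = 0 → s = 0 := by
    intro s hs h0
    have hzs : z s = s := by rw [apply_eq_sub_proj h2 z, h0, smul_zero, sub_zero]
    refine moved_nondeg h2 hB hz' hzz' hs fun u hu => ?_
    have h1 := hB.swap (perp_of_fix hB q.isoz (proj_mem z u) hzs)
    have h3 := hC s (Submodule.mem_sup_right hs) (u - proj z u)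
      (Submodule.sub_mem _ (Submodule.mem_sup_right hu) (Submodule.mem_sup_left (proj_mem z u)))
      hzs (apply_sub_proj h2 q.zz u)
    rw [map_sub, h1, sub_zero] at h3
    exact hB.swap h3
  let f : moved z' →ₗ[F] moved z :=
    ((proj z).comp (moved z').subtype).codRestrict (moved z) fun s => proj_mem z _
  have hf : Function.Injective f := by
    rw [← LinearMap.ker_eq_bot, LinearMap.ker_eq_bot']
    exact fun s hs => Subtype.ext (hinj _ s.2 (congrArg Subtype.val hs))
  let e : moved z' ≃ₗ[F] moved z := LinearEquiv.ofBijective f ⟨hf,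
    (LinearMap.injective_iff_surjective_of_finrank_eq_finrank (by rw [hpl, q.plane])).1 hf⟩
  let P : V →ₗ[F] V :=
    ((moved z').subtype.comp (e.symm.toLinearMap.comp ((proj z).codRestrict (moved z) (proj_mem z)))) -
      proj z
  let R : V →ₗ[F] V := (proj z).comp (proj z') - proj z
  have he : ∀ u : moved z, proj z (e.symm u : V) = u := fun u =>
    congrArg Subtype.val (e.apply_symm_apply u)
  have hPfix : ∀ v, z (P v) = P v := by
    intro v
    have h : proj z (P v) = 0 := by
      simp only [P, LinearMap.sub_apply, LinearMap.comp_apply, Submodule.coe_subtype,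
        LinearEquiv.coe_coe, map_sub, he, LinearMap.codRestrict_apply]
      rw [proj_of_mem h2 q.zz (proj_mem z v), sub_self]
    rw [apply_eq_sub_proj h2 z (P v), h, smul_zero, sub_zero]
  have hPW : ∀ v, P v ∈ moved z ⊔ moved z' := fun v =>
    Submodule.sub_mem _ (Submodule.mem_sup_right (Subtype.prop _))
      (Submodule.mem_sup_left (proj_mem z v))
  have hP0 : ∀ v, z v = v → P v = 0 := fun v hv => by
    have h0 : (proj z).codRestrict (moved z) (proj_mem z) v = 0 := Subtype.ext (proj_of_fix hv)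
    simp only [P, LinearMap.sub_apply, LinearMap.comp_apply, h0, map_zero, proj_of_fix hv, sub_zero]
  -- an element of the second plane is `s + P s`
  have hsplit : ∀ x ∈ moved z', x = proj z x + P (proj z x) := by
    intro x hx
    have h1 : (proj z).codRestrict (moved z) (proj_mem z) (proj z x) = e ⟨x, hx⟩ :=
      Subtype.ext (proj_of_mem h2 q.zz (proj_mem z x))
    simp only [P, LinearMap.sub_apply, LinearMap.comp_apply, h1, LinearEquiv.coe_coe,
      LinearEquiv.symm_apply_apply, Submodule.coe_subtype]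
    rw [proj_of_mem h2 q.zz (proj_mem z x)]
    abel
  have hgraph : ∀ u ∈ moved z, u + P u ∈ moved z' := by
    intro u hu
    have h1 : u + P u = (e.symm ⟨u, hu⟩ : V) := by
      have h := hsplit _ (e.symm ⟨u, hu⟩).2
      rw [he] at h
      exact h.symm
    rw [h1]
    exact Subtype.prop _
  have hPP : ∀ u u', B (P u) (P u') = 0 := fun u u' => hC _ (hPW u) _ (hPW u') (hPfix u) (hPfix u')
  have hR : ∀ v, R v = proj z (proj z' v) - proj z v := fun v => rfl
  have hadj : ∀ v, ∀ u ∈ moved z, B (R v) u = B v (P u) := by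
    intro v u hu
    have h1 : B (proj z' v) (u + P u) = B v (u + P u) := form_proj h2 hB hz' hzz' (hgraph u hu) v
    have h3 : B (proj z' v) (P u) = 0 := by
      rw [hsplit _ (proj_mem z' v), map_add, LinearMap.add_apply, hPP, add_zero]
      exact perp_of_fix hB q.isoz (proj_mem z _) (hPfix u)
    rw [hR, map_sub, LinearMap.sub_apply, form_proj h2 hB q.isoz q.zz hu,
      form_proj h2 hB q.isoz q.zz hu]
    rw [map_add, map_add, h3, add_zero] at h1
    linear_combination h1
  have hRm : ∀ v, R v ∈ moved z := fun v => (moved z).sub_mem (proj_mem z _) (proj_mem z _)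
  have hR0 : ∀ u ∈ moved z, R u = 0 := fun u hu =>
    moved_nondeg h2 hB q.isoz q.zz (hRm u) fun u' hu' =>
      hB.swap (by rw [hadj u u' hu']; exact perp_of_fix hB q.isoz hu (hPfix u'))
  have hRP : ∀ v, R (P v) = 0 := fun v =>
    moved_nondeg h2 hB q.isoz q.zz (hRm _) fun u' hu' =>
      hB.swap (by rw [hadj _ u' hu']; exact hPP _ _)
  have hz'v : ∀ v, z' v = v - (2 : F) • (proj z v + R v + P v + P (R v)) := by
    intro v
    have hP' : P (proj z v) = P v := by
      have h := hP0 _ (apply_sub_proj h2 q.zz v)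
      rw [map_sub, sub_eq_zero] at h
      exact h.symm
    rw [apply_eq_sub_proj h2 z' v, hR, map_sub, hP']
    nth_rewrite 1 [hsplit _ (proj_mem z' v)]
    match_scalars <;> ring
  have hsig : ∀ k ∈ J, k * k = z → IsIso B k → (∀ v, k v - v ∈ moved z) →
      Attained J P R ((-8 : F) • (k : V →ₗ[F] V)) := fun k hk h1 h3 h4 =>
    attained_sigma h2 hB q.zz q.isoz J hzJ hz'J P R hPfix hP0 hRm hR0 hRP hz'v k hk h1 h3 h4
  have hsi := hsig i hi q.ii q.isoi q.mi
  have hsj := hsig j hj q.jj q.isoj q.mj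
  have hsk := hsig (i * j) (J.mul_mem hi hj) q.mul_sq ((isoGroup B).mul_mem q.isoi q.isoj)
    (moved_mul_le q.mi q.mj)
  -- `P` does not vanish on the plane
  have hPU : ∃ u ∈ moved z, P u ≠ 0 := by
    by_contra! h
    refine hne (Submodule.eq_of_le_of_finrank_eq (fun u hu => ?_) (by rw [hpl, q.plane])).symm
    have := hgraph u hu
    rwa [h u hu, add_zero] at this
  have h8 : (-8 : F) ≠ 0 := by
    rw [neg_ne_zero, show (8 : F) = 2 ^ 3 by norm_num]
    exact pow_ne_zero 3 h2
  have hadj0 : ∀ u ∈ moved z, P u = 0 → ∀ v, B (R v) u = 0 := fun u hu h v => by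
    rw [hadj v u hu, h, map_zero]
  suffices h : ∃ X : V →ₗ[F] V, Attained J P R X ∧ (∃ v, P (X (R v)) ≠ 0) ∧
      ∃ x : V, ∀ v, P (X (R v)) ∈ F ∙ x by
    obtain ⟨X, ⟨g, hg, hgv⟩, ⟨v, hv⟩, x, hx⟩ := h
    refine ⟨g, hg, le_antisymm ?_ ?_, ?_⟩
    · refine le_trans (Submodule.finrank_mono (moved_le (W := F ∙ x) fun w => ?_)) ?_
      · rw [hgv, add_sub_cancel_left]
        exact hx w
      · exact (finrank_span_le_card ({x} : Set V)).trans (le_of_eq (by simp))
    · rw [Nat.one_le_iff_ne_zero, Ne, Submodule.finrank_eq_zero, Submodule.eq_bot_iff]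
      exact fun h => hv (by simpa [hgv] using h _ (sub_mem_moved g v))
    · rintro _ ⟨w, rfl⟩
      simp [hgv, hPfix, hPW]
  by_cases hker : ∃ u₀ ∈ moved z, u₀ ≠ 0 ∧ P u₀ = 0
  · obtain ⟨u₀, hu₀, hne0, hPu₀⟩ := hker
    have hline : ∀ w ∈ moved z, B w u₀ = 0 → w ∈ F ∙ u₀ := by
      intro w hw hwu
      by_contra hwn
      refine hne0 (moved_nondeg h2 hB q.isoz q.zz hu₀ fun u hu => ?_)
      have hsp : moved z ⊓ LinearMap.ker (B.flip u₀) = moved z := by
        refine Submodule.eq_of_le_of_finrank_le inf_le_left ?_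
        have h1 : F ∙ u₀ < moved z ⊓ LinearMap.ker (B.flip u₀) := by
          refine lt_of_le_of_ne ((Submodule.span_singleton_le_iff_mem _ _).2
            (Submodule.mem_inf.2 ⟨hu₀, hB.alt u₀⟩)) fun h => hwn ?_
          rw [h]
          exact Submodule.mem_inf.2 ⟨hw, hwu⟩
        have := Submodule.finrank_lt_finrank_of_lt h1
        rw [finrank_span_singleton hne0] at this
        rw [q.plane]
        omega
      exact (Submodule.mem_inf.1 (hsp.symm ▸ hu : u ∈ moved z ⊓ _)).2
    have hRline : ∀ v, R v ∈ F ∙ u₀ := fun v => hline _ (hRm v) (hadj0 u₀ hu₀ hPu₀ v)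
    obtain ⟨v, hv⟩ : ∃ v, R v ≠ 0 := by
      by_contra! h
      obtain ⟨u, hu, hPu⟩ := hPU
      exact hPu (hB.nondeg _ fun v => hB.swap (by rw [← hadj v u hu, h, map_zero, LinearMap.zero_apply]))
    obtain ⟨a, ha⟩ := Submodule.mem_span_singleton.1 (hRline v)
    have ha0 : a ≠ 0 := fun h => hv (by rw [← ha, h, zero_smul])
    obtain ⟨k, hk, hku⟩ : ∃ k : V ≃ₗ[F] V, Attained J P R ((-8 : F) • (k : V →ₗ[F] V)) ∧
        P (k u₀) ≠ 0 := by
      by_contra! h
      obtain ⟨u, hu, hPu⟩ := hPU
      exact hPu (q.span_killed h2 P hu₀ hne0 (h i hsi) (h j hsj) (h (i * j) hsk) hu)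
    refine ⟨_, hk, ⟨v, ?_⟩, P (k u₀), fun w => ?_⟩
    · rw [LinearMap.smul_apply, LinearEquiv.coe_coe, ← ha, map_smul, map_smul, map_smul, smul_smul]
      exact smul_ne_zero (mul_ne_zero h8 ha0) hku
    · obtain ⟨a', ha'⟩ := Submodule.mem_span_singleton.1 (hRline w)
      rw [LinearMap.smul_apply, LinearEquiv.coe_coe, ← ha', map_smul, map_smul, map_smul, smul_smul]
      exact Submodule.smul_mem _ _ (Submodule.mem_span_singleton_self _)
  · push Not at hker
    obtain ⟨b, c, hbc⟩ : ∃ b c : ℕ, (b : F) * b + (c : F) * c + 1 = 0 := by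
      obtain ⟨p, hp⟩ := CharP.exists F
      haveI := hp
      haveI : Fintype F := Fintype.ofFinite F
      haveI : Fact p.Prime := ⟨CharP.char_is_prime F p⟩
      obtain ⟨b, c, h⟩ := ZMod.sq_add_sq p (-1)
      refine ⟨b.val, c.val, ?_⟩
      have h' := congrArg (ZMod.castHom dvd_rfl F) h
      rw [← ZMod.natCast_rightInverse b, ← ZMod.natCast_rightInverse c] at h'
      simp only [map_add, map_pow, map_neg, map_one, map_natCast] at h'
      linear_combination h'
    have hX : Attained J P R ((-8 : F) • q.nil (b : F) (c : F)) := by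
      have h := (hsi.add hRP (hsj.nsmul hRP b)).add hRP (hsk.nsmul hRP c)
      convert h using 1
      refine LinearMap.ext fun v => ?_
      simp [q.nil_apply, ← Nat.cast_smul_eq_nsmul F, smul_smul, LinearEquiv.mul_apply]
      match_scalars <;> ring
    obtain ⟨u₁, hu₁, hXu₁⟩ := q.nil_ne_zero h2 (b : F) (c : F)
    set x := q.nil (b : F) (c : F) u₁ with hx
    have hxm : x ∈ moved z := q.nil_mem _ _ hu₁
    have hrange : LinearMap.range R = moved z := by
      refine Submodule.eq_of_le_of_finrank_le (by rintro _ ⟨v, rfl⟩; exact hRm v) ?_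
      by_contra hlt
      rw [q.plane, not_le] at hlt
      obtain ⟨r, hr⟩ : ∃ r ∈ moved z, ∀ v, R v ∈ F ∙ r := by
        rcases eq_or_ne (LinearMap.range R) ⊥ with h0 | h0
        · exact ⟨0, zero_mem _, fun v => by
            rw [show R v = 0 from (Submodule.mem_bot F).1 (h0 ▸ LinearMap.mem_range_self R v)]
            exact zero_mem _⟩
        · obtain ⟨r, hr, hr0⟩ := Submodule.exists_mem_ne_zero_of_ne_bot h0
          obtain ⟨w, rfl⟩ := hr
          refine ⟨R w, hRm w, fun v => ?_⟩
          have he' : F ∙ R w = LinearMap.range R :=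
            Submodule.eq_of_le_of_finrank_le
              ((Submodule.span_singleton_le_iff_mem _ _).2 (LinearMap.mem_range_self R w))
              (by rw [finrank_span_singleton hr0]; omega)
          rw [he']
          exact LinearMap.mem_range_self R v
      obtain ⟨u, hu, hu0, hru⟩ : ∃ u ∈ moved z, u ≠ 0 ∧ B r u = 0 := by
        rcases eq_or_ne r 0 with rfl | hr0
        · exact ⟨x, hxm, hXu₁, by simp⟩
        · exact ⟨r, hr.1, hr0, hB.alt r⟩
      refine hker u hu hu0 (hB.nondeg _ fun v => hB.swap ?_)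
      obtain ⟨a, ha⟩ := Submodule.mem_span_singleton.1 (hr.2 v)
      rw [← hadj v u hu, ← ha, map_smul, LinearMap.smul_apply, hru, smul_zero]
    obtain ⟨v, hv⟩ : u₁ ∈ LinearMap.range R := by rw [hrange]; exact hu₁
    refine ⟨_, hX, ⟨v, ?_⟩, P x, fun w => ?_⟩
    · rw [LinearMap.smul_apply, hv, ← hx, map_smul]
      exact smul_ne_zero h8 (hker x hxm hXu₁)
    · have hK : moved z ⊓ LinearMap.ker (q.nil (b : F) (c : F)) = F ∙ x := by
        refine (Submodule.eq_of_le_of_finrank_le ((Submodule.span_singleton_le_iff_mem _ _).2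
          (Submodule.mem_inf.2 ⟨hxm, q.nil_nil hbc hu₁⟩)) ?_).symm
        have hlt : moved z ⊓ LinearMap.ker (q.nil (b : F) (c : F)) < moved z :=
          lt_of_le_of_ne inf_le_left fun h => hXu₁ (Submodule.mem_inf.1 (h.symm ▸ hu₁ : u₁ ∈ _ ⊓ _)).2
        have := Submodule.finrank_lt_finrank_of_lt hlt
        rw [q.plane] at this
        rw [finrank_span_singleton hXu₁]
        omega
      obtain ⟨a, ha⟩ := Submodule.mem_span_singleton.1
        (hK ▸ Submodule.mem_inf.2 ⟨q.nil_mem _ _ (hRm w), q.nil_nil hbc (hRm w)⟩ :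
          q.nil (b : F) (c : F) (R w) ∈ F ∙ x)
      rw [LinearMap.smul_apply, ← ha, map_smul, map_smul, smul_smul]
      exact Submodule.smul_mem _ _ (Submodule.mem_span_singleton_self _)

end CfsgLib.HallGen.Pronormal
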