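import Cfsg.Agent.S2431
import Cfsg.Agent.Lib.Core.Coprime
import Cfsg.Agent.Lib.ZStar.Main

/-!
# The Sylow 2-subgroup of `SL₂(q)`, `q ≡ ±3 (mod 8)`, and the groups above it

* `exists_sq_neg_one` : a square root of `-1` in every Sylow 2-subgroup
* `exists_q8Data` : generators of the quaternion Sylow subgroup and of its normalizer
* `Q8Data.two_axes` : an overgroup `X` of the Sylow subgroup whose conjugate under the element of
  order three of the normalizer lies with it in a group not containing that element is the Sylow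
  subgroup itself
-/

set_option autoImplicit false
set_option linter.all false

namespace CfsgLib.HallGen.Pronormal

open Matrix CfsgLib.PLocal.SLTwo Cfsg

universe u

variable {F : Type u} [Field F]

section TwoByTwo

/-- The traceless part. -/
def tl (A : Matrix (Fin 2) (Fin 2) F) : Matrix (Fin 2) (Fin 2) F := A - (A.trace / 2) • 1

theorem tl_add_scalar (A : Matrix (Fin 2) (Fin 2) F) : A = tl A + (A.trace / 2) • 1 := by
  rw [tl, sub_add_cancel]

theorem trace_tl (h2 : (2 : F) ≠ 0) (A : Matrix (Fin 2) (Fin 2) F) : (tl A).trace = 0 := by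
  rw [tl, Matrix.trace_sub, Matrix.trace_smul, Matrix.trace_one, Fintype.card_fin, smul_eq_mul]
  field_simp
  norm_num

theorem commute_tl {A B : Matrix (Fin 2) (Fin 2) F} (h : A * B = B * A) : tl A * B = B * tl A := by
  rw [tl, sub_mul, mul_sub, h, smul_mul_assoc, mul_smul_comm, one_mul, mul_one]

theorem prop_of_commute (h2 : (2 : F) ≠ 0) {E E' : Matrix (Fin 2) (Fin 2) F} (hE : E.trace = 0)
    (hE' : E'.trace = 0) (hne : E ≠ 0) (h : E * E' = E' * E) : ∃ a : F, E' = a • E := by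
  rw [Matrix.trace_fin_two] at hE hE'
  have h00 := congrFun (congrFun h 0) 0
  have h01 := congrFun (congrFun h 0) 1
  have h10 := congrFun (congrFun h 1) 0
  simp only [Matrix.mul_apply, Fin.sum_univ_two] at h00 h01 h10
  have e1 : E 1 1 = -E 0 0 := by linear_combination hE
  have e1' : E' 1 1 = -E' 0 0 := by linear_combination hE'
  rw [e1, e1'] at h01 h10
  have k0 : E 0 1 * E' 1 0 = E' 0 1 * E 1 0 := by linear_combination h00
  have k1 : E 0 0 * E' 0 1 = E' 0 0 * E 0 1 := mul_left_cancel₀ h2 (by linear_combination h01)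
  have k2 : E 1 0 * E' 0 0 = E' 1 0 * E 0 0 := mul_left_cancel₀ h2 (by linear_combination h10)
  by_cases ha : E 0 0 = 0
  · by_cases hb : E 0 1 = 0
    · have hc : E 1 0 ≠ 0 := fun hc => hne (by
        ext r c; fin_cases r <;> fin_cases c <;> simp [ha, hb, hc, e1])
      refine ⟨E' 1 0 / E 1 0, ?_⟩
      rw [hb, zero_mul] at k0
      rw [ha, mul_zero] at k2
      have z0 : E' 0 1 = 0 := (mul_eq_zero.1 k0.symm).resolve_right hc
      have z2 : E' 0 0 = 0 := (mul_eq_zero.1 k2).resolve_left hc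
      ext r c; fin_cases r <;> fin_cases c <;> simp [ha, hb, e1, e1', z0, z2, hc]
    · refine ⟨E' 0 1 / E 0 1, ?_⟩
      have z2 : E' 0 0 = 0 := by
        rw [ha, zero_mul] at k1; exact (mul_eq_zero.1 k1.symm).resolve_right hb
      ext r c; fin_cases r <;> fin_cases c <;> simp [ha, e1, e1', z2, hb]
      field_simp
      linear_combination k0
  · refine ⟨E' 0 0 / E 0 0, ?_⟩
    ext r c; fin_cases r <;> fin_cases c <;> simp [e1, e1', ha]
    · field_simp; linear_combination k1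
    · field_simp; linear_combination -k2

theorem commute_trans (h2 : (2 : F) ≠ 0) {A B D : Matrix (Fin 2) (Fin 2) F} (hA : tl A ≠ 0)
    (hB : A * B = B * A) (hD : A * D = D * A) : B * D = D * B := by
  obtain ⟨b, hb⟩ := prop_of_commute h2 (trace_tl h2 A) (trace_tl h2 B) hA
    (commute_tl (commute_tl hB).symm).symm
  obtain ⟨d, hd⟩ := prop_of_commute h2 (trace_tl h2 A) (trace_tl h2 D) hA
    (commute_tl (commute_tl hD).symm).symm
  rw [tl_add_scalar B, tl_add_scalar D, hb, hd]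
  simp only [add_mul, mul_add, smul_mul_assoc, mul_smul_comm, one_mul, mul_one]
  match_scalars <;> ring

end TwoByTwo

variable [Fintype F]

/-- Generators of a quaternion Sylow subgroup and an element of order three of its normalizer. -/
structure Q8Data (S : Sylow 2 (S2 F)) (i j w : S2 F) : Prop where
  two : (2 : F) ≠ 0
  memi : i ∈ S
  memj : j ∈ S
  ii : i * i = -1
  jj : j * j = -1
  ij : i * j = -(j * i)
  card : Nat.card (S : Subgroup (S2 F)) = 8
  gen : (S : Subgroup (S2 F)) = Subgroup.closure {i, j}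
  w3 : w ^ 3 = 1
  wN : w ∈ Subgroup.normalizer ((S : Subgroup (S2 F)) : Set (S2 F))
  wS : w ∉ S
  cycj : w * j = i * w
  cyck : w * (i * j) = j * w
  norm : ∀ g ∈ Subgroup.normalizer ((S : Subgroup (S2 F)) : Set (S2 F)),
    ∃ e : ℕ, g * (w ^ e)⁻¹ ∈ S

theorem two_ne_zero_of_odd_card (hodd : Odd (Fintype.card F)) : (2 : F) ≠ 0 :=
  Ring.two_ne_zero fun h => by
    have := FiniteField.even_card_iff_char_two.1 h
    rw [Nat.odd_iff] at hodd
    omega

theorem exists_sq_neg_one (hodd : Odd (Fintype.card F)) (S : Sylow 2 (S2 F)) :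
    ∃ y ∈ S, y * y = -1 := by
  have h2 := two_ne_zero_of_odd_card hodd
  obtain ⟨t, s, htS, -, -, -, -, h4, -, -, -, -⟩ := CfsgLib.SL2Char.sylow_two_data hodd S
  refine ⟨t ^ (orderOf t / 4), pow_mem htS _, ?_⟩
  refine CfsgLib.Classical.Two.eq_neg_one_of_orderOf_two h2 ?_
  have ht0 : orderOf t ≠ 0 := (orderOf_pos t).ne'
  obtain ⟨k, hk⟩ := h4
  rw [hk, Nat.mul_div_cancel_left _ (by norm_num), ← pow_add, orderOf_pow, hk,
    show k + k = 2 * k by ring, show 4 * k = 2 * (2 * k) by ring, Nat.gcd_eq_right ⟨2, by ring⟩,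
    Nat.mul_div_cancel _ (by omega)]

theorem exists_q8Data (hodd : Odd (Fintype.card F))
    (hq : Fintype.card F % 8 = 3 ∨ Fintype.card F % 8 = 5) (S : Sylow 2 (S2 F)) :
    ∃ i j w, Q8Data S i j w := by
  have h2 := two_ne_zero_of_odd_card hodd
  obtain ⟨t, s, htS, hsS, htn, htd, hst, h4, hcard, -, hq8, hmem⟩ :=
    CfsgLib.SL2Char.sylow_two_data hodd S
  have ht4 : orderOf t = 4 := hq8 hq
  have hneg1 : ((-1 : S2 F)) * -1 = 1 := by simp
  have htt : t * t = -1 := by
    refine CfsgLib.Classical.Two.eq_neg_one_of_orderOf_two h2 ?_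
    rw [← pow_two, orderOf_pow, ht4]; rfl
  have hsT : s ∉ Subgroup.zpowers t := fun h => by
    have hc : s * t = t * s := by
      obtain ⟨k, rfl⟩ := h
      exact ((Commute.refl t).zpow_left k).eq
    rw [hc, mul_inv_cancel_right] at hst
    have := orderOf_dvd_of_pow_eq_one (show t ^ 2 = 1 by
      rw [pow_two]; nth_rewrite 2 [hst]; exact mul_inv_cancel t)
    have := Nat.le_of_dvd two_pos this
    omega
  have hss : s * s = -1 := ((hmem s hsS).resolve_left hsT).1
  have htinv : t⁻¹ = -t := inv_eq_of_mul_eq_one_right (by rw [mul_neg, htt, neg_neg])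
  have hsts : s * t = -(t * s) := by
    rw [mul_inv_eq_iff_eq_mul.1 hst, htinv, neg_mul]
  obtain ⟨w, hw3, hws, hwts⟩ := CfsgLib.SL2Char.exists_cycle h2 htt hss hsts
  have hgen : (S : Subgroup (S2 F)) = Subgroup.closure ({t, s} : Set (S2 F)) := by
    refine le_antisymm (fun y hy => ?_) ((Subgroup.closure_le _).2 (by
      rintro y (rfl | rfl) <;> assumption))
    have hzt : Subgroup.zpowers t ≤ Subgroup.closure {t, s} :=
      Subgroup.zpowers_le.2 (Subgroup.subset_closure (Or.inl rfl))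
    rcases hmem y hy with h | ⟨-, -, h⟩
    · exact hzt h
    · have := mul_mem (hzt h) (Subgroup.subset_closure (Or.inr rfl) : s ∈ Subgroup.closure {t, s})
      rwa [inv_mul_cancel_right] at this
  have hS8 : Nat.card S = 8 := by rw [hcard, ht4]
  have e1 : w * s * w⁻¹ = t := by rw [hws, mul_inv_cancel_right]
  have e2 : w * (t * s) * w⁻¹ = s := by rw [hwts, mul_inv_cancel_right]
  have hwN : w ∈ Subgroup.normalizer ((S : Subgroup (S2 F)) : Set (S2 F)) := by
    refine CfsgLib.SL2Char.mem_normalizer_of_conj_mem fun y hy => ?_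
    have hle : (S : Subgroup (S2 F)) ≤ (S : Subgroup (S2 F)).comap (MulAut.conj w).toMonoidHom := by
      have e3 : w * t * w⁻¹ = s * t⁻¹ := by
        nth_rewrite 2 [← e1]
        nth_rewrite 1 [← e2]
        group
      conv_lhs => rw [hgen]
      refine (Subgroup.closure_le _).2 ?_
      rintro z (rfl | rfl)
      · show w * z * w⁻¹ ∈ S
        rw [e3]; exact mul_mem hsS (inv_mem htS)
      · show w * z * w⁻¹ ∈ S
        rw [e1]; exact htS
    exact hle hy
  have hwS : w ∉ S := fun hwS => by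
    have h1 : orderOf w ∣ 8 := hS8 ▸ Subgroup.orderOf_dvd_natCard _ hwS
    have h3 : orderOf w ∣ 3 := orderOf_dvd_of_pow_eq_one hw3
    have hw1 : w = 1 := orderOf_eq_one_iff.1 (Nat.dvd_one.1 (Nat.dvd_gcd h1 h3))
    rw [hw1, one_mul, mul_one] at hws
    exact hsT (hws ▸ Subgroup.mem_zpowers t)
  refine ⟨t, s, w, h2, htS, hsS, htt, hss, by rw [hsts, neg_neg],
    (Nat.card_congr (Equiv.subtypeEquivRight fun _ => Iff.rfl)).trans hS8, hgen, hw3, hwN, hwS, hws,
    hwts, fun g hg => ?_⟩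
  set N := Subgroup.normalizer ((S : Subgroup (S2 F)) : Set (S2 F))
  have hN : Nat.card N = 3 * Nat.card S := (Cfsg.Agent.S2431.result hodd S).2.2 hq
  set L := Subgroup.zpowers w ⊔ (S : Subgroup (S2 F)) with hL
  have hLN : L ≤ N := sup_le (Subgroup.zpowers_le.2 hwN) Subgroup.le_normalizer
  have hLeq : L = N := by
    refine Subgroup.eq_of_le_of_card_ge hLN ?_
    obtain ⟨k, hk⟩ := Subgroup.card_dvd_of_le (le_sup_right : (S : Subgroup (S2 F)) ≤ L)
    have hdvd : Nat.card L ∣ 3 * Nat.card S := hN ▸ Subgroup.card_dvd_of_le hLN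
    rw [hk, hS8, mul_comm 3 8] at hdvd
    have hk3 : k ∣ 3 := Nat.dvd_of_mul_dvd_mul_left (by norm_num : 0 < 8) hdvd
    rw [hN, hk, mul_comm 3]
    refine Nat.mul_le_mul_left _ ?_
    rcases (Nat.dvd_prime Nat.prime_three).1 hk3 with h | h
    · exfalso
      refine hwS ?_
      have hSL : (S : Subgroup (S2 F)) = L :=
        Subgroup.eq_of_le_of_card_ge le_sup_right (by rw [hk, h, mul_one])
      show w ∈ (S : Subgroup (S2 F))
      rw [hSL]
      exact Subgroup.mem_sup_left (Subgroup.mem_zpowers w)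
    · omega
  obtain ⟨a, ha, y, hy, rfl⟩ :=
    (CfsgLib.Core.mem_sup_iff_mul (Subgroup.zpowers_le.2 hwN)).1 (hLeq.symm ▸ hg : g ∈ L)
  obtain ⟨k, rfl⟩ := (mem_powers_iff_mem_zpowers (x := w)).2 ha
  exact ⟨k, (Subgroup.mem_normalizer_iff.1 (pow_mem hwN k) y).1 hy⟩

namespace Q8Data

variable {S : Sylow 2 (S2 F)} {i j w : S2 F} (d : Q8Data S i j w)
include d

theorem scalar_of_commute {c : S2 F} (hi : c * i = i * c) (hj : c * j = j * c) : c * c = 1 := by
  have h0 : tl (c : Matrix (Fin 2) (Fin 2) F) = 0 := by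
    by_contra h
    have hc : (i : Matrix (Fin 2) (Fin 2) F) * j = j * i :=
      commute_trans d.two h (congrArg Subtype.val hi) (congrArg Subtype.val hj)
    have hij : (i : Matrix (Fin 2) (Fin 2) F) * j = -(j * i) :=
      congrArg Subtype.val d.ij
    rw [← hc] at hij
    have h' : (2 : F) • ((i : Matrix (Fin 2) (Fin 2) F) * j) = 0 := by
      rw [two_smul]; nth_rewrite 1 [hij]; exact neg_add_cancel _
    have h'' := congrArg Matrix.det ((smul_eq_zero.1 h').resolve_left d.two)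
    rw [Matrix.det_mul, i.2, j.2, Matrix.det_zero, mul_one] at h''
    exact one_ne_zero h''
  have hdet := c.2
  rw [tl_add_scalar (c : Matrix (Fin 2) (Fin 2) F), h0, zero_add, Matrix.det_smul, Matrix.det_one,
    mul_one, Fintype.card_fin] at hdet
  refine Subtype.ext ?_
  show (c : Matrix (Fin 2) (Fin 2) F) * c = 1
  rw [tl_add_scalar (c : Matrix (Fin 2) (Fin 2) F), h0, zero_add, smul_mul_smul_comm, ← pow_two,
    hdet, one_smul, one_mul]

theorem eq_one_of_commute {c : S2 F} (hi : c * i = i * c) (hj : c * j = j * c)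
    (hc : Odd (orderOf c)) : c = 1 :=
  CfsgLib.ZStar.eq_one_of_odd_of_sq hc (by rw [pow_two, d.scalar_of_commute hi hj])

theorem neg_one_mem : (-1 : S2 F) ∈ S := d.ii ▸ S.mul_mem d.memi d.memi

/-- All odd order elements of an overgroup without normalising elements lie in its odd core. -/
theorem odd_mem_oddCore (Y : Subgroup (S2 F)) (hSY : (S : Subgroup (S2 F)) ≤ Y)
    (hNY : ∀ g ∈ Subgroup.normalizer ((S : Subgroup (S2 F)) : Set (S2 F)), g ∈ Y → g ∈ S)
    {y : Y} (hy : Odd (orderOf y)) : y ∈ oddCore Y := by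
  haveI : Fact (Nat.Prime 2) := ⟨Nat.prime_two⟩
  set e : Y := ⟨-1, hSY d.neg_one_mem⟩ with he
  have hne : (-1 : S2 F) ≠ 1 := fun h => by
    have h' := congrArg (fun g : S2 F => g.1 0 0) h
    simp at h'
    exact d.two (by linear_combination -h')
  have he2 : orderOf e = 2 := orderOf_eq_prime (Subtype.ext (by simp [he]))
    fun h => hne (congrArg Subtype.val h)
  set Z := Subgroup.zpowers e with hZ
  have hZc : Z ≤ Subgroup.center Y := Subgroup.zpowers_le.2 (Subgroup.mem_center_iff.2 fun g =>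
    Subtype.ext (show (g : S2 F) * -1 = -1 * (g : S2 F) by simp))
  haveI : Z.Normal := ⟨fun k hk g => by
    rw [Subgroup.mem_center_iff.1 (hZc hk) g, mul_inv_cancel_right]; exact hk⟩
  have hZ2 : Nat.card Z = 2 := by rw [hZ, Nat.card_zpowers, he2]
  let P : Sylow 2 Y := S.subtype hSY
  have hZP : Z ≤ (P : Subgroup Y) := Subgroup.zpowers_le.2 (show e ∈ (P : Subgroup Y) by
    rw [Sylow.coe_subtype, Subgroup.mem_subgroupOf]
    exact d.neg_one_mem)
  let π := QuotientGroup.mk' Z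
  let Q : Sylow 2 (Y ⧸ Z) := P.mapSurjective (QuotientGroup.mk'_surjective Z)
  have hQ : (Q : Subgroup (Y ⧸ Z)) = (P : Subgroup Y).map π := rfl
  have hQcard : Nat.card (Q : Subgroup (Y ⧸ Z)) = 2 ^ 2 := by
    have h := CfsgLib.Core.card_mul_card_map_mk' Z (P : Subgroup Y) hZP
    have hPc : Nat.card (P : Subgroup Y) = 8 := by
      rw [Sylow.coe_subtype, Nat.card_congr (Subgroup.subgroupOfEquivOfLe hSY).toEquiv]
      exact d.card
    rw [hZ2, hPc] at h
    change 2 * Nat.card ((P : Subgroup Y).map π) = 8 at h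
    rw [hQ]
    omega
  have hNC : Subgroup.normalizer ((Q : Subgroup (Y ⧸ Z)) : Set (Y ⧸ Z)) ≤
      Subgroup.centralizer ((Q : Subgroup (Y ⧸ Z)) : Set (Y ⧸ Z)) := by
    have hQN : Subgroup.normalizer ((Q : Subgroup (Y ⧸ Z)) : Set (Y ⧸ Z)) ≤ (Q : Subgroup _) := by
      intro x hx
      obtain ⟨g, rfl⟩ := QuotientGroup.mk'_surjective Z x
      refine hQ ▸ Subgroup.mem_map_of_mem π ?_
      rw [Sylow.coe_subtype, Subgroup.mem_subgroupOf]
      refine hNY _ (CfsgLib.SL2Char.mem_normalizer_of_conj_mem fun s hs => ?_) g.2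
      have h1 : π ⟨s, hSY hs⟩ ∈ (Q : Subgroup (Y ⧸ Z)) := hQ ▸ Subgroup.mem_map_of_mem π
        (show (⟨s, hSY hs⟩ : Y) ∈ (P : Subgroup Y) from hs)
      have h3 := (Subgroup.mem_normalizer_iff.1 hx _).1 h1
      rw [← map_mul, ← map_inv, ← map_mul, hQ] at h3
      obtain ⟨p, hp, hpe⟩ := h3
      have h5 := QuotientGroup.eq.1 hpe
      have h6 := (P : Subgroup Y).mul_mem hp (hZP h5)
      rw [mul_inv_cancel_left] at h6
      exact h6
    intro x hx
    haveI := IsPGroup.isMulCommutative_of_card_eq_prime_sq hQcard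
    refine Subgroup.mem_centralizer_iff.2 fun y hy => ?_
    exact congrArg Subtype.val (mul_comm' (⟨y, hy⟩ : (Q : Subgroup (Y ⧸ Z))) ⟨x, hQN hx⟩)
  set K := (MonoidHom.transferSylow Q hNC).ker with hK
  have hKodd : Odd (Nat.card K) := by
    rw [← Nat.not_even_iff_odd, even_iff_two_dvd]
    exact MonoidHom.not_dvd_card_ker_transferSylow Q hNC
  set N := K.comap π with hN
  have hyN : y ∈ N := by
    rw [hN, Subgroup.mem_comap, hK, MonoidHom.mem_ker]
    set t := MonoidHom.transferSylow Q hNC (π y)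
    have h1 : orderOf t ∣ orderOf y :=
      (orderOf_map_dvd _ _).trans (orderOf_map_dvd _ _)
    obtain ⟨k, hk⟩ := IsPGroup.iff_orderOf.1 Q.isPGroup' t
    rw [hk] at h1
    rcases Nat.eq_zero_or_pos k with h0 | h0
    · rw [h0, pow_zero] at hk
      exact orderOf_eq_one_iff.1 hk
    · exact absurd (Odd.of_dvd_nat hy ((dvd_pow_self 2 h0.ne').trans h1)) (by decide)
  refine CfsgLib.ZStar.mem_oddCore_of_central hZc hZ2 (N := N) inferInstance ?_ hKodd ?_ hyN hy
  · intro k hk
    rw [hN, Subgroup.mem_comap, QuotientGroup.mk'_apply, (QuotientGroup.eq_one_iff k).2 hk]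
    exact one_mem _
  · rw [hN, CfsgLib.Core.card_comap_mk', hZ2]

/-- Overgroups of the Sylow subgroup with two axes. -/
theorem two_axes (X Y : Subgroup (S2 F)) (hSX : (S : Subgroup (S2 F)) ≤ X) (hXY : X ≤ Y)
    (hwX : ∀ x ∈ X, w * x * w⁻¹ ∈ Y)
    (hNY : ∀ g ∈ Subgroup.normalizer ((S : Subgroup (S2 F)) : Set (S2 F)), g ∈ Y → g ∈ S) :
    X = (S : Subgroup (S2 F)) := by
  haveI : Fact (Nat.Prime 2) := ⟨Nat.prime_two⟩
  have hSY := hSX.trans hXY
  refine le_antisymm (fun g hg => ?_) hSX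
  by_contra hgS
  obtain ⟨ℓ, hℓ, hℓ2, hℓX⟩ : ∃ ℓ, ℓ.Prime ∧ ℓ ≠ 2 ∧ ℓ ∣ Nat.card X := by
    by_contra! h
    have hX2 : IsPGroup 2 X := by
      refine IsPGroup.of_card (n := (Nat.card X).primeFactorsList.length) ?_
      refine Nat.eq_prime_pow_of_unique_prime_dvd Nat.card_pos.ne' fun {q} hq hqd => ?_
      by_contra hne
      exact h q hq hne hqd
    exact hgS ((S.is_maximal' hX2 hSX) ▸ hg)
  haveI := Fact.mk hℓ
  set O' := (oddCore Y).map Y.subtype with hO'
  have hO'Y : O' ≤ Y := Subgroup.map_subtype_le _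
  have hodd' : ∀ x : S2 F, x ∈ Y → Odd (orderOf x) → x ∈ O' := fun x hx ho =>
    ⟨⟨x, hx⟩, d.odd_mem_oddCore Y hSY hNY (by rwa [← Subgroup.orderOf_coe]), rfl⟩
  have hO'card : Odd (Nat.card O') := by
    rw [hO', Subgroup.card_map_of_injective Y.subtype_injective]
    exact CfsgLib.ZStar.odd_card_oddCore _
  haveI : Group.IsNilpotent (S : Subgroup (S2 F)) := S.isPGroup'.isNilpotent
  have hSO : (S : Subgroup (S2 F)) ≤ Subgroup.normalizer (O' : Set (S2 F)) := by
    rw [Subgroup.le_normalizer_iff]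
    rintro s hs _ ⟨x, hx, rfl⟩
    let s' : Y := ⟨s, hSY hs⟩
    refine ⟨s' * x * s'⁻¹, ?_, ?_⟩
    · exact (inferInstance : (oddCore Y).Normal).conj_mem x hx s'
    · simp only [map_mul, map_inv, Subgroup.coe_subtype]; rfl
  have hcop : (Nat.card (S : Subgroup (S2 F))).Coprime (Nat.card O') := by
    have h8 : Nat.card (S : Subgroup (S2 F)) = 8 := d.card
    rw [h8]
    have h23 := (Nat.coprime_two_left.2 hO'card).pow_left 3
    norm_num at h23
    exact h23
  set OX := X ⊓ O' with hOX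
  have hSOX : (S : Subgroup (S2 F)) ≤ Subgroup.normalizer (OX : Set (S2 F)) := by
    rw [Subgroup.le_normalizer_iff]
    intro s hs x hx
    exact ⟨X.mul_mem (X.mul_mem (hSX hs) hx.1) (X.inv_mem (hSX hs)),
      (Subgroup.mem_normalizer_iff.1 (hSO hs) x).1 hx.2⟩
  have hodd_ℓ : ∀ k, Odd (ℓ ^ k) := fun k => (hℓ.odd_of_ne_two hℓ2).pow
  obtain ⟨R₀, hR₀⟩ := CfsgLib.Core.exists_invariant_sylow hSOX
    (hcop.coprime_dvd_right (Subgroup.card_dvd_of_le inf_le_right)) (Or.inl inferInstance) ℓ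
  set R0 := (R₀ : Subgroup OX).map OX.subtype with hR0
  have hR0le : R0 ≤ OX := Subgroup.map_subtype_le _
  obtain ⟨r, hr, hr1⟩ : ∃ r ∈ R0, r ≠ 1 := by
    obtain ⟨x, hx⟩ := exists_prime_orderOf_dvd_card' (G := X) ℓ hℓX
    have hxO : (x : S2 F) ∈ OX := ⟨x.2, hodd' _ (hXY x.2) (by
      rw [Subgroup.orderOf_coe, hx]; exact hℓ.odd_of_ne_two hℓ2)⟩
    by_contra! h
    have hbot : (R₀ : Subgroup OX) = ⊥ := (Subgroup.eq_bot_iff_forall _).2 fun y hy =>
      Subtype.ext (h _ (Subgroup.mem_map_of_mem _ hy))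
    have h1 := R₀.card_eq_multiplicity
    rw [hbot, Subgroup.card_bot] at h1
    have hdvd : ℓ ∣ Nat.card OX := by
      rw [← hx, ← Subgroup.orderOf_coe]
      exact Subgroup.orderOf_dvd_natCard _ hxO
    have h0 := (hℓ.factorization_pos_of_dvd Nat.card_pos.ne' hdvd).ne'
    exact (Nat.one_lt_pow h0 hℓ.one_lt).ne h1
  have hR0p : IsPGroup ℓ R0 := R₀.isPGroup'.map _
  set R0' := R0.map (MulAut.conj w).toMonoidHom with hR0'
  have hoddR0 : ∀ x ∈ R0, Odd (orderOf x) := fun x hx => by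
    obtain ⟨k, hk⟩ := IsPGroup.iff_orderOf.1 hR0p ⟨x, hx⟩
    rw [← Subgroup.orderOf_coe] at hk
    rw [hk]; exact hodd_ℓ k
  have hR0'le : R0' ≤ O' := by
    rintro _ ⟨x, hx, rfl⟩
    refine hodd' _ (hwX x (hR0le hx).1) ?_
    rw [(MulAut.conj w).toMonoidHom_eq_coe, MonoidHom.coe_coe, MulEquiv.orderOf_eq]
    exact hoddR0 x hx
  have hR0'inv : (S : Subgroup (S2 F)) ≤ Subgroup.normalizer (R0' : Set (S2 F)) := by
    rw [Subgroup.le_normalizer_iff]
    rintro s hs _ ⟨x, hx, rfl⟩
    have hs' : w⁻¹ * s * w ∈ S := by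
      have := (Subgroup.mem_normalizer_iff.1 (inv_mem d.wN) s).1 hs
      rw [inv_inv] at this
      exact this
    refine ⟨(w⁻¹ * s * w) * x * (w⁻¹ * s * w)⁻¹,
      (Subgroup.mem_normalizer_iff.1 (hR₀ hs') x).1 hx, ?_⟩
    show w * ((w⁻¹ * s * w) * x * (w⁻¹ * s * w)⁻¹) * w⁻¹ = s * (w * x * w⁻¹) * s⁻¹
    group
  obtain ⟨P, hP0, hPinv⟩ := CfsgLib.Core.exists_invariant_sylow_ge (p := ℓ) hSO hcop
    (Or.inl inferInstance) (hR0le.trans inf_le_right) hR0p hR₀
  obtain ⟨P', hP0', hPinv'⟩ := CfsgLib.Core.exists_invariant_sylow_ge (p := ℓ) hSO hcop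
    (Or.inl inferInstance) hR0'le (hR0p.map _) hR0'inv
  have hPP : P = P' := by
    obtain ⟨c, hc, rfl⟩ :=
      CfsgLib.Core.invariant_sylow_conj hSO hcop (Or.inl inferInstance) P P' hPinv hPinv'
    rw [Subgroup.mem_centralizer_iff] at hc
    have hc1 : c = 1 := Subtype.ext (d.eq_one_of_commute (hc i d.memi).symm (hc j d.memj).symm
      (Odd.of_dvd_nat hO'card (Subgroup.orderOf_dvd_natCard _ c.2)))
    rw [hc1, one_smul]
  subst hPP
  set R := (P : Subgroup O').map O'.subtype with hR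
  have hRp : IsPGroup ℓ R := P.isPGroup'.map _
  haveI : Nontrivial R := ⟨⟨⟨r, hP0 hr⟩, 1, fun h => hr1 (congrArg Subtype.val h)⟩⟩
  haveI := hRp.center_nontrivial
  obtain ⟨c₀, hc₀⟩ := exists_ne (1 : Subgroup.center R)
  set c : S2 F := ((c₀ : R) : S2 F) with hc
  have hcR : c ∈ R := (c₀ : R).2
  have hcc : ∀ y ∈ R, y * c = c * y := fun y hy =>
    congrArg Subtype.val (Subgroup.mem_center_iff.1 c₀.2 ⟨y, hy⟩)
  have hoddR : ∀ x ∈ R, Odd (orderOf x) := fun x hx =>
    Odd.of_dvd_nat hO'card (Subgroup.orderOf_dvd_natCard _ (Subgroup.map_subtype_le _ hx))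
  have hE : tl (c : Matrix (Fin 2) (Fin 2) F) ≠ 0 := by
    intro h0
    refine hc₀ (Subtype.ext (Subtype.ext (d.eq_one_of_commute ?_ ?_ (hoddR c hcR))))
    all_goals
      refine Subtype.ext ?_
      show (c : Matrix (Fin 2) (Fin 2) F) * _ = _ * (c : Matrix (Fin 2) (Fin 2) F)
      rw [tl_add_scalar (c : Matrix (Fin 2) (Fin 2) F), h0, zero_add, smul_mul_assoc,
        mul_smul_comm, one_mul, mul_one]
  have hsign : ∀ k ∈ S, k * k = -1 →
      (k : Matrix (Fin 2) (Fin 2) F) * tl (c : Matrix (Fin 2) (Fin 2) F) = tl (c : Matrix (Fin 2) (Fin 2) F) * k ∨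
      (k : Matrix (Fin 2) (Fin 2) F) * tl (c : Matrix (Fin 2) (Fin 2) F) =
        -(tl (c : Matrix (Fin 2) (Fin 2) F) * k) := by
    intro k hk hkk
    set C := (c : Matrix (Fin 2) (Fin 2) F)
    set K := (k : Matrix (Fin 2) (Fin 2) F)
    have hKK : K * K = -1 := by
      have h := congrArg Subtype.val hkk
      simpa using h
    have hkinv : k⁻¹ = -k := inv_eq_of_mul_eq_one_right (by rw [mul_neg, hkk, neg_neg])
    have hmem := (Subgroup.mem_normalizer_iff.1 (hPinv hk) c).1 hcR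
    have hcom := congrArg Subtype.val (hcc _ hmem)
    rw [hkinv] at hcom
    simp only [Matrix.SpecialLinearGroup.coe_mul, Matrix.SpecialLinearGroup.coe_neg] at hcom
    set E := tl C with hEdef
    have hE' : (K * E * -K).trace = 0 := by
      rw [Matrix.trace_mul_comm, ← mul_assoc, neg_mul, hKK, neg_neg, one_mul]
      exact trace_tl d.two C
    have hcomm : E * (K * E * -K) = (K * E * -K) * E := by
      have h1 : K * E * -K = K * C * -K - (C.trace / 2) • 1 := by
        rw [hEdef, tl, mul_sub, sub_mul, mul_smul_comm, mul_one, smul_mul_assoc, mul_neg, mul_neg, hKK,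
          neg_neg]
      have h3 : tl C * (K * C * -K) = (K * C * -K) * tl C := commute_tl hcom.symm
      rw [h1, mul_sub, sub_mul, mul_smul_comm, smul_mul_assoc, one_mul, mul_one, ← hEdef] at *
      rw [h3]
    obtain ⟨a, ha⟩ := prop_of_commute d.two (trace_tl d.two C) hE' hE hcomm
    have h2 : E = (a * a) • E := by
      calc E = K * (K * E * -K) * -K := by
            rw [show K * (K * E * -K) * -K = (K * K) * E * (K * K) by
              simp only [mul_assoc, neg_mul, mul_neg, neg_neg], hKK, neg_mul, one_mul, neg_mul_neg, mul_one]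
        _ = a • (K * E * -K) := by rw [ha, mul_smul_comm, smul_mul_assoc, ha]
        _ = (a * a) • E := by rw [ha, smul_smul]
    have ha2 : a * a = 1 := by
      have h' : (a * a - 1) • E = 0 := by rw [sub_smul, one_smul, ← h2, sub_self]
      exact sub_eq_zero.1 ((smul_eq_zero.1 h').resolve_right hE)
    have h3 : K * E = a • (E * K) := by
      have := congrArg (· * K) ha
      simp only [mul_assoc, neg_mul, hKK, neg_neg, mul_one, smul_mul_assoc] at this
      exact this
    rcases mul_self_eq_one_iff.1 ha2 with rfl | rfl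
    · exact Or.inl (by rw [h3, one_smul])
    · exact Or.inr (by rw [h3, neg_smul, one_smul])
  have hcomE : ∀ k : S2 F, (k : Matrix (Fin 2) (Fin 2) F) * tl (c : Matrix (Fin 2) (Fin 2) F) =
      tl (c : Matrix (Fin 2) (Fin 2) F) * k → k * c = c * k := by
    intro k hk
    refine Subtype.ext ?_
    show (k : Matrix (Fin 2) (Fin 2) F) * (c : Matrix (Fin 2) (Fin 2) F) = (c : Matrix (Fin 2) (Fin 2) F) * k
    rw [tl_add_scalar (c : Matrix (Fin 2) (Fin 2) F), mul_add, add_mul, hk, mul_smul_comm,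
      smul_mul_assoc, one_mul, mul_one]
  have hijsq : (i * j) * (i * j) = -1 := by
    have : i * j * (i * j) = -(j * i) * (i * j) := by rw [← d.ij]
    rw [this, neg_mul, mul_assoc j i, ← mul_assoc i i, d.ii, neg_mul, one_mul, mul_neg, neg_neg, d.jj]
  obtain ⟨h, hh, hhc⟩ : ∃ h, (h = i ∨ h = j ∨ h = i * j) ∧ h * c = c * h := by
    rcases hsign i d.memi d.ii with hi' | hi'
    · exact ⟨i, Or.inl rfl, hcomE i hi'⟩
    rcases hsign j d.memj d.jj with hj' | hj'
    · exact ⟨j, Or.inr (Or.inl rfl), hcomE j hj'⟩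
    refine ⟨i * j, Or.inr (Or.inr rfl), hcomE _ ?_⟩
    rw [Matrix.SpecialLinearGroup.coe_mul, mul_assoc, hj', mul_neg, ← mul_assoc, hi', neg_mul,
      neg_neg, mul_assoc]
  have hRh : ∀ y ∈ R, y * h = h * y := fun y hy => Subtype.ext
    (commute_trans d.two hE (congrArg Subtype.val (hcc y hy)).symm (congrArg Subtype.val hhc).symm)
  have h1 := hRh r (hP0 hr)
  have h3 : r * (w⁻¹ * h * w) = (w⁻¹ * h * w) * r := by
    have h' := hRh _ (hP0' ⟨r, hr, rfl⟩)
    simp only [MulEquiv.coe_toMonoidHom, MulAut.conj_apply] at h'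
    calc r * (w⁻¹ * h * w) = w⁻¹ * ((w * r * w⁻¹) * h) * w := by group
      _ = w⁻¹ * (h * (w * r * w⁻¹)) * w := by rw [h']
      _ = (w⁻¹ * h * w) * r := by group
  have ci : w⁻¹ * i * w = j := by rw [mul_assoc, ← d.cycj, inv_mul_cancel_left]
  have cj : w⁻¹ * j * w = i * j := by rw [mul_assoc, ← d.cyck, inv_mul_cancel_left]
  refine hr1 (d.eq_one_of_commute ?_ ?_ (hoddR0 r hr))
  all_goals rcases hh with rfl | rfl | rfl
  · exact h1
  · rw [cj] at h3
    have := Subtype.ext_iff.1 h3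
    calc r * i = (r * (i * h)) * h⁻¹ := by group
      _ = i * (h * r) * h⁻¹ := by rw [h3, mul_assoc i h r]
      _ = i * r := by rw [← h1, mul_assoc, mul_inv_cancel_right]
  · rw [show w⁻¹ * (i * j) * w = (w⁻¹ * i * w) * (w⁻¹ * j * w) by group, ci, cj] at h3
    have e : j * (i * j) = i := by
      rw [← mul_assoc, show j * i = -(i * j) by rw [d.ij, neg_neg], neg_mul, mul_assoc, d.jj,
        mul_neg, mul_one, neg_neg]
    rw [e] at h3
    exact h3
  · rw [ci] at h3; exact h3
  · exact h1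
  · rw [show w⁻¹ * (i * j) * w = (w⁻¹ * i * w) * (w⁻¹ * j * w) by group, ci, cj] at h3
    have e : j * (i * j) = i := by
      rw [← mul_assoc, show j * i = -(i * j) by rw [d.ij, neg_neg], neg_mul, mul_assoc, d.jj,
        mul_neg, mul_one, neg_neg]
    rw [e] at h3
    calc r * j = i⁻¹ * (i * r) * j := by group
      _ = i⁻¹ * (r * (i * j)) := by rw [← h3]; group
      _ = j * r := by rw [h1]; group

end Q8Data

end CfsgLib.HallGen.Pronormal
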