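import Cfsg.Agent.Lib.HallGen.Pronormal.SpOvergroups
import Cfsg.Agent.Lib.HallGen.Pronormal.Good
import Cfsg.Agent.Lib.Classical.Symplectic.Geometry
import Cfsg.Agent.Lib.Classical.Symplectic.Matrix
import Cfsg.Prelude.Def_Classical

/-!
# Odd index subgroups of `PSp₂ₙ(q)`, `n` a power of two, `q` odd
-/

set_option autoImplicit false
set_option linter.all false

namespace CfsgLib.HallGen.Pronormal

open Equiv Module CfsgLib.PLocal.SLTwo

universe u v

variable {F : Type u} [Field F] [Fintype F] {ι : Type v} [Fintype ι] [DecidableEq ι]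

local notation "SpG" => isoGroup (formSum : LinearMap.BilinForm F (Vec ι F))

theorem mod_eight (hodd : Odd (Fintype.card F)) :
    (Fintype.card F % 8 = 1 ∨ Fintype.card F % 8 = 7) ∨
      (Fintype.card F % 8 = 3 ∨ Fintype.card F % 8 = 5) := by
  have := Nat.odd_iff.1 hodd
  omega

theorem good_isoGroup {k : ℕ} (hι : Fintype.card ι = 2 ^ k) (hodd : Odd (Fintype.card F)) :
    Good SpG := by
  haveI : Fact (Nat.Prime 2) := ⟨Nat.prime_two⟩
  haveI : Finite (Vec ι F ≃ₗ[F] Vec ι F) := Finite.of_injective _ DFunLike.coe_injective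
  obtain ⟨S⟩ : Nonempty (Sylow 2 (S2 F)) := inferInstance
  obtain ⟨T⟩ : Nonempty (Sylow 2 (Perm ι)) := inferInstance
  obtain ⟨P, hP⟩ := exists_sylowSp hι hodd S T
  have hnorm : ∀ g ∈ Subgroup.normalizer ((P : Subgroup SpG) : Set SpG),
      ∃ n ∈ Subgroup.normalizer ((S : Subgroup (S2 F)) : Set (S2 F)),
        g * (⟨dg n, dg_mem_isoGroup n⟩ : SpG)⁻¹ ∈ (P : Subgroup SpG) := by
    intro g hg
    rw [hP] at hg
    obtain ⟨n, hn, h⟩ := exists_diag_of_mem_normalizer hι hodd S T hg
    exact ⟨n, hn, by rw [hP]; exact h⟩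
  rcases mod_eight hodd with hq | hq
  · -- self-normalising
    have hself : Subgroup.normalizer ((P : Subgroup SpG) : Set SpG) = P := by
      refine le_antisymm (fun g hg => ?_) Subgroup.le_normalizer
      obtain ⟨n, hn, h⟩ := hnorm g hg
      rw [(Cfsg.Agent.S2431.result hodd S).2.1 hq] at hn
      have hd : (⟨dg n, dg_mem_isoGroup n⟩ : SpG) ∈ (P : Subgroup SpG) := by
        rw [hP]; exact mono_mem_monoSub.2 ⟨fun _ => hn, one_mem _⟩
      have := (P : Subgroup SpG).mul_mem h hd
      rwa [inv_mul_cancel_right] at this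
    refine good_of_sylow P (fun K hK => (Core.PronormalOver.pronormal_of_selfNormalizing P hself hK).2)
      fun u hu hu' => ?_
    rw [hself] at hu
    exact absurd hu hu'
  obtain ⟨i, j, w, d⟩ := exists_q8Data hodd hq S
  set D : SpG := ⟨dg w, dg_mem_isoGroup w⟩ with hD
  have hD3 : D ^ 3 = 1 := Subtype.ext (by
    rw [SubmonoidClass.coe_pow]
    show dg w ^ 3 = 1
    rw [← dg_pow, d.w3, dg_one])
  have hDN : D ∈ Subgroup.normalizer ((P : Subgroup SpG) : Set SpG) := by
    refine CfsgLib.SL2Char.mem_normalizer_of_conj_mem fun y hy => ?_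
    rw [hP] at hy ⊢
    exact dg_conj_mem _ _ d.wN hy
  have hdec : ∀ g ∈ Subgroup.normalizer ((P : Subgroup SpG) : Set SpG),
      ∃ e : ℕ, g * (D ^ e)⁻¹ ∈ (P : Subgroup SpG) := by
    intro g hg
    obtain ⟨n, hn, h⟩ := hnorm g hg
    obtain ⟨e, he⟩ := d.norm n hn
    refine ⟨e, ?_⟩
    have hdn : (⟨dg n, dg_mem_isoGroup n⟩ : SpG) * (D ^ e)⁻¹ ∈ (P : Subgroup SpG) := by
      rw [hP]
      show dg n * (((D ^ e : SpG) : Vec ι F ≃ₗ[F] Vec ι F))⁻¹ ∈ monoSub _ _
      rw [SubmonoidClass.coe_pow]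
      show dg n * (dg w ^ e)⁻¹ ∈ monoSub _ _
      rw [← dg_pow, ← dg_inv, ← dg_mul]
      exact mono_mem_monoSub.2 ⟨fun _ => he, one_mem _⟩
    have := (P : Subgroup SpG).mul_mem h hdn
    rwa [← mul_assoc, inv_mul_cancel_right] at this
  refine good_of_sylow P (fun K hK => pronormal_of_reduce P K hK fun g hg => ?_) fun u hu hu' g hg => ?_
  · obtain ⟨e, he⟩ := hdec g hg
    by_cases hnorK : K.map (MulAut.conj D).toMonoidHom = K
    · -- the diagonal element normalises `K`
      refine ⟨1, one_mem _, ?_⟩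
      have hgK : g ∈ Subgroup.normalizer (K : Set SpG) := by
        have h1 : D ∈ Subgroup.normalizer (K : Set SpG) := CfsgLib.Transfer.map_conj_eq_self_iff.1 hnorK
        have := mul_mem (Subgroup.le_normalizer (hK he)) (pow_mem h1 e)
        rwa [inv_mul_cancel_right] at this
      rw [CfsgLib.Transfer.map_conj_eq_self_iff.2 hgK]
      ext y; simp
    · -- the diagonal element lies in the group generated with the conjugate
      have hD1 : D ∈ K ⊔ K.map (MulAut.conj D).toMonoidHom := by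
        by_contra hDM
        refine hnorK (Subgroup.eq_of_le_of_card_ge ?_
          (le_of_eq (Subgroup.card_map_of_injective (MulAut.conj D).injective).symm))
        rintro _ ⟨y, hy, rfl⟩
        have h := overgroup_normalised hι d T (K.map (Subgroup.subtype _))
          ((K ⊔ K.map (MulAut.conj D).toMonoidHom).map (Subgroup.subtype _))
          (by rintro _ ⟨x, hx, rfl⟩; exact x.2)
          (fun x hx => ⟨⟨x, monoSub_iso hx⟩, hK (by rw [hP]; exact hx), rfl⟩)
          (Subgroup.map_mono le_sup_left)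
          (by
            rintro _ ⟨x, hx, rfl⟩
            exact ⟨D * x * D⁻¹, Subgroup.mem_sup_right ⟨x, hx, rfl⟩, rfl⟩)
          (by
            rintro ⟨x, hx, hxe⟩
            exact hDM ((Subtype.ext hxe : x = D) ▸ hx))
          (y : Vec ι F ≃ₗ[F] Vec ι F) ⟨y, hy, rfl⟩
        obtain ⟨x, hx, hxe⟩ := h
        have : x = D * y * D⁻¹ := Subtype.ext hxe
        rw [this] at hx
        simpa using hx
      refine ⟨g, ?_, rfl⟩
      set M := K ⊔ K.map (MulAut.conj g).toMonoidHom with hM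
      have hp : g * (D ^ e)⁻¹ ∈ M := Subgroup.mem_sup_left (hK he)
      have hmod : D ^ e = D ^ (e % 3) := by
        conv_lhs => rw [← Nat.div_add_mod e 3, pow_add, pow_mul, hD3, one_pow, one_mul]
      suffices hDe : D ^ e ∈ M by
        have := M.mul_mem hp hDe
        rwa [inv_mul_cancel_right] at this
      -- the conjugate of `K` under the power
      have hKe : K.map (MulAut.conj (D ^ e)).toMonoidHom ≤ M := by
        rintro _ ⟨y, hy, rfl⟩
        have h1 : g * y * g⁻¹ ∈ M := Subgroup.mem_sup_right ⟨y, hy, rfl⟩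
        have h3 := M.mul_mem (M.mul_mem (M.inv_mem hp) h1) hp
        show D ^ e * y * (D ^ e)⁻¹ ∈ M
        convert h3 using 1
        group
      have hcases : e % 3 = 0 ∨ e % 3 = 1 ∨ e % 3 = 2 := by omega
      rcases hcases with h | h | h
      · rw [hmod, h, pow_zero]; exact one_mem _
      · rw [hmod, h, pow_one] at hKe ⊢
        exact (sup_le le_sup_left hKe) hD1
      · rw [hmod, h] at hKe ⊢
        have hle : K ⊔ K.map (MulAut.conj D).toMonoidHom ≤
            M.comap (MulAut.conj (D ^ 2)).toMonoidHom := by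
          refine sup_le (fun y hy => ?_) ?_
          · exact hKe ⟨y, hy, rfl⟩
          · rintro _ ⟨y, hy, rfl⟩
            show D ^ 2 * (D * y * D⁻¹) * (D ^ 2)⁻¹ ∈ M
            rw [show D ^ 2 * (D * y * D⁻¹) * (D ^ 2)⁻¹ = D ^ 3 * y * (D ^ 3)⁻¹ by group, hD3]
            rw [one_mul, inv_one, mul_one]
            exact Subgroup.mem_sup_left hy
        have h' : D ^ 2 * D * (D ^ 2)⁻¹ ∈ M := hle hD1
        have h'' : D ∈ M := by
          rwa [show D ^ 2 * D * (D ^ 2)⁻¹ = D by group] at h'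
        exact pow_mem h'' 2
  · obtain ⟨a, ha⟩ := hdec u hu
    obtain ⟨b, hb⟩ := hdec g hg
    have ha3 : a % 3 ≠ 0 := fun h0 => hu' (by
      rwa [show D ^ a = 1 by rw [← Nat.div_add_mod a 3, h0, add_zero, pow_mul, hD3, one_pow],
        inv_one, mul_one] at ha)
    obtain ⟨r, hr⟩ : ∃ r, (a * r) % 3 = b % 3 := ⟨a % 3 * b, by
      have : a % 3 = 1 ∨ a % 3 = 2 := by omega
      rcases this with h | h <;> simp [Nat.mul_mod, h] <;> omega⟩
    refine ⟨r, ?_⟩
    -- work modulo the Sylow subgroup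
    set N := Subgroup.normalizer ((P : Subgroup SpG) : Set SpG)
    let π := QuotientGroup.mk' ((P : Subgroup SpG).subgroupOf N)
    have hmk : ∀ x y : N, (x : SpG) * (y : SpG)⁻¹ ∈ (P : Subgroup SpG) → π x = π y := by
      intro x y hxy
      have h : π (x * y⁻¹) = 1 := (QuotientGroup.eq_one_iff _).2 hxy
      rwa [map_mul, map_inv, mul_inv_eq_one] at h
    have h1 : π ⟨u, hu⟩ = π ⟨D, hDN⟩ ^ a := by rw [← map_pow]; exact hmk _ _ (by simpa using ha)
    have h3 : π ⟨g, hg⟩ = π ⟨D, hDN⟩ ^ b := by rw [← map_pow]; exact hmk _ _ (by simpa using hb)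
    have hD3' : π ⟨D, hDN⟩ ^ 3 = 1 := by
      rw [← map_pow, show (⟨D, hDN⟩ : N) ^ 3 = 1 from Subtype.ext (by simpa using hD3), map_one]
    have h4 : π (⟨g, hg⟩ * (⟨u, hu⟩ ^ r)⁻¹) = 1 := by
      rw [map_mul, map_inv, map_pow, h1, h3, ← pow_mul, mul_inv_eq_one,
        ← Nat.div_add_mod (a * r) 3, hr, pow_add, pow_mul, hD3', one_pow, one_mul]
      conv_lhs => rw [← Nat.div_add_mod b 3, pow_add, pow_mul, hD3', one_pow, one_mul]
    have h5 := (QuotientGroup.eq_one_iff _).1 h4
    simpa [Subgroup.mem_subgroupOf] using h5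

theorem center_sq [Nonempty ι] (hodd : Odd (Fintype.card F)) {c : SpG}
    (hc : c ∈ Subgroup.center SpG) : c ^ 2 = 1 := by
  haveI : Fact (Nat.Prime 2) := ⟨Nat.prime_two⟩
  have h2 := two_ne_zero_of_odd_card hodd
  have hcomm : ∀ x : Vec ι F ≃ₗ[F] Vec ι F, IsIso formSum x → (c : Vec ι F ≃ₗ[F] Vec ι F) * x = x * c :=
    fun x hx => (congrArg Subtype.val (Subgroup.mem_center_iff.1 hc ⟨x, hx⟩)).symm
  obtain ⟨g, hg⟩ := exists_mono_of_commute h2 c.2 fun a => hcomm _ (zb_iso a)
  have hga : ∀ a, g a * g a = 1 := by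
    intro a
    have hz : g a ∈ Subgroup.center (S2 F) := Subgroup.mem_center_iff.2 fun s => by
      have h := hcomm (el a s) (mono_iso _ _)
      rw [hg] at h
      rw [← mul_inv_eq_iff_eq_mul, mono_conj_el] at h
      have h' := el_injective a h
      exact (mul_inv_eq_iff_eq_mul.1 h').symm
    obtain ⟨r, hr, hrg⟩ := Matrix.SpecialLinearGroup.mem_center_iff.1 hz
    refine Subtype.ext ?_
    show (g a : Matrix (Fin 2) (Fin 2) F) * (g a : Matrix (Fin 2) (Fin 2) F) = 1
    rw [Fintype.card_fin] at hr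
    rw [← hrg, ← map_mul, ← pow_two, hr, map_one]
  refine Subtype.ext ?_
  rw [SubmonoidClass.coe_pow, hg, pow_two, mono_mul]
  show mono (fun a => g a * g a) 1 = 1
  rw [show (fun a => g a * g a) = 1 from funext hga, mono_one]

theorem good_PSp {m k : ℕ} (hm : m = 2 ^ k) (hodd : Odd (Fintype.card F)) :
    Good (Cfsg.PSp m F) := by
  classical
  haveI : Fact (Nat.Prime 2) := ⟨Nat.prime_two⟩
  subst hm
  set m := 2 ^ k with hm
  haveI : Nonempty (Fin m) := ⟨⟨0, pow_pos two_pos k⟩⟩
  haveI : Finite (Vec (Fin m) F ≃ₗ[F] Vec (Fin m) F) := Finite.of_injective _ DFunLike.coe_injective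
  have hsymp := isSymp_formSum (F := F) (ι := Fin m)
  obtain ⟨e, he⟩ := CfsgLib.Classical.Symp.exists_isometry (B' := CfsgLib.Classical.Symp.sympBil m F)
    hsymp.alt ⟨hsymp.nondeg, fun u hu => hsymp.nondeg u fun v => hsymp.swap (hu v)⟩
    (CfsgLib.Classical.Symp.sympBil_isAlt m F) (CfsgLib.Classical.Symp.sympBil_nondegenerate m F)
    (by rw [CfsgLib.Classical.Symp.finrank_sympSpace, Module.finrank_pi_fintype]
        simp [mul_comm])
  let φ : (Vec (Fin m) F ≃ₗ[F] Vec (Fin m) F) ≃*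
      ((Fin m ⊕ Fin m → F) ≃ₗ[F] (Fin m ⊕ Fin m → F)) :=
    { toFun := fun g => (e.symm.trans g).trans e
      invFun := fun g => (e.trans g).trans e.symm
      left_inv := fun g => by ext v; simp
      right_inv := fun g => by ext v; simp
      map_mul' := fun g h => by ext v; simp }
  have hmap : (isoGroup (formSum : LinearMap.BilinForm F (Vec (Fin m) F))).map φ.toMonoidHom =
      CfsgLib.Classical.Symp.Sp (CfsgLib.Classical.Symp.sympBil m F) := by
    ext g
    constructor
    · rintro ⟨x, hx, rfl⟩ u v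
      obtain ⟨u, rfl⟩ := e.surjective u
      obtain ⟨v, rfl⟩ := e.surjective v
      show CfsgLib.Classical.Symp.sympBil m F (e (x (e.symm (e u)))) (e (x (e.symm (e v)))) =
        CfsgLib.Classical.Symp.sympBil m F (e u) (e v)
      rw [e.symm_apply_apply, e.symm_apply_apply, he, he]
      exact hx u v
    · intro hg
      refine ⟨φ.symm g, fun u v => ?_, φ.apply_symm_apply g⟩
      rw [← he, ← he u v]
      show CfsgLib.Classical.Symp.sympBil m F (e (e.symm (g (e u)))) (e (e.symm (g (e v)))) = _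
      rw [e.apply_symm_apply, e.apply_symm_apply]
      exact hg (e u) (e v)
  let ψ : isoGroup (formSum : LinearMap.BilinForm F (Vec (Fin m) F)) ≃*
      Matrix.symplecticGroup (Fin m) F :=
    ((φ.subgroupMap _).trans (MulEquiv.subgroupCongr hmap)).trans
      (CfsgLib.Classical.Symp.symplecticEquiv m F).symm
  have hgood := (good_isoGroup (F := F) (ι := Fin m) (k := k) (Fintype.card_fin m) hodd).mulEquiv ψ
  haveI : Finite (Matrix.symplecticGroup (Fin m) F) := Finite.of_equiv _ ψ.toEquiv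
  refine hgood.map (QuotientGroup.mk' _) (QuotientGroup.mk'_surjective _) ?_
  rw [QuotientGroup.ker_mk']
  rintro ⟨c, hc⟩
  refine ⟨1, Subtype.ext ?_⟩
  have hc' : ψ.symm c ∈ Subgroup.center _ := by
    refine Subgroup.mem_center_iff.2 fun x => ψ.injective ?_
    rw [map_mul, map_mul, ψ.apply_symm_apply]
    exact Subgroup.mem_center_iff.1 hc _
  have h := center_sq hodd hc'
  show c ^ 2 ^ 1 = 1
  rw [pow_one, ← ψ.apply_symm_apply c, ← map_pow, h, map_one]

end CfsgLib.HallGen.Pronormal
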