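import Cfsg.Agent.Lib.HallGen.Pronormal.SpModel
import Cfsg.Agent.Lib.HallGen.Pronormal.QuatSL2

/-!
# The quaternion group on the plane of a transposition of two blocks

For blocks `a ≠ b`, `kEl a b s` acts as `s` on the vectors supported on `{a, b}` with opposite components and
fixes their orthogonal. The product `kEl i * el a (i j) * kEl j` is diagonal on the two blocks with both
components normalising `⟨i, j⟩` and outside it.
-/

set_option autoImplicit false
set_option linter.all false

namespace CfsgLib.HallGen.Pronormal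

open Equiv Module CfsgLib.PLocal.SLTwo

universe u v

variable {F : Type u} [Field F] [Fintype F] {ι : Type v} [Fintype ι] [DecidableEq ι]

section Plane

variable (h2 : (2 : F) ≠ 0) {a b : ι} (hab : a ≠ b)

include h2 hab

/-- The change of coordinates `(x, y) ↦ (x - y, x + y)`. -/
noncomputable def had : Vec ι F ≃ₗ[F] Vec ι F :=
  { toFun := fun v => Function.update (Function.update v a (v a - v b)) b (v a + v b)
    invFun := fun v => Function.update (Function.update v a ((2⁻¹ : F) • (v a + v b))) b
      ((2⁻¹ : F) • (v b - v a))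
    map_add' := fun u v => by
      funext c
      by_cases hcb : c = b
      · subst hcb; simp; abel
      by_cases hca : c = a
      · subst hca; simp [hcb]; abel
      simp [hca, hcb]
    map_smul' := fun r v => by
      funext c
      by_cases hcb : c = b
      · subst hcb; simp [smul_add]
      by_cases hca : c = a
      · subst hca; simp [hcb, smul_sub]
      simp [hca, hcb]
    left_inv := fun v => by
      funext c
      by_cases hcb : c = b
      · subst hcb
        simp [hab]
        match_scalars <;> field_simp <;> ring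
      by_cases hca : c = a
      · subst hca
        simp [hcb]
        match_scalars <;> field_simp <;> ring
      simp [hca, hcb]
    right_inv := fun v => by
      funext c
      by_cases hcb : c = b
      · subst hcb
        simp [hab]
        match_scalars <;> field_simp <;> ring
      by_cases hca : c = a
      · subst hca
        simp [hcb]
        match_scalars <;> field_simp <;> ring
      simp [hca, hcb] }

theorem had_apply (v : Vec ι F) :
    had h2 hab v = Function.update (Function.update v a (v a - v b)) b (v a + v b) := rfl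

theorem had_inv_apply (v : Vec ι F) :
    (had h2 hab)⁻¹ v = Function.update (Function.update v a ((2⁻¹ : F) • (v a + v b))) b
      ((2⁻¹ : F) • (v b - v a)) := rfl

/-- The element acting on the plane of the transposition. -/
noncomputable def kElHom : S2 F →* (Vec ι F ≃ₗ[F] Vec ι F) :=
  (MulAut.conj ((had h2 hab)⁻¹)).toMonoidHom.comp (elHom a)

theorem kElHom_eq (s : S2 F) :
    kElHom h2 hab s = (had h2 hab)⁻¹ * el a s * had h2 hab := by
  show (had h2 hab)⁻¹ * el a s * ((had h2 hab)⁻¹)⁻¹ = _
  rw [inv_inv]

theorem kEl_apply_a (s : S2 F) (v : Vec ι F) :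
    kElHom h2 hab s v a = (2⁻¹ : F) • (act s (v a - v b) + (v a + v b)) := by
  rw [kElHom_eq, LinearEquiv.mul_apply, LinearEquiv.mul_apply, had_inv_apply, el_apply, had_apply]
  simp [hab, Ne.symm hab]

theorem kEl_apply_b (s : S2 F) (v : Vec ι F) :
    kElHom h2 hab s v b = (2⁻¹ : F) • ((v a + v b) - act s (v a - v b)) := by
  rw [kElHom_eq, LinearEquiv.mul_apply, LinearEquiv.mul_apply, had_inv_apply, el_apply, had_apply]
  simp [hab, Ne.symm hab]

theorem kEl_apply_c (s : S2 F) (v : Vec ι F) {c : ι} (hca : c ≠ a) (hcb : c ≠ b) :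
    kElHom h2 hab s v c = v c := by
  rw [kElHom_eq, LinearEquiv.mul_apply, LinearEquiv.mul_apply, had_inv_apply, el_apply, had_apply]
  simp [hca, hcb]

omit h2 hab

/-- The standard transposition of the two blocks. -/
noncomputable def swapEl (a b : ι) : Vec ι F ≃ₗ[F] Vec ι F := mono 1 (swap a b)

theorem swapEl_apply (v : Vec ι F) (c : ι) : swapEl a b v c = v (swap a b c) := by
  rw [swapEl, mono_apply, Pi.one_apply, act_one, symm_swap]

theorem swapEl_mul_self : swapEl (F := F) a b * swapEl a b = 1 := by
  refine LinearEquiv.ext fun v => funext fun c => ?_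
  rw [LinearEquiv.mul_apply, swapEl_apply, swapEl_apply, swap_apply_self]
  rfl

theorem mem_moved_swapEl (h2 : (2 : F) ≠ 0) {v : Vec ι F} (h : v a + v b = 0) (ho : ∀ c, c ≠ a → c ≠ b → v c = 0) :
    v ∈ moved (swapEl (F := F) a b) := by
  refine mem_moved_of_neg h2 (funext fun c => ?_)
  rw [swapEl_apply, Pi.neg_apply]
  by_cases hca : c = a
  · subst hca; rw [swap_apply_left]; exact eq_neg_of_add_eq_zero_right h
  by_cases hcb : c = b
  · subst hcb; rw [swap_apply_right]; exact eq_neg_of_add_eq_zero_left h
  rw [swap_apply_of_ne_of_ne hca hcb, ho c hca hcb, neg_zero]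

include h2 hab

theorem kEl_sub_mem (s : S2 F) (v : Vec ι F) :
    kElHom h2 hab s v - v ∈ moved (swapEl (F := F) a b) := by
  refine mem_moved_swapEl h2 ?_ fun c hca hcb => ?_
  · simp only [Pi.sub_apply, kEl_apply_a, kEl_apply_b]
    match_scalars <;> field_simp <;> ring
  · rw [Pi.sub_apply, kEl_apply_c h2 hab s v hca hcb, sub_self]

theorem eq_kEl_of_moved {x : Vec ι F ≃ₗ[F] Vec ι F} (hx : IsIso formSum x)
    (h : ∀ v, x v - v ∈ moved (swapEl (F := F) a b)) : ∃ s, x = kElHom h2 hab s := by
  classical
  have hshape : ∀ w ∈ moved (swapEl (F := F) a b),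
      w a + w b = 0 ∧ ∀ c, c ≠ a → c ≠ b → w c = 0 := by
    intro w hw
    have hn := apply_moved swapEl_mul_self hw
    refine ⟨?_, fun c hca hcb => ?_⟩
    · have := congrFun hn a
      rw [swapEl_apply, swap_apply_left, Pi.neg_apply] at this
      rw [this, add_neg_cancel]
    · have := congrFun hn c
      rw [swapEl_apply, swap_apply_of_ne_of_ne hca hcb, Pi.neg_apply] at this
      have h' : (2 : F) • w c = 0 := by rw [two_smul]; nth_rewrite 2 [this]; exact add_neg_cancel _
      exact (smul_eq_zero.1 h').resolve_left h2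
  have hfix : ∀ v, swapEl a b v = v → x v = v := fun v hv =>
    (fix_iff isSymp_formSum hx).2 fun w hw =>
      perp_of_fix isSymp_formSum (mono_iso _ _) (moved_le h hw) hv
  let U : (Fin 2 → F) →ₗ[F] Vec ι F :=
    LinearMap.single F (fun _ : ι => Fin 2 → F) a - LinearMap.single F (fun _ : ι => Fin 2 → F) b
  have hUa : ∀ w, U w a = w := fun w => by simp [U, hab]
  have hUb : ∀ w, U w b = -w := fun w => by simp [U, Ne.symm hab]
  have hUc : ∀ w c, c ≠ a → c ≠ b → U w c = 0 := fun w c hca hcb => by simp [U, hca, hcb]
  have hUm : ∀ w, U w ∈ moved (swapEl (F := F) a b) := fun w =>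
    mem_moved_swapEl h2 (by rw [hUa, hUb, add_neg_cancel]) (hUc w)
  have hUB : ∀ w w', formSum (U w) (U w') = 2 * formLoc w w' := fun w w' => by
    rw [show U w' = Pi.single a w' - Pi.single b w' from rfl, map_sub, formSum_single_right,
      formSum_single_right, hUa, hUb, map_neg, LinearMap.neg_apply]
    ring
  let L : (Fin 2 → F) →ₗ[F] (Fin 2 → F) :=
    (LinearMap.proj a).comp ((x : Vec ι F →ₗ[F] Vec ι F).comp U)
  have hxU : ∀ w, x (U w) = U (L w) := by
    intro w
    obtain ⟨h1, h3⟩ := hshape _ (maps_of_moved h (hUm w))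
    funext c
    by_cases hca : c = a
    · subst hca; rw [hUa]; rfl
    by_cases hcb : c = b
    · subst hcb; rw [hUb]; exact eq_neg_of_add_eq_zero_right h1
    rw [hUc _ c hca hcb, h3 c hca hcb]
  obtain ⟨s, hs⟩ := exists_sl L fun w w' => mul_left_cancel₀ h2 (by
    rw [← hUB, ← hUB, ← hxU, ← hxU, hx])
  refine ⟨s, LinearEquiv.ext fun v => ?_⟩
  set w := (2⁻¹ : F) • (v a - v b)
  have hrest : swapEl a b (v - U w) = v - U w := by
    funext c
    rw [swapEl_apply]
    by_cases hca : c = a
    · subst hca
      rw [swap_apply_left, Pi.sub_apply, Pi.sub_apply, hUa, hUb]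
      simp only [w]
      match_scalars <;> field_simp <;> ring
    by_cases hcb : c = b
    · subst hcb
      rw [swap_apply_right, Pi.sub_apply, Pi.sub_apply, hUa, hUb]
      simp only [w]
      match_scalars <;> field_simp <;> ring
    rw [swap_apply_of_ne_of_ne hca hcb]
  conv_lhs => rw [show v = U w + (v - U w) by abel, map_add, hxU, hfix _ hrest, ← hs]
  funext c
  rw [Pi.add_apply, Pi.sub_apply]
  by_cases hca : c = a
  · subst hca
    rw [hUa, hUa, kEl_apply_a]
    simp only [w, map_smul]
    match_scalars <;> field_simp <;> ring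
  by_cases hcb : c = b
  · subst hcb
    rw [hUb, hUb, kEl_apply_b]
    simp only [w, map_smul]
    match_scalars <;> field_simp <;> ring
  rw [hUc _ c hca hcb, hUc _ c hca hcb, kEl_apply_c h2 hab s v hca hcb, zero_add, sub_zero]

/-- Conjugation by a diagonal element of the two blocks. -/
theorem kEl_conj (t s : S2 F) :
    (el a t * el b t) * kElHom h2 hab s * (el a t * el b t)⁻¹ = kElHom h2 hab (t * s * t⁻¹) := by
  set D := el a t * el b t with hD
  have hDh : D * had h2 hab = had h2 hab * D := by
    refine LinearEquiv.ext fun v => funext fun c => ?_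
    simp only [hD, LinearEquiv.mul_apply, el_apply, had_apply]
    by_cases hca : c = a
    · subst hca; simp [hab, Ne.symm hab, map_sub]
    by_cases hcb : c = b
    · subst hcb; simp [hab, Ne.symm hab, map_add]
    simp [hca, hcb]
  have hDinv : D⁻¹ = mono (fun c => ((Pi.mulSingle a t * Pi.mulSingle b t : ι → S2 F) c)⁻¹) 1 := by
    rw [hD, el, el, mono_mul, mono_inv]
    rfl
  have hDel : D * el a s * D⁻¹ = el a (t * s * t⁻¹) := by
    rw [hD, show el a t * el b t = mono (Pi.mulSingle a t * Pi.mulSingle b t) 1 from
      (mono_mul _ _ _ _).trans rfl, mono_conj_el]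
    simp [hab]
  have hDh' : D * (had h2 hab)⁻¹ = (had h2 hab)⁻¹ * D := by
    rw [eq_inv_mul_iff_mul_eq, ← mul_assoc, ← hDh, mul_inv_cancel_right]
  have hDi : had h2 hab * D⁻¹ = D⁻¹ * had h2 hab := by
    rw [eq_inv_mul_iff_mul_eq, ← mul_assoc, hDh, mul_inv_cancel_right]
  rw [kElHom_eq, kElHom_eq, ← hDel]
  calc D * ((had h2 hab)⁻¹ * el a s * had h2 hab) * D⁻¹
      = (D * (had h2 hab)⁻¹) * el a s * (had h2 hab * D⁻¹) := by group
    _ = (had h2 hab)⁻¹ * (D * el a s * D⁻¹) * had h2 hab := by rw [hDh', hDi]; group

end Plane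

/-- The twisting element. -/
theorem exists_twist {S : Sylow 2 (S2 F)} {i j w : S2 F} (d : Q8Data S i j w) {a b : ι} (hab : a ≠ b)
    (hi : IsIso formSum (kElHom d.two hab i)) (hj : IsIso formSum (kElHom d.two hab j)) :
    ∃ u : S2 F, u ∈ Subgroup.normalizer ((S : Subgroup (S2 F)) : Set (S2 F)) ∧ u ∉ S ∧
      kElHom d.two hab i * el a (i * j) * kElHom d.two hab j = el a u * el b (u * i) := by
  have h2 := d.two
  have hII : ∀ v : Fin 2 → F, act i (act i v) = -v := fun v => by rw [← act_mul, d.ii, act_neg_one]
  have hJJ : ∀ v : Fin 2 → F, act j (act j v) = -v := fun v => by rw [← act_mul, d.jj, act_neg_one]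
  have hJI : ∀ v : Fin 2 → F, act j (act i v) = -act i (act j v) := fun v => by
    rw [← act_mul, ← act_mul, ← act_neg_one (F := F) (act (i * j) v), ← act_mul]
    congr 2
    rw [d.ij]; simp
  set X := kElHom d.two hab i * el a (i * j) * kElHom d.two hab j with hX
  let L : (Fin 2 → F) →ₗ[F] (Fin 2 → F) :=
    (2⁻¹ : F) • (LinearMap.id - (act i : (Fin 2 → F) →ₗ[F] (Fin 2 → F)) -
      (act j : (Fin 2 → F) →ₗ[F] (Fin 2 → F)) +
      (act (i * j) : (Fin 2 → F) →ₗ[F] (Fin 2 → F)))
  have hL : ∀ v, L v = (2⁻¹ : F) • (v - act i v - act j v + act i (act j v)) := fun v => by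
    rw [← act_mul]; rfl
  have hXa : ∀ v, X v a = L (v a) := by
    intro v
    simp only [hX, LinearEquiv.mul_apply, el_apply, kEl_apply_a, kEl_apply_b, Function.update_self,
      Function.update_of_ne (Ne.symm hab), hL, act_mul, map_add, map_sub, map_smul, map_neg, hII,
      hJJ, hJI]
    match_scalars <;> field_simp <;> ring
  have hXb : ∀ v, X v b = L (act i (v b)) := by
    intro v
    simp only [hX, LinearEquiv.mul_apply, el_apply, kEl_apply_a, kEl_apply_b, Function.update_self,
      Function.update_of_ne (Ne.symm hab), hL, act_mul, map_add, map_sub, map_smul, map_neg, hII,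
      hJJ, hJI]
    match_scalars <;> field_simp <;> ring
  have hXc : ∀ v c, c ≠ a → c ≠ b → X v c = v c := fun v c hca hcb => by
    simp only [hX, LinearEquiv.mul_apply, el_apply, kEl_apply_c h2 hab _ _ hca hcb,
      Function.update_of_ne hca]
  have hXiso : IsIso formSum X :=
    (show X ∈ isoGroup (formSum : LinearMap.BilinForm F (Vec ι F)) from
      mul_mem (mul_mem hi (mono_iso _ _)) hj)
  obtain ⟨u, hu⟩ := exists_sl L fun p q => by
    have h := hXiso (Pi.single a p) (Pi.single a q)
    have hX' : ∀ r, X (Pi.single a r) = Pi.single a (L r) := fun r => by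
      funext c
      by_cases hca : c = a
      · subst hca; rw [hXa, Pi.single_eq_same, Pi.single_eq_same]
      by_cases hcb : c = b
      · subst hcb; rw [hXb, Pi.single_eq_of_ne hca, Pi.single_eq_of_ne hca, map_zero, map_zero]
      rw [hXc _ _ hca hcb, Pi.single_eq_of_ne hca, Pi.single_eq_of_ne hca]
    rw [hX', hX', formSum_single_right, formSum_single_right, Pi.single_eq_same,
      Pi.single_eq_same] at h
    exact h
  have hui : u * i = j * u := act_injective (LinearEquiv.ext fun v => by
    rw [act_mul, act_mul, hu, hu, hL, hL]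
    simp only [map_add, map_sub, map_smul, map_neg, hII, hJJ, hJI]
    match_scalars <;> field_simp <;> ring)
  have huj : u * j = (-(i * j)) * u := act_injective (LinearEquiv.ext fun v => by
    rw [show -(i * j) = (-1 : S2 F) * (i * j) by simp]
    rw [act_mul, act_mul, act_mul, act_neg_one, act_mul, hu, hu, hL, hL]
    simp only [map_add, map_sub, map_smul, map_neg, hII, hJJ, hJI]
    match_scalars <;> field_simp <;> ring)
  have e1 : u * i * u⁻¹ = j := by rw [hui, mul_inv_cancel_right]
  have e3 : u * j * u⁻¹ = -(i * j) := by rw [huj, mul_inv_cancel_right]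
  refine ⟨u, ?_, fun huS => ?_, LinearEquiv.ext fun v => funext fun c => ?_⟩
  · refine CfsgLib.SL2Char.mem_normalizer_of_conj_mem fun y hy => ?_
    have hle : (S : Subgroup (S2 F)) ≤ (S : Subgroup (S2 F)).comap (MulAut.conj u).toMonoidHom := by
      conv_lhs => rw [d.gen]
      refine (Subgroup.closure_le _).2 ?_
      rintro z (rfl | rfl)
      · show u * z * u⁻¹ ∈ S
        rw [e1]; exact d.memj
      · show u * z * u⁻¹ ∈ S
        rw [e3, show -(i * z) = (-1 : S2 F) * (i * z) by simp]
        exact S.mul_mem d.neg_one_mem (S.mul_mem d.memi d.memj)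
    exact hle hy
  · have key : ∀ g ∈ Subgroup.closure ({i, j} : Set (S2 F)), g * i = i * g ∨ g * i = -(i * g) := by
      intro g hg
      induction hg using Subgroup.closure_induction with
      | mem x hx =>
        rcases hx with rfl | rfl
        · exact Or.inl rfl
        · exact Or.inr (by rw [d.ij, neg_neg])
      | one => exact Or.inl (by rw [one_mul, mul_one])
      | mul x y _ _ hx hy =>
        rcases hx with hx | hx <;> rcases hy with hy | hy
        · exact Or.inl (by rw [mul_assoc, hy, ← mul_assoc, hx, mul_assoc])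
        · exact Or.inr (by rw [mul_assoc, hy, mul_neg, ← mul_assoc, hx, mul_assoc])
        · exact Or.inr (by rw [mul_assoc, hy, ← mul_assoc, hx, neg_mul, mul_assoc])
        · exact Or.inl (by rw [mul_assoc, hy, mul_neg, ← mul_assoc, hx, neg_mul, neg_neg, mul_assoc])
      | inv x _ hx =>
        rcases hx with hx | hx
        · exact Or.inl (by rw [eq_mul_inv_iff_mul_eq, mul_assoc, ← hx, inv_mul_cancel_left])
        · refine Or.inr ?_
          calc x⁻¹ * i = x⁻¹ * (i * x) * x⁻¹ := by group
            _ = x⁻¹ * (-(x * i)) * x⁻¹ := by rw [hx, neg_neg]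
            _ = -(i * x⁻¹) := by rw [mul_neg, inv_mul_cancel_left, neg_mul]
    have hmem : u ∈ Subgroup.closure ({i, j} : Set (S2 F)) := d.gen ▸ huS
    have hij : i * j = j * i := by
      rcases key u hmem with h | h
      · rw [h, mul_inv_cancel_right] at e1
        rw [← e1]
      · rw [h, neg_mul, mul_inv_cancel_right] at e1
        rw [← e1, mul_neg, neg_mul]
    have hcontra := d.ij
    rw [← hij] at hcontra
    have h4 := congrArg (fun M : S2 F => (M : Matrix (Fin 2) (Fin 2) F)) hcontra
    simp only [Matrix.SpecialLinearGroup.coe_neg] at h4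
    have h' : (2 : F) • ((i * j : S2 F) : Matrix (Fin 2) (Fin 2) F) = 0 := by
      rw [two_smul]; nth_rewrite 1 [h4]; exact neg_add_cancel _
    have h'' := congrArg Matrix.det ((smul_eq_zero.1 h').resolve_left h2)
    rw [(i * j).2, Matrix.det_zero] at h''
    exact one_ne_zero h''
  · show X v c = _
    rw [LinearEquiv.mul_apply (el a u) (el b (u * i)), el_apply, el_apply]
    by_cases hca : c = a
    · subst hca
      rw [hXa, Function.update_self, Function.update_of_ne hab, hu]
    by_cases hcb : c = b
    · subst hcb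
      rw [hXb, Function.update_of_ne hca, Function.update_self, act_mul, hu]
    rw [hXc v c hca hcb, Function.update_of_ne hca, Function.update_of_ne hcb]

end CfsgLib.HallGen.Pronormal
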