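import Cfsg.Agent.Lib.HallGen.Pronormal.PlaneInverted
import Cfsg.Agent.Lib.Classical.ClassicalTwoRank
import Cfsg.Agent.Lib.Classical.SL2Elements

/-!
# Symplectic space as an orthogonal sum of planes

`Vec ι F = ι → F²` with the sum of the standard forms, monomial isometries `mono g σ`, the blocks `blk a`
and the elements `el a s` moving one block.
-/

set_option autoImplicit false
set_option linter.all false

namespace CfsgLib.HallGen.Pronormal

open Module Equiv

universe u v

variable {F : Type u} [Field F] {ι : Type v} [Fintype ι] [DecidableEq ι]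

local notation "SL2" => Matrix.SpecialLinearGroup (Fin 2) F

/-- The space. -/
abbrev Vec (ι : Type v) (F : Type u) := ι → Fin 2 → F

/-- The form on one plane. -/
def formLoc : LinearMap.BilinForm F (Fin 2 → F) :=
  LinearMap.mk₂ F (fun u v => u 0 * v 1 - u 1 * v 0)
    (fun u u' v => by simp; ring) (fun a u v => by simp; ring)
    (fun u v v' => by simp; ring) (fun a u v => by simp; ring)

theorem formLoc_apply (u v : Fin 2 → F) : formLoc u v = u 0 * v 1 - u 1 * v 0 := rfl

theorem formLoc_nondeg {u : Fin 2 → F} (h : ∀ v, formLoc u v = 0) : u = 0 := by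
  funext k
  fin_cases k
  · simpa [formLoc_apply] using h ![0, 1]
  · simpa [formLoc_apply] using h ![1, 0]

/-- The form on the sum. -/
def formSum : LinearMap.BilinForm F (Vec ι F) :=
  LinearMap.mk₂ F (fun u v => ∑ a, formLoc (u a) (v a))
    (fun u u' v => by
      rw [← Finset.sum_add_distrib]
      exact Finset.sum_congr rfl fun a _ => by simp)
    (fun c u v => by
      rw [smul_eq_mul, Finset.mul_sum]
      exact Finset.sum_congr rfl fun a _ => by simp)
    (fun u v v' => by
      rw [← Finset.sum_add_distrib]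
      exact Finset.sum_congr rfl fun a _ => by simp)
    (fun c u v => by
      rw [smul_eq_mul, Finset.mul_sum]
      exact Finset.sum_congr rfl fun a _ => by simp)

theorem formSum_apply (u v : Vec ι F) : formSum u v = ∑ a, formLoc (u a) (v a) := rfl

theorem formSum_single_right (u : Vec ι F) (a : ι) (w : Fin 2 → F) :
    formSum u (Pi.single a w) = formLoc (u a) w := by
  rw [formSum_apply, Finset.sum_eq_single a (fun b _ hb => by
    rw [Pi.single_eq_of_ne hb, map_zero]) (by simp), Pi.single_eq_same]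

theorem isSymp_formSum : IsSymp (formSum : LinearMap.BilinForm F (Vec ι F)) where
  alt := fun u => by
    rw [formSum_apply]; exact Finset.sum_eq_zero fun a _ => by simp [formLoc_apply]; ring
  nondeg := fun u h => funext fun a => formLoc_nondeg fun w => by
    rw [← formSum_single_right]; exact h _

/-- The natural action. -/
noncomputable abbrev act : SL2 →* ((Fin 2 → F) ≃ₗ[F] (Fin 2 → F)) :=
  CfsgLib.Classical.TwoRank.slAct

theorem act_apply (s : SL2) (v : Fin 2 → F) : act s v = (s : Matrix (Fin 2) (Fin 2) F).mulVec v := by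
  show CfsgLib.Classical.TwoRank.natAct 2 (Matrix.SpecialLinearGroup.toGL s) v = _
  simp [CfsgLib.Classical.TwoRank.natAct, CfsgLib.Classical.TwoRank.autGL]

theorem act_form (s : SL2) (u v : Fin 2 → F) : formLoc (act s u) (act s v) = formLoc u v := by
  have hdet := s.2
  rw [Matrix.det_fin_two] at hdet
  rw [act_apply, act_apply, formLoc_apply, formLoc_apply]
  simp [Matrix.mulVec, dotProduct, Fin.sum_univ_two]
  linear_combination (u 0 * v 1 - u 1 * v 0) * hdet

theorem act_injective : Function.Injective (act : SL2 → _) := by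
  intro s t h
  refine Subtype.ext (Matrix.ext fun r c => ?_)
  have := congrFun (congrArg (fun e : (Fin 2 → F) ≃ₗ[F] (Fin 2 → F) => e (Pi.single c 1)) h) r
  simp only [act_apply, Matrix.mulVec_single, MulOpposite.op_one, one_smul] at this
  exact this

theorem act_one (v : Fin 2 → F) : act (1 : SL2) v = v := by rw [map_one]; rfl

theorem act_mul (s t : SL2) (v : Fin 2 → F) : act (s * t) v = act s (act t v) := by
  rw [map_mul, LinearEquiv.mul_apply]

theorem act_neg_one (v : Fin 2 → F) : act (-1 : SL2) v = -v := by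
  rw [act_apply, Matrix.SpecialLinearGroup.coe_neg, Matrix.SpecialLinearGroup.coe_one,
    Matrix.neg_mulVec, Matrix.one_mulVec]

theorem exists_sl (L : (Fin 2 → F) →ₗ[F] (Fin 2 → F))
    (hL : ∀ u v, formLoc (L u) (L v) = formLoc u v) : ∃ s : SL2, ∀ v, act s v = L v := by
  refine ⟨⟨LinearMap.toMatrix' L, ?_⟩, fun v => ?_⟩
  · have h := hL (Pi.single 0 1) (Pi.single 1 1)
    rw [formLoc_apply, formLoc_apply] at h
    simp [Pi.single_apply] at h
    rw [Matrix.det_fin_two, LinearMap.toMatrix'_apply, LinearMap.toMatrix'_apply,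
      LinearMap.toMatrix'_apply, LinearMap.toMatrix'_apply]
    linear_combination h
  · refine (act_apply _ _).trans ?_
    exact LinearMap.toMatrix'_mulVec L v

/-- A monomial isometry. -/
noncomputable def mono (g : ι → SL2) (σ : Perm ι) : Vec ι F ≃ₗ[F] Vec ι F :=
  (LinearEquiv.funCongrLeft F (Fin 2 → F) σ.symm).trans (LinearEquiv.piCongrRight fun a => act (g a))

theorem mono_apply (g : ι → SL2) (σ : Perm ι) (v : Vec ι F) (a : ι) :
    mono g σ v a = act (g a) (v (σ.symm a)) := rfl

theorem mono_mul (g h : ι → SL2) (σ τ : Perm ι) :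
    mono g σ * mono h τ = mono (fun a => g a * h (σ.symm a)) (σ * τ) := by
  refine LinearEquiv.ext fun v => funext fun a => ?_
  rw [LinearEquiv.mul_apply, mono_apply, mono_apply, mono_apply, act_mul]
  rfl

theorem mono_one : mono (1 : ι → SL2) 1 = (1 : Vec ι F ≃ₗ[F] Vec ι F) :=
  LinearEquiv.ext fun v => funext fun a => by rw [mono_apply]; exact act_one _

theorem mono_inv (g : ι → SL2) (σ : Perm ι) :
    (mono g σ)⁻¹ = mono (fun a => (g (σ a))⁻¹) σ⁻¹ := by
  refine inv_eq_of_mul_eq_one_right ?_
  rw [mono_mul, ← mono_one]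
  congr 1
  · funext a; simp
  · exact mul_inv_cancel σ

theorem mono_iso (g : ι → SL2) (σ : Perm ι) : IsIso formSum (mono g σ) := fun u v => by
  rw [formSum_apply, formSum_apply, ← Equiv.sum_comp σ.symm fun a => formLoc (u a) (v a)]
  exact Finset.sum_congr rfl fun a _ => by rw [mono_apply, mono_apply, act_form]

theorem mono_single (g : ι → SL2) (σ : Perm ι) (a : ι) (w : Fin 2 → F) :
    mono g σ (Pi.single a w) = Pi.single (σ a) (act (g (σ a)) w) := by
  funext c
  rw [mono_apply]
  by_cases hc : c = σ a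
  · subst hc; simp
  · have : σ.symm c ≠ a := fun h => hc (by rw [← h, apply_symm_apply])
    rw [Pi.single_eq_of_ne this, Pi.single_eq_of_ne hc, map_zero]

theorem mono_inj {g h : ι → SL2} {σ τ : Perm ι} (e : mono g σ = mono h τ) : g = h ∧ σ = τ := by
  have hv : ∀ (v : Vec ι F) a, act (g a) (v (σ.symm a)) = act (h a) (v (τ.symm a)) := fun v a => by
    rw [← mono_apply, ← mono_apply, e]
  have hσ : σ = τ := by
    refine Equiv.symm_bijective.injective (Equiv.ext fun a => ?_)
    by_contra hne
    have h1 := hv (Pi.single (σ.symm a) (Pi.single 0 1)) a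
    rw [Pi.single_eq_same, Pi.single_eq_of_ne (Ne.symm hne), map_zero] at h1
    have := congrFun ((LinearEquiv.map_eq_zero_iff _).1 h1) 0
    simp at this
  refine ⟨funext fun a => act_injective (LinearEquiv.ext fun w => ?_), hσ⟩
  have h1 := hv (fun _ => w) a
  exact h1

/-- The block of `a`. -/
def blk (a : ι) : Submodule F (Vec ι F) := LinearMap.range (LinearMap.single F (fun _ : ι => Fin 2 → F) a)

theorem single_mem_blk (a : ι) (w : Fin 2 → F) : (Pi.single a w : Vec ι F) ∈ blk a := ⟨w, rfl⟩

theorem mem_blk {a : ι} {v : Vec ι F} : v ∈ blk a ↔ ∀ b, b ≠ a → v b = 0 := by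
  constructor
  · rintro ⟨w, rfl⟩ b hb
    exact Pi.single_eq_of_ne hb _
  · intro h
    refine ⟨v a, funext fun b => ?_⟩
    by_cases hb : b = a
    · subst hb; simp
    · simp [hb, h b hb]

theorem eq_single_of_mem {a : ι} {v : Vec ι F} (h : v ∈ blk a) : v = Pi.single a (v a) := by
  funext b
  by_cases hb : b = a
  · subst hb; simp
  · rw [Pi.single_eq_of_ne hb, mem_blk.1 h b hb]

theorem finrank_blk (a : ι) : finrank F (blk (F := F) a) = 2 := by
  rw [blk, LinearMap.finrank_range_of_inj]
  · simp
  · intro w w' h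
    simpa using congrFun h a

theorem blk_injective {a b : ι} (h : (blk a : Submodule F (Vec ι F)) = blk b) : a = b := by
  by_contra hne
  have h1 := mem_blk.1 (h ▸ single_mem_blk a (Pi.single 0 1 : Fin 2 → F)) a hne
  rw [Pi.single_eq_same] at h1
  simpa using congrFun h1 0

/-- An element moving one block. -/
noncomputable def el (a : ι) (s : SL2) : Vec ι F ≃ₗ[F] Vec ι F := mono (Pi.mulSingle a s) 1

theorem el_apply (a : ι) (s : SL2) (v : Vec ι F) :
    el a s v = Function.update v a (act s (v a)) := by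
  funext b
  rw [el, mono_apply]
  by_cases hb : b = a
  · subst hb; rw [Pi.mulSingle_eq_same, Function.update_self]; rfl
  · rw [Pi.mulSingle_eq_of_ne hb, Function.update_of_ne hb, act_one]; rfl

theorem el_mul (a : ι) (s t : SL2) : el a (s * t) = el a s * el a t := by
  rw [el, el, el, mono_mul, Pi.mulSingle_mul]
  rfl

theorem el_one (a : ι) : el a (1 : SL2) = (1 : Vec ι F ≃ₗ[F] Vec ι F) := by
  rw [el, Pi.mulSingle_one, mono_one]

theorem el_injective (a : ι) : Function.Injective (el a : SL2 → _) := fun s t h =>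
  Pi.mulSingle_injective (M := fun _ : ι => SL2) a (mono_inj h).1

/-- `el a` as a homomorphism. -/
noncomputable def elHom (a : ι) : SL2 →* (Vec ι F ≃ₗ[F] Vec ι F) where
  toFun := el a
  map_one' := el_one a
  map_mul' := el_mul a

theorem el_sub_mem (a : ι) (s : SL2) (v : Vec ι F) : el a s v - v ∈ blk a :=
  mem_blk.2 fun b hb => by rw [el_apply, Pi.sub_apply, Function.update_of_ne hb, sub_self]

theorem mono_conj_el (g : ι → SL2) (σ : Perm ι) (a : ι) (s : SL2) :
    mono g σ * el a s * (mono g σ)⁻¹ = el (σ a) (g (σ a) * s * (g (σ a))⁻¹) := by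
  rw [mul_inv_eq_iff_eq_mul]
  refine LinearEquiv.ext fun v => funext fun c => ?_
  simp only [LinearEquiv.mul_apply]
  rw [mono_apply, el_apply, el_apply]
  by_cases hc : c = σ a
  · subst hc
    rw [symm_apply_apply, Function.update_self, Function.update_self, mono_apply, symm_apply_apply,
      ← act_mul, ← act_mul, inv_mul_cancel_right]
  · have : σ.symm c ≠ a := fun h => hc (by rw [← h, apply_symm_apply])
    rw [Function.update_of_ne this, Function.update_of_ne hc, mono_apply]

/-- The involution negating one block. -/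
noncomputable def zb (a : ι) : Vec ι F ≃ₗ[F] Vec ι F := el a (-1)

theorem zb_mul_self (a : ι) : (zb a : Vec ι F ≃ₗ[F] Vec ι F) * zb a = 1 := by
  rw [zb, ← el_mul, show ((-1 : SL2) * -1) = 1 by simp, el_one]

theorem zb_iso (a : ι) : IsIso formSum (zb (F := F) a) := mono_iso _ _

theorem moved_zb (h2 : (2 : F) ≠ 0) (a : ι) : moved (zb (F := F) a) = blk a := by
  refine le_antisymm (moved_le (el_sub_mem a _)) fun v hv => mem_moved_of_neg h2 ?_
  rw [zb, el_apply, eq_single_of_mem hv, Pi.single_eq_same, act_neg_one]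
  funext b
  by_cases hb : b = a
  · subst hb; simp
  · simp [hb]

theorem zb_fix_iff (h2 : (2 : F) ≠ 0) (a : ι) (v : Vec ι F) : zb a v = v ↔ v a = 0 := by
  rw [zb, el_apply, act_neg_one]
  constructor
  · intro h
    have h1 := congrFun h a
    rw [Function.update_self, neg_eq_iff_add_eq_zero, ← two_smul F] at h1
    exact (smul_eq_zero.1 h1).resolve_left h2
  · intro h
    rw [h, neg_zero, ← h, Function.update_eq_self]

theorem eq_el_of_moved {a : ι} {x : Vec ι F ≃ₗ[F] Vec ι F} (hx : IsIso formSum x)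
    (h : ∀ v, x v - v ∈ blk a) : ∃ s : SL2, x = el a s := by
  have hfix : ∀ v : Vec ι F, v a = 0 → x v = v := fun v hv =>
    (fix_iff isSymp_formSum hx).2 fun w hw => by
      rw [eq_single_of_mem (moved_le h hw)]
      refine isSymp_formSum.swap ?_
      rw [formSum_single_right, hv, map_zero, LinearMap.zero_apply]
  let L : (Fin 2 → F) →ₗ[F] (Fin 2 → F) :=
    (LinearMap.proj a).comp ((x : Vec ι F →ₗ[F] Vec ι F).comp (LinearMap.single F _ a))
  have hL : ∀ w, x (Pi.single a w) = Pi.single a (L w) := fun w => by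
    have hmem : x (Pi.single a w) ∈ blk a := by
      simpa using (blk a).add_mem (h (Pi.single a w)) (single_mem_blk a w)
    exact eq_single_of_mem hmem
  obtain ⟨s, hs⟩ := exists_sl L fun u v => by
    have := hx (Pi.single a u) (Pi.single a v)
    rw [hL, hL, formSum_single_right, formSum_single_right, Pi.single_eq_same,
      Pi.single_eq_same] at this
    exact this
  refine ⟨s, LinearEquiv.ext fun v => ?_⟩
  conv_lhs => rw [show v = Pi.single a (v a) + Function.update v a 0 by
    funext b; by_cases hb : b = a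
    · subst hb; simp
    · simp [hb]]
  rw [map_add, hL, hfix _ (Function.update_self a 0 v), el_apply, ← hs]
  funext b
  by_cases hb : b = a
  · subst hb; simp
  · simp [hb]

theorem exists_mono_of_blk {x : Vec ι F ≃ₗ[F] Vec ι F} (hx : IsIso formSum x) (π : ι → ι)
    (hπ : ∀ a, ∀ v ∈ blk (F := F) a, x v ∈ blk (π a)) :
    ∃ g σ, (∀ a, σ a = π a) ∧ x = mono g σ := by
  have hinj : Function.Injective π := by
    intro a b hab
    refine blk_injective (F := F) ?_
    have h1 : ∀ c, (blk c : Submodule F (Vec ι F)).map (x : Vec ι F →ₗ[F] Vec ι F) = blk (π c) :=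
      fun c => Submodule.eq_of_le_of_finrank_eq (by rintro _ ⟨v, hv, rfl⟩; exact hπ c v hv)
        (by rw [LinearEquiv.finrank_map_eq, finrank_blk, finrank_blk])
    refine Submodule.map_injective_of_injective (f := (x : Vec ι F →ₗ[F] Vec ι F)) x.injective ?_
    rw [h1, h1, hab]
  let σ : Perm ι := Equiv.ofBijective π (Finite.injective_iff_bijective.1 hinj)
  have hσ : ∀ a, σ a = π a := fun a => rfl
  let L : ι → (Fin 2 → F) →ₗ[F] (Fin 2 → F) := fun c =>
    (LinearMap.proj c).comp ((x : Vec ι F →ₗ[F] Vec ι F).comp (LinearMap.single F _ (σ.symm c)))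
  have hL : ∀ a w, x (Pi.single a w) = Pi.single (σ a) (L (σ a) w) := fun a w => by
    refine (eq_single_of_mem (hπ a _ (single_mem_blk a w))).trans ?_
    simp only [L, LinearMap.comp_apply, LinearMap.proj_apply, LinearEquiv.coe_coe,
      LinearMap.coe_single, symm_apply_apply]
    rw [hσ]
  have hg : ∀ c, ∃ s : SL2, ∀ v, act s v = L c v := fun c => exists_sl _ fun u v => by
    have h := hx (Pi.single (σ.symm c) u) (Pi.single (σ.symm c) v)
    rw [hL, hL, apply_symm_apply, formSum_single_right, formSum_single_right, Pi.single_eq_same,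
      Pi.single_eq_same] at h
    exact h
  choose g hg using hg
  refine ⟨g, σ, hσ, LinearEquiv.toLinearMap_injective (LinearMap.pi_ext fun a w => ?_)⟩
  show x (Pi.single a w) = mono g σ (Pi.single a w)
  rw [mono_single, hL, hg]

theorem exists_mono_of_commute (h2 : (2 : F) ≠ 0) {x : Vec ι F ≃ₗ[F] Vec ι F} (hx : IsIso formSum x)
    (h : ∀ a, x * zb a = zb a * x) : ∃ g, x = mono g 1 := by
  obtain ⟨g, σ, hσ, rfl⟩ := exists_mono_of_blk hx id fun a v hv => by
    rw [← moved_zb h2] at hv
    have h1 := moved_conj x (zb a) hv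
    rwa [h a, mul_inv_cancel_right, moved_zb h2] at h1
  refine ⟨g, ?_⟩
  rw [show σ = 1 from Equiv.ext hσ]

/-- The monomial group over a group of permutations. -/
noncomputable def monoSub (S : Subgroup SL2) (T : Subgroup (Perm ι)) :
    Subgroup (Vec ι F ≃ₗ[F] Vec ι F) where
  carrier := {x | ∃ g σ, (∀ a, g a ∈ S) ∧ σ ∈ T ∧ x = mono g σ}
  one_mem' := ⟨1, 1, fun _ => S.one_mem, T.one_mem, mono_one.symm⟩
  mul_mem' := by
    rintro x y ⟨g, σ, hg, hσ, rfl⟩ ⟨h, τ, hh, hτ, rfl⟩
    exact ⟨_, _, fun a => S.mul_mem (hg a) (hh _), T.mul_mem hσ hτ, mono_mul g h σ τ⟩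
  inv_mem' := by
    rintro x ⟨g, σ, hg, hσ, rfl⟩
    exact ⟨_, _, fun a => S.inv_mem (hg _), T.inv_mem hσ, mono_inv g σ⟩

theorem mono_mem_monoSub {S : Subgroup SL2} {T : Subgroup (Perm ι)} {g : ι → SL2} {σ : Perm ι} :
    mono g σ ∈ monoSub S T ↔ (∀ a, g a ∈ S) ∧ σ ∈ T := by
  refine ⟨?_, fun h => ⟨g, σ, h.1, h.2, rfl⟩⟩
  rintro ⟨g', σ', hg, hσ, e⟩
  obtain ⟨rfl, rfl⟩ := mono_inj e
  exact ⟨hg, hσ⟩

theorem el_mem_monoSub {S : Subgroup SL2} (T : Subgroup (Perm ι)) (a : ι) {s : SL2} (hs : s ∈ S) :
    el a s ∈ monoSub S T :=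
  mono_mem_monoSub.2 ⟨fun b => by
    by_cases hb : b = a
    · subst hb; simpa using hs
    · rw [Pi.mulSingle_eq_of_ne hb]; exact S.one_mem, T.one_mem⟩

theorem monoSub_iso {S : Subgroup SL2} {T : Subgroup (Perm ι)} {x : Vec ι F ≃ₗ[F] Vec ι F}
    (hx : x ∈ monoSub S T) : IsIso formSum x := by
  obtain ⟨g, σ, -, -, rfl⟩ := hx; exact mono_iso g σ

/-- Base homomorphism. -/
noncomputable def baseHom : (ι → SL2) →* (Vec ι F ≃ₗ[F] Vec ι F) where
  toFun g := mono g 1
  map_one' := mono_one
  map_mul' g h := (mono_mul g h 1 1).symm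

theorem isPGroup_monoSub {p : ℕ} [Fact p.Prime] {S : Subgroup SL2} {T : Subgroup (Perm ι)}
    (hS : IsPGroup p S) (hT : IsPGroup p T) : IsPGroup p (monoSub S T) := by
  rintro ⟨x, g, σ, hg, hσ, rfl⟩
  obtain ⟨k, hk⟩ := hT ⟨σ, hσ⟩
  have hk' : σ ^ p ^ k = 1 := by
    have h := congrArg Subtype.val hk
    simpa using h
  have hpow : ∀ m : ℕ, ∃ g' : ι → SL2, (∀ a, g' a ∈ S) ∧ (mono g σ) ^ m = mono g' (σ ^ m) := by
    intro m
    induction m with
    | zero => exact ⟨1, fun _ => S.one_mem, by rw [pow_zero, pow_zero, mono_one]⟩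
    | succ m ih =>
      obtain ⟨g', hg', he⟩ := ih
      exact ⟨_, fun a => S.mul_mem (hg' a) (hg _), by rw [pow_succ, he, mono_mul, pow_succ]⟩
  obtain ⟨g', hg', he⟩ := hpow (p ^ k)
  rw [hk'] at he
  haveI : Fintype ι := inferInstance
  obtain ⟨e, hee⟩ : ∃ e, ∀ a, g' a ^ p ^ e = 1 := by
    choose e he' using fun a => hS ⟨g' a, hg' a⟩
    refine ⟨Finset.univ.sup e, fun a => ?_⟩
    have h := congrArg Subtype.val (he' a)
    simp only [SubmonoidClass.coe_pow, OneMemClass.coe_one] at h
    rw [show Finset.univ.sup e = e a + (Finset.univ.sup e - e a) by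
      have := Finset.le_sup (f := e) (Finset.mem_univ a); omega, pow_add, pow_mul, h, one_pow]
  refine ⟨k + e, Subtype.ext ?_⟩
  show (mono g σ) ^ p ^ (k + e) = 1
  rw [pow_add, pow_mul, he, show mono g' 1 = baseHom g' from rfl, ← map_pow,
    show g' ^ p ^ e = 1 from funext hee, map_one]

/-- The plane of the transposition `(a b)` twisted by `h`. -/
theorem involution_cases (h2 : (2 : F) ≠ 0) {S : Subgroup SL2} {g : ι → SL2} {σ : Perm ι}
    (hsq : mono g σ * mono g σ = 1) (hfin : finrank F (moved (mono g σ)) = 2) :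
    (σ = 1 ∧ ∃ a, mono g σ = zb a) ∨
      ∃ a b, a ≠ b ∧ σ = swap a b ∧ (∀ c, c ≠ a → c ≠ b → g c = 1) ∧ g a * g b = 1 := by
  rw [mono_mul, ← mono_one] at hsq
  obtain ⟨hgg, hσσ⟩ := mono_inj hsq
  by_cases hσ : σ = 1
  · left
    subst hσ
    have hpm : ∀ a, g a = 1 ∨ g a = -1 := fun a => by
      have h := congrFun hgg a
      rw [show ((1 : Perm ι).symm a) = a from rfl] at h
      rcases CfsgLib.Classical.Two.eq_one_or_neg_one_of_sq h2 (g a) h with h' | h'
      · exact Or.inl (Subtype.ext h')
      · exact Or.inr (Subtype.ext (h'.trans (by simp)))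
    have hblk : ∀ a, g a = -1 → ∀ w, (Pi.single a w : Vec ι F) ∈ moved (mono g 1) := fun a ha w => by
      refine mem_moved_of_neg h2 ?_
      rw [mono_single, Equiv.Perm.coe_one, id_eq, ha, act_neg_one, Pi.single_neg]
    obtain ⟨a, ha⟩ : ∃ a, g a = -1 := by
      by_contra! h
      have : g = 1 := funext fun a => (hpm a).resolve_right (h a)
      rw [this, mono_one] at hfin
      have h0 : moved (1 : Vec ι F ≃ₗ[F] Vec ι F) = ⊥ := le_bot_iff.1 (moved_le fun v => by
        rw [show (1 : Vec ι F ≃ₗ[F] Vec ι F) v = v from rfl, sub_self]; exact zero_mem _)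
      rw [h0, finrank_bot] at hfin
      omega
    refine ⟨rfl, a, ?_⟩
    have hle : blk a ≤ moved (mono g 1) := by
      intro v hv; rw [eq_single_of_mem hv]; exact hblk a ha _
    have heq : blk a = moved (mono g 1) :=
      Submodule.eq_of_le_of_finrank_eq hle (by rw [finrank_blk, hfin])
    rw [zb, el]
    congr 1
    funext b
    by_cases hb : b = a
    · subst hb; rw [Pi.mulSingle_eq_same, ha]
    · rw [Pi.mulSingle_eq_of_ne hb]
      refine (hpm b).resolve_right fun hb' => ?_
      have h1 := mem_blk.1 (heq ▸ hblk b hb' (Pi.single 0 1)) b hb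
      rw [Pi.single_eq_same] at h1
      simpa using congrFun h1 0
  · right
    obtain ⟨a, ha⟩ : ∃ a, σ a ≠ a := by
      by_contra! h; exact hσ (Equiv.ext h)
    set b := σ a
    have hba : σ b = a := by
      show (σ * σ) a = a
      rw [hσσ]; rfl
    let Φ : (Fin 2 → F) →ₗ[F] Vec ι F :=
      (LinearMap.single F (fun _ : ι => Fin 2 → F) b).comp (act (g b)).toLinearMap -
        LinearMap.single F (fun _ : ι => Fin 2 → F) a
    have hΦ : ∀ w, Φ w = mono g σ (Pi.single a w) - Pi.single a w := fun w => by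
      rw [mono_single]; rfl
    have hinj : Function.Injective Φ := fun w w' h => by
      have := congrFun h a
      simpa [Φ, Pi.single_eq_of_ne (Ne.symm ha)] using this
    have heq : LinearMap.range Φ = moved (mono g σ) := by
      refine Submodule.eq_of_le_of_finrank_eq ?_ (by
        rw [LinearMap.finrank_range_of_inj hinj, hfin]; simp)
      rintro _ ⟨w, rfl⟩
      rw [hΦ]; exact sub_mem_moved _ _
    have hzero : ∀ v : Vec ι F, ∀ c, c ≠ a → c ≠ b → (mono g σ v) c = v c := fun v c hca hcb => by
      obtain ⟨w, hw⟩ := heq ▸ sub_mem_moved (mono g σ) v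
      have := congrFun hw c
      simp [Φ, hca, hcb] at this
      exact (sub_eq_zero.1 this.symm)
    have hfixc : ∀ c, c ≠ a → c ≠ b → σ.symm c = c ∧ g c = 1 := by
      intro c hca hcb
      have h1 : σ.symm c = c := by
        by_contra hne
        have h := hzero (Pi.single c (Pi.single 0 1)) c hca hcb
        rw [mono_apply, Pi.single_eq_of_ne hne, map_zero, Pi.single_eq_same] at h
        simpa using congrFun h 0
      refine ⟨h1, act_injective (LinearEquiv.ext fun w => ?_)⟩
      have h := hzero (fun _ => w) c hca hcb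
      rw [mono_apply] at h
      rw [h, act_one]
    refine ⟨a, b, Ne.symm ha, Equiv.ext fun c => ?_, fun c hca hcb => (hfixc c hca hcb).2, ?_⟩
    · by_cases hca : c = a
      · subst hca; rw [swap_apply_left]
      by_cases hcb : c = b
      · subst hcb; rw [swap_apply_right, hba]
      rw [swap_apply_of_ne_of_ne hca hcb]
      conv_lhs => rw [← (hfixc c hca hcb).1]
      exact apply_symm_apply σ c
    · have h := congrFun hgg a
      rw [show σ.symm a = b by rw [← hba, symm_apply_apply]] at h
      exact h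

end CfsgLib.HallGen.Pronormal
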