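import Cfsg.Agent.Lib.HallGen.Pronormal.SpModel
import Cfsg.Agent.Lib.HallGen.Pronormal.QuatSL2
import Cfsg.Agent.Lib.LocalEvenB.AltSylowTwo

/-!
# The normalizer of a Sylow 2-subgroup of `Sp₂ₙ(q)`, `n` a power of two, `q` odd

The monomial group over a Sylow subgroup of `SL₂(q)` and a transitive Sylow subgroup of `Sym(n)` is a Sylow
subgroup, and its normalizer is the product of it with the diagonal copy of the normalizer in `SL₂(q)`.
-/

set_option autoImplicit false
set_option linter.all false

namespace CfsgLib.HallGen.Pronormal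

open Equiv Module CfsgLib.PLocal.SLTwo

universe u v

section PermSylow

variable {ι : Type v} [Fintype ι] [DecidableEq ι]

theorem sylow_perm_transitive {k : ℕ} (hι : Fintype.card ι = 2 ^ k) (T : Sylow 2 (Perm ι)) (a b : ι) :
    ∃ σ ∈ (T : Subgroup (Perm ι)), σ a = b := by
  classical
  haveI : Fact (Nat.Prime 2) := ⟨Nat.prime_two⟩
  set O := MulAction.orbit (T : Subgroup (Perm ι)) a
  suffices h : O = Set.univ by
    obtain ⟨σ, hσ⟩ : b ∈ O := h ▸ Set.mem_univ b
    exact ⟨σ, σ.2, hσ⟩
  set n := 2 ^ k with hn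
  have hn0 : 0 < n := by positivity
  set st := MulAction.stabilizer (Perm ι) a
  have hst : Nat.card st = (n - 1).factorial := by
    have h : st.index = n := by
      rw [MulAction.index_stabilizer_of_transitive, Nat.card_eq_fintype_card, hι]
    have h1 := st.card_mul_index
    rw [h, Nat.card_perm, Nat.card_eq_fintype_card (α := ι), hι, ← Nat.mul_factorial_pred hn0.ne',
      mul_comm] at h1
    exact Nat.eq_of_mul_eq_mul_left hn0 h1
  set Ta := MulAction.stabilizer (T : Subgroup (Perm ι)) a
  have hTa : Nat.card Ta ∣ (n - 1).factorial := by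
    rw [← hst]
    exact Subgroup.card_dvd_of_injective
      (((T : Subgroup (Perm ι)).subtype.comp Ta.subtype).codRestrict st fun x => x.2)
      (fun x y h => Subtype.ext (Subtype.ext (congrArg (fun z : st => (z : Perm ι)) h)))
  have hT : Nat.card (T : Subgroup (Perm ι)) = 2 ^ n.factorial.factorization 2 := by
    rw [T.card_eq_multiplicity, Nat.card_perm, Nat.card_eq_fintype_card, hι]
  obtain ⟨e, he⟩ := IsPGroup.iff_card.1 (T.isPGroup'.to_subgroup Ta)
  have hmul : Nat.card O * Nat.card Ta = 2 ^ n.factorial.factorization 2 := by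
    rw [← hT, ← Ta.card_mul_index, mul_comm]
    congr 1
    exact Nat.card_congr (MulAction.orbitEquivQuotientStabilizer _ a)
  have hk : n.factorial.factorization 2 = k + (n - 1).factorial.factorization 2 := by
    rw [← Nat.mul_factorial_pred hn0.ne', Nat.factorization_mul hn0.ne' (Nat.factorial_ne_zero _),
      Finsupp.add_apply, hn, Nat.prime_two.factorization_pow, Finsupp.single_eq_same]
  have hele : e ≤ (n - 1).factorial.factorization 2 := by
    rw [← Nat.prime_two.pow_dvd_iff_le_factorization (Nat.factorial_ne_zero _), ← he]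
    exact hTa
  refine Set.eq_univ_of_forall fun c => ?_
  by_contra hc
  have hlt : Nat.card O < n := by
    rw [← hι, Nat.card_eq_fintype_card]
    exact Fintype.card_subtype_lt (p := fun x => x ∈ O) hc
  rw [he] at hmul
  have hle2 : k + e ≤ n.factorial.factorization 2 := by omega
  have : n * 2 ^ e ≤ Nat.card O * 2 ^ e := by
    rw [hmul]
    refine le_trans (le_of_eq ?_) (Nat.pow_le_pow_right two_pos hle2)
    rw [hn, pow_add]
  have := Nat.le_of_mul_le_mul_right this (by positivity)
  omega

theorem sylow_perm_selfNormalizing (T : Sylow 2 (Perm ι)) :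
    Subgroup.normalizer ((T : Subgroup (Perm ι)) : Set (Perm ι)) = T := by
  haveI : Fact (Nat.Prime 2) := ⟨Nat.prime_two⟩
  refine le_antisymm (fun g hg => ?_) Subgroup.le_normalizer
  obtain ⟨e, m, hm, hem⟩ := Nat.exists_eq_two_pow_mul_odd (n := orderOf g) (orderOf_pos g).ne'
  have h1 : g ^ 2 ^ e = 1 := by
    refine CfsgLib.LocalEvenB.AltSylowTwo.odd_normalizer_perm_eq_one T ?_
      fun s => Subgroup.mem_normalizer_iff.1 (pow_mem hg _) s
    have : orderOf (g ^ 2 ^ e) ∣ m := orderOf_dvd_of_pow_eq_one (by rw [← pow_mul, ← hem, pow_orderOf_eq_one])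
    exact Odd.of_dvd_nat hm this
  have hp : IsPGroup 2 (Subgroup.zpowers g) := by
    rw [IsPGroup.iff_card, Nat.card_zpowers]
    exact ⟨_, ((Nat.dvd_prime_pow Nat.prime_two).1 (orderOf_dvd_of_pow_eq_one h1)).choose_spec.2⟩
  have hmem : g ∈ Subgroup.zpowers g ⊓ Subgroup.normalizer ((T : Subgroup (Perm ι)) : Set (Perm ι)) :=
    ⟨Subgroup.mem_zpowers g, hg⟩
  exact ((SetLike.ext_iff.1 (IsPGroup.inf_normalizer_sylow hp T) g).1 hmem).2

end PermSylow

variable {F : Type u} [Field F] [Fintype F] {ι : Type v} [Fintype ι] [DecidableEq ι]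

/-- The diagonal element. -/
noncomputable def dg (n : S2 F) : Vec ι F ≃ₗ[F] Vec ι F := mono (fun _ => n) 1

theorem dg_mul (n m : S2 F) : (dg (n * m) : Vec ι F ≃ₗ[F] Vec ι F) = dg n * dg m := by
  rw [dg, dg, dg, mono_mul]
  rfl

theorem dg_one : (dg (1 : S2 F) : Vec ι F ≃ₗ[F] Vec ι F) = 1 := mono_one

/-- `dg` as a homomorphism. -/
noncomputable def dgHom : S2 F →* (Vec ι F ≃ₗ[F] Vec ι F) where
  toFun := dg
  map_one' := dg_one
  map_mul' := dg_mul

theorem dg_pow (n : S2 F) (k : ℕ) : (dg (n ^ k) : Vec ι F ≃ₗ[F] Vec ι F) = dg n ^ k :=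
  map_pow dgHom n k

theorem dg_inv (n : S2 F) : (dg n⁻¹ : Vec ι F ≃ₗ[F] Vec ι F) = (dg n)⁻¹ := map_inv dgHom n

theorem dg_conj_mem (S : Subgroup (S2 F)) (T : Subgroup (Perm ι)) {n : S2 F}
    (hn : n ∈ Subgroup.normalizer (S : Set (S2 F))) {y : Vec ι F ≃ₗ[F] Vec ι F}
    (hy : y ∈ monoSub S T) : dg n * y * (dg n)⁻¹ ∈ monoSub S T := by
  obtain ⟨g, σ, hg, hσ, rfl⟩ := hy
  rw [← dg_inv, dg, dg, mono_mul, mono_mul, one_mul, mul_one]
  exact mono_mem_monoSub.2 ⟨fun a => (Subgroup.mem_normalizer_iff.1 hn _).1 (hg _), hσ⟩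

theorem neg_one_mem_sylow (hodd : Odd (Fintype.card F)) (S : Sylow 2 (S2 F)) : (-1 : S2 F) ∈ S := by
  obtain ⟨y, hy, hyy⟩ := exists_sq_neg_one hodd S
  exact hyy ▸ S.mul_mem hy hy

theorem neg_one_ne_one (h2 : (2 : F) ≠ 0) : (-1 : S2 F) ≠ 1 := fun h => by
  have h' := congrArg (fun g : S2 F => g.1 0 0) h
  simp at h'
  exact h2 (by linear_combination -h')

theorem exists_diag_of_normalize {k : ℕ} (hι : Fintype.card ι = 2 ^ k) (hodd : Odd (Fintype.card F))
    (S : Sylow 2 (S2 F)) (T : Sylow 2 (Perm ι)) {x : Vec ι F ≃ₗ[F] Vec ι F}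
    (hx : IsIso formSum x)
    (hn : ∀ y ∈ monoSub (S : Subgroup (S2 F)) (T : Subgroup (Perm ι)),
      x * y * x⁻¹ ∈ monoSub (S : Subgroup (S2 F)) (T : Subgroup (Perm ι))) :
    ∃ n ∈ Subgroup.normalizer ((S : Subgroup (S2 F)) : Set (S2 F)),
      x * (dg n)⁻¹ ∈ monoSub (S : Subgroup (S2 F)) (T : Subgroup (Perm ι)) := by
  classical
  have h2 := two_ne_zero_of_odd_card hodd
  obtain ⟨s4, hs4, hs44⟩ := exists_sq_neg_one hodd S
  have hblock : ∀ a, ∃ b, ∀ v ∈ blk (F := F) a, x v ∈ blk b := by
    intro a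
    obtain ⟨g, σ, hg, hσ, hy⟩ := hn (zb a) (el_mem_monoSub _ a (neg_one_mem_sylow hodd S))
    have hyy : mono g σ * mono g σ = 1 := by
      rw [← hy, show x * zb a * x⁻¹ * (x * zb a * x⁻¹) = x * (zb a * zb a) * x⁻¹ by group,
        zb_mul_self, mul_one, mul_inv_cancel]
    have hfin : finrank F (moved (mono g σ)) = 2 := by
      rw [← hy, finrank_moved_conj, moved_zb h2, finrank_blk]
    have hmove : ∀ v ∈ blk (F := F) a, x v ∈ moved (mono g σ) := fun v hv => by
      rw [← hy]; exact moved_conj x _ (by rw [moved_zb h2]; exact hv)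
    rcases involution_cases h2 (S := (S : Subgroup (S2 F))) hyy hfin with
      ⟨-, b, hb⟩ | ⟨b, c, hbc, rfl, hgo, hgbc⟩
    · exact ⟨b, fun v hv => by rw [← moved_zb h2 b, ← hb]; exact hmove v hv⟩
    · exfalso
      obtain ⟨g', σ', hg', hσ', he⟩ := hn (el a s4) (el_mem_monoSub _ a hs4)
      set e := x * el a s4 * x⁻¹ with hedef
      have hemoved : ∀ v, e v - v ∈ moved (mono g (swap b c)) := fun v => by
        have h := hmove _ (el_sub_mem a s4 (x⁻¹ v))
        rw [map_sub, apply_inv_apply'] at h
        exact h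
      have hy0 : ∀ v : Vec ι F, ∀ d, d ≠ b → d ≠ c → mono g (swap b c) v d = v d := fun v d h1 h3 => by
        rw [mono_apply, hgo d h1 h3, act_one, symm_swap, swap_apply_of_ne_of_ne h1 h3]
      have hm0 : ∀ w ∈ moved (mono g (swap b c)), ∀ d, d ≠ b → d ≠ c → w d = 0 := by
        rintro _ ⟨u, rfl⟩ d h1 h3
        simp [hy0 u d h1 h3]
      have hfixc : ∀ d, d ≠ b → d ≠ c → σ'.symm d = d ∧ g' d = 1 := by
        intro d h1 h3
        have hzero : ∀ v, e v d = v d := fun v => sub_eq_zero.1 (hm0 _ (hemoved v) d h1 h3)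
        have hd : σ'.symm d = d := by
          by_contra hne
          have h := hzero (Pi.single d (Pi.single 0 1))
          rw [he, mono_apply, Pi.single_eq_of_ne hne, map_zero, Pi.single_eq_same] at h
          simpa using congrFun h 0
        refine ⟨hd, act_injective (LinearEquiv.ext fun w => ?_)⟩
        have h := hzero (fun _ => w)
        rw [he, mono_apply] at h
        rw [h, act_one]
      have hgcb : g c * g b = 1 := by
        rw [eq_inv_of_mul_eq_one_right hgbc, inv_mul_cancel]
      let u : (Fin 2 → F) → Vec ι F := fun w => Pi.single c w + Pi.single b (act (g b) w)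
      have hu : ∀ w, e (u w) = u w := by
        intro w
        refine (fix_iff isSymp_formSum (he ▸ mono_iso g' σ')).2 fun z hz => ?_
        refine (fix_iff isSymp_formSum (mono_iso g (swap b c))).1 ?_ z (moved_le hemoved hz)
        simp only [u, map_add]
        rw [mono_single, mono_single, swap_apply_right, swap_apply_left, ← act_mul, hgcb, act_one,
          add_comm]
      have hσ'cases : σ'.symm b = b ∨ σ'.symm b = c := by
        by_contra! h
        have := (hfixc _ h.1 h.2).1
        exact h.1 (σ'.symm.injective this)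
      have hub : ∀ w, u w b = act (g b) w := fun w => by simp [u, hbc]
      have huc : ∀ w, u w c = w := fun w => by simp [u, Ne.symm hbc]
      rcases hσ'cases with hcase | hcase
      · have hcc : σ'.symm c = c := by
          by_contra hne
          rcases eq_or_ne (σ'.symm c) b with h | h
          · exact hbc (σ'.symm.injective (hcase.trans h.symm))
          · exact hne (σ'.symm.injective (hfixc _ h hne).1)
        have h1 : g' c = 1 := act_injective (LinearEquiv.ext fun w => by
          have h := congrFun (hu w) c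
          rw [he, mono_apply, hcc, huc] at h
          rw [h, act_one])
        have h3 : g' b = 1 := act_injective (LinearEquiv.ext fun w => by
          have h := congrFun (hu (act (g b)⁻¹ w)) b
          rw [he, mono_apply, hcase, hub, ← act_mul (g b), mul_inv_cancel, act_one] at h
          rw [h, act_one])
        have he1 : e = 1 := by
          rw [he, ← mono_one]
          have hgg : g' = 1 := funext fun d => by
            by_cases hdb : d = b
            · subst hdb; exact h3
            by_cases hdc : d = c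
            · subst hdc; exact h1
            exact (hfixc d hdb hdc).2
          have hss : σ'.symm = (1 : Perm ι).symm := Equiv.ext fun d => by
            show σ'.symm d = d
            by_cases hdb : d = b
            · subst hdb; exact hcase
            by_cases hdc : d = c
            · subst hdc; exact hcc
            exact (hfixc d hdb hdc).1
          rw [hgg, Equiv.symm_bijective.injective hss]
        rw [hedef, conj_eq_one_iff] at he1
        have h := el_injective a (he1.trans (el_one a).symm)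
        rw [h, one_mul] at hs44
        exact neg_one_ne_one h2 hs44.symm
      · have hcc : σ'.symm c = b := by
          by_contra hne
          rcases eq_or_ne (σ'.symm c) c with h | h
          · exact hbc (σ'.symm.injective (hcase.trans h.symm))
          · exact h (σ'.symm.injective (hfixc _ hne h).1)
        have h1 : g' b = g b := act_injective (LinearEquiv.ext fun w => by
          have h := congrFun (hu w) b
          rwa [he, mono_apply, hcase, huc, hub] at h)
        have h3 : g' c = g c := act_injective (LinearEquiv.ext fun w => by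
          have h := congrFun (hu (act (g b)⁻¹ w)) c
          rw [he, mono_apply, hcc, hub, huc, ← act_mul (g b), mul_inv_cancel, act_one] at h
          rw [h, eq_inv_of_mul_eq_one_right hgbc])
        have hey : e = mono g (swap b c) := by
          rw [he]
          have hgg : g' = g := funext fun d => by
            by_cases hdb : d = b
            · subst hdb; exact h1
            by_cases hdc : d = c
            · subst hdc; exact h3
            rw [(hfixc d hdb hdc).2, hgo d hdb hdc]
          have hss : σ'.symm = (swap b c).symm := Equiv.ext fun d => by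
            rw [symm_swap]
            by_cases hdb : d = b
            · subst hdb; rw [swap_apply_left]; exact hcase
            by_cases hdc : d = c
            · subst hdc; rw [swap_apply_right]; exact hcc
            rw [swap_apply_of_ne_of_ne hdb hdc]; exact (hfixc d hdb hdc).1
          rw [hgg, Equiv.symm_bijective.injective hss]
        rw [← hy, hedef, mul_left_inj, mul_right_inj, zb] at hey
        have h := el_injective a hey
        rw [h] at hs44
        exact neg_one_ne_one h2 (hs44.symm.trans (by simp))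
  choose π hπ using hblock
  obtain ⟨g, σ, -, rfl⟩ := exists_mono_of_blk hx π hπ
  have hgS : ∀ a, g a ∈ Subgroup.normalizer ((S : Subgroup (S2 F)) : Set (S2 F)) := fun a =>
    CfsgLib.SL2Char.mem_normalizer_of_conj_mem fun s hs => by
      have h := hn _ (el_mem_monoSub _ (σ.symm a) hs)
      rw [mono_conj_el, apply_symm_apply] at h
      have h' := (mono_mem_monoSub.1 h).1 a
      rwa [Pi.mulSingle_eq_same] at h'
  have hσT : σ ∈ (T : Subgroup (Perm ι)) := by
    rw [← sylow_perm_selfNormalizing T]
    refine CfsgLib.SL2Char.mem_normalizer_of_conj_mem fun τ hτ => ?_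
    have h := hn (mono 1 τ) (mono_mem_monoSub.2 ⟨fun _ => one_mem _, hτ⟩)
    rw [mono_inv, mono_mul, mono_mul] at h
    exact (mono_mem_monoSub.1 h).2
  have hone : mono (1 : ι → S2 F) σ ∈ monoSub (S : Subgroup (S2 F)) (T : Subgroup (Perm ι)) :=
    mono_mem_monoSub.2 ⟨fun _ => one_mem _, hσT⟩
  obtain ⟨a₀⟩ : Nonempty ι := Fintype.card_pos_iff.1 (hι ▸ pow_pos two_pos k)
  have hratio : ∀ a, g a * (g a₀)⁻¹ ∈ S := by
    intro a
    obtain ⟨τ, hτ, hτa⟩ := sylow_perm_transitive hι T a₀ a
    set W := monoSub (S : Subgroup (S2 F)) (T : Subgroup (Perm ι))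
    have h1 : mono 1 (σ⁻¹ * τ * σ) ∈ W := mono_mem_monoSub.2 ⟨fun _ => one_mem _,
      Subgroup.mul_mem _ (Subgroup.mul_mem _ (inv_mem hσT) hτ) hσT⟩
    have h := hn _ h1
    rw [mono_inv, mono_mul, mono_mul] at h
    have h' := (mono_mem_monoSub.1 h).1 a
    have e1 : σ ((σ * (σ⁻¹ * τ * σ)).symm a) = a₀ := by
      have : (σ * (σ⁻¹ * τ * σ)).symm a = σ.symm a₀ := by
        rw [symm_apply_eq, show σ * (σ⁻¹ * τ * σ) = τ * σ by group, Perm.mul_apply, apply_symm_apply,
          hτa]
      rw [this, apply_symm_apply]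
    simp only [e1] at h'
    simp at h'
    exact h'
  refine ⟨g a₀, hgS a₀, ?_⟩
  rw [← dg_inv, dg, mono_mul, mul_one]
  exact mono_mem_monoSub.2 ⟨hratio, hσT⟩

/-- The monomial group as a subgroup of the isometry group. -/
noncomputable def sylowSp (S : Subgroup (S2 F)) (T : Subgroup (Perm ι)) :
    Subgroup (isoGroup (formSum : LinearMap.BilinForm F (Vec ι F))) :=
  (monoSub S T).subgroupOf _

theorem dg_mem_isoGroup (n : S2 F) :
    (dg n : Vec ι F ≃ₗ[F] Vec ι F) ∈ isoGroup (formSum : LinearMap.BilinForm F (Vec ι F)) :=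
  mono_iso _ _

theorem exists_diag_of_mem_normalizer {k : ℕ} (hι : Fintype.card ι = 2 ^ k)
    (hodd : Odd (Fintype.card F)) (S : Sylow 2 (S2 F)) (T : Sylow 2 (Perm ι))
    {x : isoGroup (formSum : LinearMap.BilinForm F (Vec ι F))}
    (hx : x ∈ Subgroup.normalizer
      (sylowSp (S : Subgroup (S2 F)) (T : Subgroup (Perm ι)) : Set (isoGroup _))) :
    ∃ n ∈ Subgroup.normalizer ((S : Subgroup (S2 F)) : Set (S2 F)),
      (x : Vec ι F ≃ₗ[F] Vec ι F) * (dg n)⁻¹ ∈ monoSub (S : Subgroup (S2 F)) (T : Subgroup (Perm ι)) :=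
  exists_diag_of_normalize hι hodd S T x.2 fun y hy => by
    have h := (Subgroup.mem_normalizer_iff.1 hx ⟨y, monoSub_iso hy⟩).1 hy
    exact h

theorem isPGroup_sylowSp (S : Sylow 2 (S2 F)) (T : Sylow 2 (Perm ι)) :
    IsPGroup 2 (sylowSp (S : Subgroup (S2 F)) (T : Subgroup (Perm ι))) := by
  haveI : Fact (Nat.Prime 2) := ⟨Nat.prime_two⟩
  exact (isPGroup_monoSub S.isPGroup' T.isPGroup').comap_of_injective _ (Subgroup.subtype_injective _)

/-- The monomial group is a Sylow subgroup. -/
theorem exists_sylowSp {k : ℕ} (hι : Fintype.card ι = 2 ^ k) (hodd : Odd (Fintype.card F))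
    (S : Sylow 2 (S2 F)) (T : Sylow 2 (Perm ι)) :
    ∃ P : Sylow 2 (isoGroup (formSum : LinearMap.BilinForm F (Vec ι F))),
      (P : Subgroup _) = sylowSp (S : Subgroup (S2 F)) (T : Subgroup (Perm ι)) := by
  haveI : Fact (Nat.Prime 2) := ⟨Nat.prime_two⟩
  haveI : Finite (Vec ι F ≃ₗ[F] Vec ι F) := Finite.of_injective _ DFunLike.coe_injective
  obtain ⟨P, hP⟩ := (isPGroup_sylowSp S T).exists_le_sylow
  refine ⟨P, ?_⟩
  by_contra hne
  haveI := P.isPGroup'.isNilpotent
  set W := sylowSp (S : Subgroup (S2 F)) (T : Subgroup (Perm ι)) with hW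
  have hlt : W.subgroupOf (P : Subgroup _) < ⊤ := by
    rw [lt_top_iff_ne_top, Ne, Subgroup.subgroupOf_eq_top]
    exact fun h => hne (le_antisymm h hP)
  obtain ⟨x, hxn, hxW⟩ := SetLike.exists_of_lt (normalizerCondition_of_isNilpotent _ hlt)
  rw [← Subgroup.subgroupOf_normalizer_eq hP, Subgroup.mem_subgroupOf] at hxn
  rw [Subgroup.mem_subgroupOf] at hxW
  obtain ⟨n, hn, hmem⟩ := exists_diag_of_mem_normalizer hι hodd S T hxn
  set d : isoGroup (formSum : LinearMap.BilinForm F (Vec ι F)) := ⟨dg n, dg_mem_isoGroup n⟩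
  have hwd : (x : isoGroup (formSum : LinearMap.BilinForm F (Vec ι F))) * d⁻¹ ∈ W := hmem
  have hd : d ∈ (P : Subgroup _) := by
    have hxP : (x : isoGroup (formSum : LinearMap.BilinForm F (Vec ι F))) ∈ (P : Subgroup _) := x.2
    have h := mul_mem (inv_mem (hP hwd)) hxP
    rwa [_root_.mul_inv_rev, inv_inv, inv_mul_cancel_right] at h
  obtain ⟨e, he⟩ := P.isPGroup' ⟨d, hd⟩
  have hn2 : n ^ 2 ^ e = 1 := by
    have h := congrArg Subtype.val (congrArg Subtype.val he)
    simp only [SubmonoidClass.coe_pow, OneMemClass.coe_one, d] at h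
    rw [← dg_pow, dg, ← mono_one] at h
    obtain ⟨a₀⟩ : Nonempty ι := Fintype.card_pos_iff.1 (hι ▸ pow_pos two_pos k)
    exact congrFun (mono_inj h).1 a₀
  have hnS : n ∈ S := by
    have hp : IsPGroup 2 (Subgroup.zpowers n) := by
      rw [IsPGroup.iff_card, Nat.card_zpowers]
      exact ⟨_, ((Nat.dvd_prime_pow Nat.prime_two).1 (orderOf_dvd_of_pow_eq_one hn2)).choose_spec.2⟩
    exact ((SetLike.ext_iff.1 (IsPGroup.inf_normalizer_sylow hp S) n).1
      (Subgroup.mem_inf.2 ⟨Subgroup.mem_zpowers n, hn⟩)).2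
  refine hxW ?_
  have hdW : d ∈ W := mono_mem_monoSub.2 ⟨fun _ => hnS, one_mem _⟩
  have := W.mul_mem hwd hdW
  rwa [inv_mul_cancel_right] at this

end CfsgLib.HallGen.Pronormal
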