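import Cfsg.Agent.Lib.HallGen.Pronormal.PlaneTransvection
import Cfsg.Agent.Lib.HallGen.Pronormal.SpModel
import Cfsg.Agent.Lib.HallGen.Pronormal.QuatSL2

/-!
# No transvections above a monomial 2-group

A group `J` of isometries containing the quaternion pairs of all blocks and meeting the group of each block in
a `2`-group contains no transvection: the support of a transvection would shrink.
-/

set_option autoImplicit false
set_option linter.all false

namespace CfsgLib.HallGen.Pronormal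

open Equiv Module CfsgLib.PLocal.SLTwo

universe u v

variable {F : Type u} [Field F] [Fintype F] {ι : Type v} [Fintype ι] [DecidableEq ι]

theorem quatPair_el (h2 : (2 : F) ≠ 0) (a : ι) {i j : S2 F} (hii : i * i = -1) (hjj : j * j = -1)
    (hij : i * j = -(j * i)) : QuatPair formSum (zb a : Vec ι F ≃ₗ[F] Vec ι F) (el a i) (el a j) where
  isoz := zb_iso a
  isoi := mono_iso _ _
  isoj := mono_iso _ _
  zz := zb_mul_self a
  plane := by rw [moved_zb h2, finrank_blk]
  ii := by rw [← el_mul, hii, zb]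
  jj := by rw [← el_mul, hjj, zb]
  ij := by rw [← el_mul, hij, zb, ← el_mul, ← el_mul]; simp
  mi := fun v => by rw [moved_zb h2]; exact el_sub_mem a i v
  mj := fun v => by rw [moved_zb h2]; exact el_sub_mem a j v

theorem QuatPair.conj {V : Type v} [AddCommGroup V] [Module F V] {B : LinearMap.BilinForm F V}
    {z i j : V ≃ₗ[F] V} (q : QuatPair B z i j) {x : V ≃ₗ[F] V} (hx : IsIso B x) :
    QuatPair B (x * z * x⁻¹) (x * i * x⁻¹) (x * j * x⁻¹) := by
  have hc : ∀ g h : V ≃ₗ[F] V, x * g * x⁻¹ * (x * h * x⁻¹) = x * (g * h) * x⁻¹ := fun g h => by group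
  have hiso : ∀ g, IsIso B g → IsIso B (x * g * x⁻¹) := fun g hg =>
    (isoGroup B).mul_mem ((isoGroup B).mul_mem hx hg) ((isoGroup B).inv_mem hx)
  refine ⟨hiso z q.isoz, hiso i q.isoi, hiso j q.isoj, by rw [hc, q.zz, mul_one, mul_inv_cancel],
    by rw [finrank_moved_conj, q.plane], by rw [hc, q.ii], by rw [hc, q.jj],
    by rw [hc, hc, hc, q.ij], ?_, ?_⟩ <;> intro v
  · have h := moved_conj x z (q.mi (x⁻¹ v))
    rwa [map_sub, apply_inv_apply'] at h
  · have h := moved_conj x z (q.mj (x⁻¹ v))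
    rwa [map_sub, apply_inv_apply'] at h

theorem no_transvection (h2 : (2 : F) ≠ 0) (J : Subgroup (Vec ι F ≃ₗ[F] Vec ι F))
    (hJ : ∀ g ∈ J, IsIso formSum g) {i j : S2 F} (hii : i * i = -1) (hjj : j * j = -1)
    (hij : i * j = -(j * i)) (hi : ∀ a, el a i ∈ J) (hj : ∀ a, el a j ∈ J)
    (hsmall : ∀ a, ∀ g ∈ J, (∀ v, g v - v ∈ blk a) → ∃ e : ℕ, g ^ 2 ^ e = 1)
    {g : Vec ι F ≃ₗ[F] Vec ι F} (hg : g ∈ J) : finrank F (moved g) ≠ 1 := by
  classical
  intro hfin
  obtain ⟨c₁, hc₁, hc₁0⟩ := Submodule.exists_mem_ne_zero_of_ne_bot (p := moved g)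
    (fun h => by rw [h, finrank_bot] at hfin; omega)
  have hle : ∀ v, g v - v ∈ F ∙ c₁ := fun v => by
    rw [Submodule.eq_of_le_of_finrank_le ((Submodule.span_singleton_le_iff_mem _ _).2 hc₁)
      (by rw [finrank_span_singleton hc₁0, hfin])]
    exact sub_mem_moved g v
  suffices key : ∀ n, ∀ g ∈ J, ∀ c : Vec ι F, (∀ v, g v - v ∈ F ∙ c) →
      (Finset.univ.filter fun a => c a ≠ 0).card = n → g = 1 by
    rw [key _ g hg c₁ hle rfl, show moved (1 : Vec ι F ≃ₗ[F] Vec ι F) = ⊥ from
      le_bot_iff.1 (moved_le fun v => by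
        rw [show (1 : Vec ι F ≃ₗ[F] Vec ι F) v = v from rfl, sub_self]; exact zero_mem _),
      finrank_bot] at hfin
    omega
  intro n
  induction n using Nat.strong_induction_on with
  | _ n ih =>
  intro g hg c hgc hn
  by_contra hne
  obtain ⟨v₀, hv₀⟩ : ∃ v, g v ≠ v := by
    by_contra! h; exact hne (LinearEquiv.ext h)
  obtain ⟨r, hr⟩ := Submodule.mem_span_singleton.1 (hgc v₀)
  have hr0 : r ≠ 0 := fun h => hv₀ (sub_eq_zero.1 (by rw [← hr, h, zero_smul]))
  have hcm : c ∈ moved g := by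
    have h := (moved g).smul_mem r⁻¹ (sub_mem_moved g v₀)
    rwa [← hr, smul_smul, inv_mul_cancel₀ hr0, one_smul] at h
  have hperp : ∀ v, formSum c v = 0 → g v = v := fun v hv =>
    (fix_iff isSymp_formSum (hJ g hg)).2 fun w hw => by
      obtain ⟨s, rfl⟩ := Submodule.mem_span_singleton.1 (moved_le hgc hw)
      rw [map_smul, LinearMap.smul_apply, hv, smul_zero]
  obtain ⟨a, ha⟩ : ∃ a, c a ≠ 0 := by
    by_contra! h
    exact hv₀ (sub_eq_zero.1 (by rw [← hr, show c = 0 from funext h, smul_zero]))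
  by_cases hother : ∃ b, b ≠ a ∧ c b ≠ 0
  · obtain ⟨b, hba, hb⟩ := hother
    set z' := g * zb a * g⁻¹ with hz'
    have hgi : ∀ s, el a s ∈ J → g * el a s * g⁻¹ ∈ J := fun s hs => mul_mem (mul_mem hg hs) (inv_mem hg)
    have hzJ : zb a ∈ J := by rw [zb, ← hii, el_mul]; exact mul_mem (hi a) (hi a)
    have hz'J : z' ∈ J := mul_mem (mul_mem hg hzJ) (inv_mem hg)
    have hgblk : ∀ v ∈ blk (F := F) a, g v ∈ moved z' := fun v hv =>
      moved_conj g _ (by rw [moved_zb h2]; exact hv)
    have hz'W : ∀ x ∈ moved z', ∃ (w : Vec ι F) (t : F), w ∈ blk (F := F) a ∧ x = w + t • c := by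
      intro x hx
      obtain ⟨v, rfl⟩ := hx
      set w := (zb a : Vec ι F ≃ₗ[F] Vec ι F) (g⁻¹ v) - g⁻¹ v
      obtain ⟨t, ht⟩ := Submodule.mem_span_singleton.1 (hgc w)
      refine ⟨w, t, el_sub_mem a _ _, ?_⟩
      rw [ht, add_sub_cancel]
      simp [w, z', LinearEquiv.mul_apply, map_sub, apply_inv_apply']
    have hne' : moved z' ≠ moved (zb (F := F) a) := by
      intro heq
      refine ha (formLoc_nondeg fun w => ?_)
      have h1 : g (Pi.single a w) ∈ blk a := by
        rw [← moved_zb h2, ← heq]; exact hgblk _ (single_mem_blk a w)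
      obtain ⟨t, ht⟩ := Submodule.mem_span_singleton.1 (hgc (Pi.single a w))
      have hmem : t • c ∈ blk (F := F) a := by
        rw [ht]; exact Submodule.sub_mem _ h1 (single_mem_blk a w)
      have h3 := mem_blk.1 hmem b hba
      rw [Pi.smul_apply] at h3
      have ht0 : t = 0 := (smul_eq_zero.1 h3).resolve_right hb
      rw [ht0, zero_smul] at ht
      have h4 := (fix_iff isSymp_formSum (hJ g hg)).1 (sub_eq_zero.1 ht.symm) c hcm
      rwa [formSum_single_right] at h4
    set c0 := c - Pi.single a (c a) with hc0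
    have hfixed : ∀ x ∈ moved (zb (F := F) a) ⊔ moved z', zb a x = x → ∃ t : F, x = t • c0 := by
      intro x hx hzx
      obtain ⟨p, hp, q, hq, rfl⟩ := Submodule.mem_sup.1 hx
      obtain ⟨w, t, hw, rfl⟩ := hz'W q hq
      rw [moved_zb h2] at hp
      refine ⟨t, ?_⟩
      have h := (zb_fix_iff h2 a _).1 hzx
      funext d
      by_cases hd : d = a
      · subst hd; rw [h]; simp [hc0]
      · simp [hc0, hd, mem_blk.1 hp d hd, mem_blk.1 hw d hd]
    obtain ⟨g', hg', hg'1, hg'm⟩ := exists_transvection h2 isSymp_formSum (quatPair_el h2 a hii hjj hij)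
      (hJ z' hz'J)
      (by rw [hz', show g * zb a * g⁻¹ * (g * zb a * g⁻¹) = g * (zb a * zb a) * g⁻¹ by group,
        zb_mul_self, mul_one, mul_inv_cancel])
      (by rw [hz', finrank_moved_conj, moved_zb h2, finrank_blk]) hne'
      (fun x hx y hy h1 h3 => by
        obtain ⟨s, rfl⟩ := hfixed x hx h1
        obtain ⟨t, rfl⟩ := hfixed y hy h3
        rw [map_smul, map_smul, LinearMap.smul_apply, isSymp_formSum.alt c0, smul_zero, smul_zero])
      J (hi a) (hj a) hz'J
    have hlt : (Finset.univ.filter fun d => c0 d ≠ 0).card < n := by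
      rw [← hn]
      refine Finset.card_lt_card ((Finset.ssubset_iff_of_subset fun d hd => ?_).2 ⟨a, by simp [ha],
        by simp [hc0]⟩)
      simp only [Finset.mem_filter, Finset.mem_univ, true_and] at hd ⊢
      intro hcd
      apply hd
      by_cases hda : d = a
      · subst hda; simp [hc0]
      · simp [hc0, hda, hcd]
    have hg'c : ∀ v, g' v - v ∈ F ∙ c0 := fun v => by
      obtain ⟨t, ht⟩ := hfixed _ (hg'm _ (sub_mem_moved g' v)).2 (hg'm _ (sub_mem_moved g' v)).1
      rw [ht]
      exact Submodule.smul_mem _ _ (Submodule.mem_span_singleton_self _)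
    have h1 := ih _ hlt g' hg' c0 hg'c rfl
    rw [h1, show moved (1 : Vec ι F ≃ₗ[F] Vec ι F) = ⊥ from
      le_bot_iff.1 (moved_le fun v => by
        rw [show (1 : Vec ι F ≃ₗ[F] Vec ι F) v = v from rfl, sub_self]; exact zero_mem _),
      finrank_bot] at hg'1
    omega
  · push Not at hother
    have hcblk : c ∈ blk a := mem_blk.2 hother
    obtain ⟨e, he⟩ := hsmall a g hg fun v => by
      obtain ⟨t, ht⟩ := Submodule.mem_span_singleton.1 (hgc v)
      rw [← ht]; exact (blk a).smul_mem _ hcblk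
    have hgcc : g c = c := hperp c (isSymp_formSum.alt c)
    have hpow : ∀ m : ℕ, (g ^ m) v₀ = v₀ + ((m : F) * r) • c := by
      intro m
      induction m with
      | zero => simp
      | succ m ihm =>
        rw [pow_succ', LinearEquiv.mul_apply, ihm, map_add, map_smul, hgcc,
          show g v₀ = v₀ + r • c by rw [hr, add_sub_cancel]]
        push_cast
        rw [add_mul, one_mul, add_smul]
        abel
    have h := hpow (2 ^ e)
    rw [he, show (1 : Vec ι F ≃ₗ[F] Vec ι F) v₀ = v₀ from rfl, left_eq_add, smul_eq_zero,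
      mul_eq_zero, Nat.cast_pow] at h
    rcases h with (h | h) | h
    · exact pow_ne_zero e h2 (by simpa using h)
    · exact hr0 h
    · exact ha (by rw [h]; rfl)

end CfsgLib.HallGen.Pronormal
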