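import Cfsg.Agent.Lib.HallGen.Pronormal.PlaneCommute
import Cfsg.Agent.Lib.HallGen.Pronormal.SpNormalizer
import Cfsg.Agent.Lib.HallGen.Pronormal.SpGraph
import Cfsg.Agent.Lib.HallGen.Pronormal.SpTransvection

/-!
# Overgroups of a Sylow 2-subgroup of `Sp₂ₙ(q)`, `n` a power of two, `q ≡ ±3 (mod 8)`

Such a group `H` is normalised by the diagonal element `dg w` of order three of the Sylow normalizer, unless
that element lies in the group generated by `H` and its conjugate.
-/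

set_option autoImplicit false
set_option linter.all false

namespace CfsgLib.HallGen.Pronormal

open Equiv Module CfsgLib.PLocal.SLTwo

universe u v

variable {F : Type u} [Field F] [Fintype F] {ι : Type v} [Fintype ι] [DecidableEq ι]
variable {S : Sylow 2 (S2 F)} {i j w : S2 F}

theorem Q8Data.mem_of_pow (d : Q8Data S i j w) {e : ℕ} (he : w ^ e ∉ S) {N : Type*} [Group N]
    (f : S2 F →* N) (Y : Subgroup N) (h : f (w ^ e) ∈ Y) : f w ∈ Y := by
  have h3 : e % 3 ≠ 0 := fun h0 => he (by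
    rw [← Nat.div_add_mod e 3, h0, add_zero, pow_mul, d.w3, one_pow]; exact S.one_mem)
  obtain ⟨r, hr⟩ : ∃ r, (e * r) % 3 = 1 := ⟨e % 3, by
    have : e % 3 = 1 ∨ e % 3 = 2 := by omega
    rcases this with h | h <;> simp [Nat.mul_mod, h]⟩
  have h' := Y.pow_mem h r
  rwa [← map_pow, ← pow_mul, ← Nat.div_add_mod (e * r) 3, hr, pow_add, pow_mul, d.w3, one_pow,
    one_mul, pow_one] at h'

theorem el_mul_comm {a b : ι} (hab : a ≠ b) (s t : S2 F) :
    (el a s : Vec ι F ≃ₗ[F] Vec ι F) * el b t = el b t * el a s :=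
  (((Pi.mulSingle_commute (f := fun _ : ι => S2 F) hab) s t).map baseHom).eq

theorem Q8Data.exists_noncomm (d : Q8Data S i j w) {X : Subgroup (S2 F)}
    (hX : X ≤ (S : Subgroup (S2 F))) {s t : S2 F} (hs : s ∈ X) (ht : t ∈ X) (hne : s * t ≠ t * s) :
    X = (S : Subgroup (S2 F)) := by
  haveI : Fact (Nat.Prime 2) := ⟨Nat.prime_two⟩
  refine Subgroup.eq_of_le_of_card_ge hX ?_
  by_contra hlt
  have hdvd : Nat.card X ∣ 2 ^ 3 := by
    have h := Subgroup.card_dvd_of_le hX
    rw [d.card] at h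
    norm_num
    exact h
  obtain ⟨m, hm, hcm⟩ := (Nat.dvd_prime_pow Nat.prime_two).1 hdvd
  rw [d.card, not_le, hcm] at hlt
  have hm2 : m ≤ 2 := by
    by_contra h
    have := Nat.pow_le_pow_right two_pos (show 3 ≤ m by omega)
    omega
  have hcomm : ∀ x y : X, x * y = y * x := by
    interval_cases m
    · intro x y
      haveI : Subsingleton X := (Nat.card_eq_one_iff_unique.1 (by simpa using hcm)).1
      rw [Subsingleton.elim x y]
    · haveI : IsCyclic X := isCyclic_of_prime_card (p := 2) (by simpa using hcm)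
      exact fun x y => (IsCyclic.isMulCommutative (α := X)).is_comm.comm x y
    · haveI := IsPGroup.isMulCommutative_of_card_eq_prime_sq hcm
      exact fun x y => mul_comm' x y
  exact hne (congrArg Subtype.val (hcomm ⟨s, hs⟩ ⟨t, ht⟩))

/-- A member of the class of block involutions inside the monomial group is a block involution, when the
group does not contain the diagonal element. -/
theorem block_of_mem_monoSub {k : ℕ} (hι : Fintype.card ι = 2 ^ k) (d : Q8Data S i j w)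
    (T : Sylow 2 (Perm ι)) (J : Subgroup (Vec ι F ≃ₗ[F] Vec ι F)) (hJ : ∀ g ∈ J, IsIso formSum g)
    (hW : monoSub (S : Subgroup (S2 F)) (T : Subgroup (Perm ι)) ≤ J) (hd : dg w ∉ J)
    {D : Set (Vec ι F ≃ₗ[F] Vec ι F)} (hconj : ∀ g ∈ J, ∀ z ∈ D, g * z * g⁻¹ ∈ D)
    (hquat : ∀ z ∈ D, ∃ x ∈ J, ∃ y ∈ J, QuatPair formSum z x y)
    (hsmall : ∀ z ∈ D, ∀ g ∈ J, (∀ v, g v - v ∈ moved z) → ∃ e : ℕ, g ^ 2 ^ e = 1)
    {z : Vec ι F ≃ₗ[F] Vec ι F} (hzD : z ∈ D)
    (hzW : z ∈ monoSub (S : Subgroup (S2 F)) (T : Subgroup (Perm ι))) : ∃ a, z = zb a := by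
  classical
  haveI : Fact (Nat.Prime 2) := ⟨Nat.prime_two⟩
  have h2 := d.two
  obtain ⟨x, -, y, -, qz⟩ := hquat z hzD
  obtain ⟨g, σ, hg, hσ, rfl⟩ := hzW
  rcases involution_cases h2 (S := (S : Subgroup (S2 F))) qz.zz qz.plane with
    ⟨-, a, ha⟩ | ⟨a, b, hab, rfl, hgo, hgab⟩
  · exact ⟨a, ha⟩
  exfalso
  -- standardise the transposition
  have hswap : swapEl a b ∈ D := by
    have h := hconj _ (hW (el_mem_monoSub _ b (hg a))) _ hzD
    convert h using 1
    rw [el, mono_inv, mono_mul, mono_mul, swapEl]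
    congr 1
    · funext c
      have hone : ∀ e : ι, (1 : Perm ι).symm e = e := fun e => rfl
      simp only [Perm.coe_one, id_eq, hone, one_mul, symm_swap]
      by_cases hca : c = a
      · subst hca; simp [hab]
      by_cases hcb : c = b
      · subst hcb; simp [hab, hgab]
      simp [hca, hcb, hgo c hca hcb, swap_apply_of_ne_of_ne hca hcb]
  obtain ⟨x, hxJ, y, hyJ, q⟩ := hquat _ hswap
  obtain ⟨s₁, rfl⟩ := eq_kEl_of_moved h2 hab q.isoi q.mi
  obtain ⟨s₂, rfl⟩ := eq_kEl_of_moved h2 hab q.isoj q.mj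
  set X₀ := J.comap (kElHom h2 hab) with hX₀
  have hinj : Function.Injective (kElHom (F := F) h2 hab) := fun s t h => el_injective a (by
    rw [kElHom_eq, kElHom_eq, mul_left_inj, mul_right_inj] at h
    exact h)
  have hX2 : IsPGroup 2 X₀ := fun s => by
    obtain ⟨e, he⟩ := hsmall _ hswap _ s.2 (kEl_sub_mem h2 hab s)
    rw [← map_pow, ← map_one (kElHom (F := F) h2 hab)] at he
    exact ⟨e, Subtype.ext (by rw [SubmonoidClass.coe_pow]; exact hinj he)⟩
  have hnorm : (S : Subgroup (S2 F)) ≤ Subgroup.normalizer (X₀ : Set (S2 F)) := fun t ht =>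
    CfsgLib.SL2Char.mem_normalizer_of_conj_mem fun s hs => by
      rw [hX₀, Subgroup.mem_comap, ← kEl_conj h2 hab]
      have ht' : el a t * el b t ∈ J :=
        mul_mem (hW (el_mem_monoSub _ a ht)) (hW (el_mem_monoSub _ b ht))
      exact mul_mem (mul_mem ht' hs) (inv_mem ht')
  have hX0S : X₀ ≤ (S : Subgroup (S2 F)) := by
    have h := IsPGroup.to_sup_of_normal_right' S.isPGroup' hX2 hnorm
    rw [← S.is_maximal' h le_sup_left]
    exact le_sup_right
  have hne : s₁ * s₂ ≠ s₂ * s₁ := fun h => by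
    have h' := q.ij
    rw [← map_mul, h, map_mul, eq_comm, mul_eq_right, swapEl, ← mono_one] at h'
    have hsw := (mono_inj h').2
    have := congrArg (fun σ : Perm ι => σ a) hsw
    simp only [swap_apply_left, Perm.coe_one, id_eq] at this
    exact hab this.symm
  have hXS : X₀ = (S : Subgroup (S2 F)) := d.exists_noncomm hX0S hxJ hyJ hne
  have hki : kElHom h2 hab i ∈ J := by
    have : i ∈ X₀ := hXS.symm ▸ d.memi
    exact this
  have hkj : kElHom h2 hab j ∈ J := by
    have : j ∈ X₀ := hXS.symm ▸ d.memj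
    exact this
  obtain ⟨u, hu, huS, hword⟩ := exists_twist d hab (hJ _ hki) (hJ _ hkj)
  have hmem : el a u * el b (u * i) ∈ J := hword ▸
    mul_mem (mul_mem hki (hW (el_mem_monoSub _ a (S.mul_mem d.memi d.memj)))) hkj
  obtain ⟨e, he⟩ := d.norm u hu
  have hwe : w ^ e ∉ S := fun h => huS (by
    have := S.mul_mem he h
    rwa [inv_mul_cancel_right] at this)
  have hpair : el a (w ^ e) * el b (w ^ e) ∈ J := by
    obtain ⟨s, hs⟩ : ∃ s, s = u * (w ^ e)⁻¹ := ⟨_, rfl⟩
    rw [← hs] at he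
    have h1 : el a u * el b u ∈ J := by
      have h := mul_mem hmem (hW (el_mem_monoSub _ b (S.inv_mem d.memi)))
      rwa [mul_assoc, ← el_mul, mul_inv_cancel_right] at h
    have hus : u = s * w ^ e := by rw [hs, inv_mul_cancel_right]
    have h3 : el a (s * w ^ e) * el b (s * w ^ e) =
        (el a s * el b s) * (el a (w ^ e) * el b (w ^ e)) := by
      rw [el_mul, el_mul, mul_assoc, ← mul_assoc (el a (w ^ e)), el_mul_comm hab, mul_assoc,
        ← mul_assoc]
    rw [hus, h3] at h1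
    exact (Subgroup.mul_mem_cancel_left J
      (mul_mem (hW (el_mem_monoSub _ a he)) (hW (el_mem_monoSub _ b he)))).1 h1
  -- spread over the transitive group
  let Λ : (ι → Multiplicative ℕ) →* (ι → S2 F) :=
    { toFun := fun f c => (w ^ e) ^ Multiplicative.toAdd (f c)
      map_one' := funext fun c => by simp
      map_mul' := fun f f' => funext fun c => by simp [pow_add] }
  set M₀ := (J.comap baseHom).toSubmonoid.comap Λ with hM₀
  set o : Multiplicative ℕ := Multiplicative.ofAdd 1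
  have hΛ1 : ∀ c, Λ (Pi.mulSingle c o) = Pi.mulSingle c (w ^ e) := fun c => funext fun c' => by
    by_cases h : c' = c
    · subst h; simp [Λ, o]
    · simp [Λ, h]
  have hgen : ∀ τ ∈ (T : Subgroup (Perm ι)),
      Pi.mulSingle (τ a) o * Pi.mulSingle (τ b) o ∈ M₀ := by
    intro τ hτ
    show baseHom (Λ _) ∈ J
    have hm : mono (1 : ι → S2 F) τ ∈ J := hW (mono_mem_monoSub.2 ⟨fun _ => one_mem _, hτ⟩)
    have h := mul_mem (mul_mem hm hpair) (inv_mem hm)
    rw [show mono (1 : ι → S2 F) τ * (el a (w ^ e) * el b (w ^ e)) * (mono 1 τ)⁻¹ =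
      (mono 1 τ * el a (w ^ e) * (mono 1 τ)⁻¹) * (mono 1 τ * el b (w ^ e) * (mono 1 τ)⁻¹) by group,
      mono_conj_el, mono_conj_el] at h
    simp only [Pi.one_apply, one_mul, inv_one, mul_one] at h
    rw [map_mul, hΛ1, hΛ1, map_mul]
    exact h
  set Tf : Finset (Perm ι) := Finset.univ.filter (· ∈ (T : Subgroup (Perm ι))) with hTf
  have hprod := Submonoid.prod_mem M₀ (t := Tf) fun τ hτ => hgen τ (Finset.mem_filter.1 hτ).2
  rw [Finset.prod_mul_distrib] at hprod
  have hcount : ∀ p c, (∏ τ ∈ Tf, Pi.mulSingle (M := fun _ : ι => Multiplicative ℕ) (τ p) o) c =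
      Multiplicative.ofAdd (Tf.filter fun τ => τ p = p).card := by
    intro p c
    rw [Finset.prod_apply]
    simp only [Pi.mulSingle_apply]
    rw [← Finset.prod_filter, Finset.prod_const]
    obtain ⟨τ₀, hτ₀, hτ₀c⟩ := sylow_perm_transitive hι T p c
    have hb : (Tf.filter fun τ => c = τ p).card = (Tf.filter fun τ => τ p = p).card := by
      refine Finset.card_bij' (fun τ _ => τ₀⁻¹ * τ) (fun τ _ => τ₀ * τ) ?_ ?_ ?_ ?_
      · intro τ hτ
        simp only [hTf, Finset.mem_filter, Finset.mem_univ, true_and] at hτ ⊢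
        exact ⟨mul_mem (inv_mem hτ₀) hτ.1, by rw [Perm.mul_apply, ← hτ.2, Perm.inv_eq_iff_eq, hτ₀c]⟩
      · intro τ hτ
        simp only [hTf, Finset.mem_filter, Finset.mem_univ, true_and] at hτ ⊢
        exact ⟨mul_mem hτ₀ hτ.1, by rw [Perm.mul_apply, hτ.2, hτ₀c]⟩
      · intro τ _; simp
      · intro τ _; simp
    rw [hb]
    simp [o, ← ofAdd_nsmul]
  set m := (Tf.filter fun τ => τ a = a).card with hm
  have hmb : (Tf.filter fun τ => τ b = b).card = m := by
    obtain ⟨τ₀, hτ₀, hτ₀b⟩ := sylow_perm_transitive hι T a b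
    refine Finset.card_bij' (fun τ _ => τ₀⁻¹ * τ * τ₀) (fun τ _ => τ₀ * τ * τ₀⁻¹) ?_ ?_ ?_ ?_
    · intro τ hτ
      simp only [hTf, Finset.mem_filter, Finset.mem_univ, true_and] at hτ ⊢
      exact ⟨mul_mem (mul_mem (inv_mem hτ₀) hτ.1) hτ₀, by
        rw [Perm.mul_apply, Perm.mul_apply, hτ₀b, hτ.2, Perm.inv_eq_iff_eq, hτ₀b]⟩
    · intro τ hτ
      simp only [hTf, Finset.mem_filter, Finset.mem_univ, true_and] at hτ ⊢
      exact ⟨mul_mem (mul_mem hτ₀ hτ.1) (inv_mem hτ₀), by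
        rw [Perm.mul_apply, Perm.mul_apply, Perm.inv_eq_iff_eq.2 hτ₀b.symm, hτ.2, hτ₀b]⟩
    · intro τ _; simp [mul_assoc]
    · intro τ _; simp [mul_assoc]
  have hfinal : dg (w ^ (e * (m + m))) ∈ J := by
    have h : baseHom (Λ ((∏ τ ∈ Tf, Pi.mulSingle (τ a) o) * ∏ τ ∈ Tf, Pi.mulSingle (τ b) o)) ∈ J :=
      hprod
    convert h using 1
    show dg _ = mono _ 1
    rw [dg]
    congr 1
    funext c
    simp [Λ, hcount, hmb, ← hm, pow_mul]
  refine hd (d.mem_of_pow (e := e * (m + m)) ?_ dgHom J hfinal)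
  -- the exponent is not a multiple of three
  intro hmem'
  have hT2 : ∃ f, m + m = 2 ^ f := by
    set Ta := MulAction.stabilizer (T : Subgroup (Perm ι)) a
    obtain ⟨f, hf⟩ := IsPGroup.iff_card.1 (T.isPGroup'.to_subgroup Ta)
    refine ⟨f + 1, ?_⟩
    have : m = Nat.card Ta := by
      rw [hm, Nat.card_eq_fintype_card]
      refine Finset.card_bij (fun τ hτ => (⟨⟨τ, (Finset.mem_filter.1 (Finset.mem_filter.1 hτ).1).2⟩,
        (Finset.mem_filter.1 hτ).2⟩ : Ta)) (fun _ _ => Finset.mem_univ _) (fun τ _ τ' _ h => ?_)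
        fun x _ => ⟨((x : (T : Subgroup (Perm ι))) : Perm ι), ?_, rfl⟩
      · exact congrArg (fun x : Ta => ((x : (T : Subgroup (Perm ι))) : Perm ι)) h
      · simp only [hTf, Finset.mem_filter, Finset.mem_univ, true_and]
        exact ⟨(x : (T : Subgroup (Perm ι))).2, x.2⟩
    rw [this, hf, pow_succ]; ring
  obtain ⟨f, hf⟩ := hT2
  rw [hf, pow_mul] at hmem'
  refine hwe ?_
  have h3 : (2 ^ f) % 3 = 1 ∨ (2 ^ f) % 3 = 2 := by
    have : ¬ 3 ∣ 2 ^ f := fun h => by
      have := Nat.prime_three.dvd_of_dvd_pow h; norm_num at this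
    omega
  have hw3 : (w ^ e) ^ 3 = 1 := by rw [← pow_mul, mul_comm, pow_mul, d.w3, one_pow]
  rw [← Nat.div_add_mod (2 ^ f) 3, pow_add, pow_mul, hw3, one_pow, one_mul] at hmem'
  rcases h3 with h3 | h3 <;> rw [h3] at hmem'
  · rwa [pow_one] at hmem'
  · have := S.mul_mem hmem' hmem'
    rwa [← pow_two, ← pow_mul, pow_succ, hw3, one_mul] at this

/-- The overgroup is normalised by the diagonal element. -/
theorem overgroup_normalised {k : ℕ} (hι : Fintype.card ι = 2 ^ k) (d : Q8Data S i j w)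
    (T : Sylow 2 (Perm ι)) (H M : Subgroup (Vec ι F ≃ₗ[F] Vec ι F)) (hH : ∀ g ∈ H, IsIso formSum g)
    (hW : monoSub (S : Subgroup (S2 F)) (T : Subgroup (Perm ι)) ≤ H) (hHM : H ≤ M)
    (hdM : ∀ x ∈ H, dg w * x * (dg w)⁻¹ ∈ M) (hd : dg w ∉ M) :
    ∀ x ∈ H, dg w * x * (dg w)⁻¹ ∈ H := by
  classical
  haveI : Fact (Nat.Prime 2) := ⟨Nat.prime_two⟩
  haveI : Finite (Vec ι F ≃ₗ[F] Vec ι F) := Finite.of_injective _ DFunLike.coe_injective
  have h2 := d.two
  set W := monoSub (S : Subgroup (S2 F)) (T : Subgroup (Perm ι)) with hWdef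
  obtain ⟨a₀⟩ : Nonempty ι := Fintype.card_pos_iff.1 (hι ▸ pow_pos two_pos k)
  -- the block parts
  have hX : ∀ a, ∀ s, el a s ∈ H → s ∈ S := by
    intro a s hs
    have hno : el a w ∉ M := by
      intro ha
      have hall : ∀ b, el b w ∈ M := fun b => by
        obtain ⟨τ, hτ, hτb⟩ := sylow_perm_transitive hι T a b
        have hm : mono (1 : ι → S2 F) τ ∈ M := hHM (hW (mono_mem_monoSub.2 ⟨fun _ => one_mem _, hτ⟩))
        have h := mul_mem (mul_mem hm ha) (inv_mem hm)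
        rw [mono_conj_el, hτb] at h
        simpa using h
      exact hd (show (fun _ => w) ∈ M.comap baseHom from Subgroup.pi_mem_of_mulSingle_mem _ hall)
    have hXS := d.two_axes (H.comap (elHom a)) (M.comap (elHom a))
      (fun t ht => hW (el_mem_monoSub _ a ht)) (Subgroup.comap_mono hHM)
      (fun t ht => by
        show el a (w * t * w⁻¹) ∈ M
        have h := hdM _ ht
        rw [dg, show elHom a t = el a t from rfl, mono_conj_el] at h
        exact h)
      (fun g hg hgY => by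
        obtain ⟨e, he⟩ := d.norm g hg
        by_contra hgS
        refine hno (d.mem_of_pow (e := e) (fun h => hgS (by
          have := S.mul_mem he h
          rwa [inv_mul_cancel_right] at this)) (elHom a) M ?_)
        show el a (w ^ e) ∈ M
        have h1 : el a (g * (w ^ e)⁻¹) ∈ M := hHM (hW (el_mem_monoSub _ a he))
        have h3 := mul_mem (inv_mem h1) (show el a g ∈ M from hgY)
        rwa [show (el a (g * (w ^ e)⁻¹))⁻¹ = el a (g * (w ^ e)⁻¹)⁻¹ from
          (map_inv (elHom a) _).symm, ← el_mul, _root_.mul_inv_rev, inv_inv, inv_mul_cancel_right] at h3)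
    exact (hXS ▸ hs : s ∈ (S : Subgroup (S2 F)))
  have hdH : dg w ∉ H := fun h => hd (hHM h)
  -- the class of block involutions
  set D : Set (Vec ι F ≃ₗ[F] Vec ι F) := {z | ∃ h ∈ H, ∃ a, z = h * zb a * h⁻¹} with hD
  have hzbH : ∀ a, zb a ∈ H := fun a => hW (el_mem_monoSub _ a d.neg_one_mem)
  have hsmall₀ : ∀ a, ∀ g ∈ H, (∀ v, g v - v ∈ blk a) → ∃ e : ℕ, g ^ 2 ^ e = 1 := by
    intro a g hg hm
    obtain ⟨s, rfl⟩ := eq_el_of_moved (hH g hg) hm
    obtain ⟨e, he⟩ := S.isPGroup' ⟨s, hX a s hg⟩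
    refine ⟨e, ?_⟩
    have h : s ^ 2 ^ e = 1 := by
      have := congrArg Subtype.val he
      simpa using this
    rw [show el a s = elHom a s from rfl, ← map_pow, h, map_one]
  have hsmall : ∀ z ∈ D, ∀ g ∈ H, (∀ v, g v - v ∈ moved z) → ∃ e : ℕ, g ^ 2 ^ e = 1 := by
    rintro _ ⟨h, hh, a, rfl⟩ g hg hm
    obtain ⟨e, he⟩ := hsmall₀ a (h⁻¹ * g * h) (mul_mem (mul_mem (inv_mem hh) hg) hh) fun v => by
      have h1 := moved_conj h⁻¹ _ (hm (h v))
      rw [inv_inv, show h⁻¹ * (h * zb a * h⁻¹) * h = zb a by group, moved_zb h2, map_sub,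
        inv_apply_apply'] at h1
      exact h1
    refine ⟨e, ?_⟩
    have := conj_pow (a := h) (b := h⁻¹ * g * h) (i := 2 ^ e)
    rw [he, mul_one, mul_inv_cancel, show h * (h⁻¹ * g * h) * h⁻¹ = g by group] at this
    exact this
  have hconj : ∀ g ∈ H, ∀ z ∈ D, g * z * g⁻¹ ∈ D := by
    rintro g hg _ ⟨h, hh, a, rfl⟩
    exact ⟨g * h, mul_mem hg hh, a, by group⟩
  have hquat : ∀ z ∈ D, ∃ x ∈ H, ∃ y ∈ H, QuatPair formSum z x y := by
    rintro _ ⟨h, hh, a, rfl⟩
    exact ⟨_, mul_mem (mul_mem hh (hW (el_mem_monoSub _ a d.memi))) (inv_mem hh), _,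
      mul_mem (mul_mem hh (hW (el_mem_monoSub _ a d.memj))) (inv_mem hh),
      (quatPair_el h2 a d.ii d.jj d.ij).conj (hH h hh)⟩
  have hblock : ∀ z ∈ D, z ∈ W → ∃ a, z = zb a := fun z hz hzW =>
    block_of_mem_monoSub hι d T H hH hW hdH hconj hquat hsmall hz hzW
  obtain ⟨P, hP⟩ := exists_sylowSp hι ((Nat.not_even_iff_odd.1 fun hev => h2 (by
    rw [← Nat.cast_two, CharP.cast_eq_zero_iff F (ringChar F)]
    rw [FiniteField.even_card_iff_char_two.2 (Nat.even_iff.1 hev)] ))) S T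
  have hdata : PlaneData formSum H D := by
    refine ⟨hH, ?_, hconj, hquat, hsmall, ?_, fun g hg =>
      no_transvection h2 H hH d.ii d.jj d.ij (fun a => hW (el_mem_monoSub _ a d.memi))
        (fun a => hW (el_mem_monoSub _ a d.memj)) hsmall₀ hg⟩
    · rintro _ ⟨h, hh, a, rfl⟩
      exact mul_mem (mul_mem hh (hzbH a)) (inv_mem hh)
    intro z hz z' hz' hpow
    obtain ⟨e, he⟩ := hpow
    obtain ⟨xz, -, yz, -, qz⟩ := hquat z hz
    obtain ⟨xz', -, yz', -, qz'⟩ := hquat z' hz'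
    have hzH : z ∈ H := by obtain ⟨h, hh, a, rfl⟩ := hz; exact mul_mem (mul_mem hh (hzbH a)) (inv_mem hh)
    have hz'H : z' ∈ H := by obtain ⟨h, hh, a, rfl⟩ := hz'; exact mul_mem (mul_mem hh (hzbH a)) (inv_mem hh)
    have hzi := inv_eq_of_mul_eq_one_right qz.zz
    set A := Subgroup.zpowers (z * z')
    have hA : IsPGroup 2 A := by
      rw [IsPGroup.iff_card, Nat.card_zpowers]
      exact ⟨_, ((Nat.dvd_prime_pow Nat.prime_two).1 (orderOf_dvd_of_pow_eq_one he)).choose_spec.2⟩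
    have hB : IsPGroup 2 (Subgroup.zpowers z) := by
      rw [IsPGroup.iff_card, Nat.card_zpowers]
      exact ⟨_, ((Nat.dvd_prime_pow Nat.prime_two).1 (orderOf_dvd_of_pow_eq_one
        (show z ^ 2 ^ 1 = 1 by rw [pow_one, pow_two, qz.zz]))).choose_spec.2⟩
    have hnorm : Subgroup.zpowers z ≤ Subgroup.normalizer (A : Set (Vec ι F ≃ₗ[F] Vec ι F)) := by
      rw [Subgroup.zpowers_le]
      refine CfsgLib.SL2Char.mem_normalizer_of_conj_mem fun y hy => ?_
      obtain ⟨n, rfl⟩ := Subgroup.mem_zpowers_iff.1 hy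
      rw [← conj_zpow]
      refine Subgroup.zpow_mem _ ?_ _
      rw [show z * (z * z') * z⁻¹ = (z * z')⁻¹ by
        rw [_root_.mul_inv_rev, inv_eq_of_mul_eq_one_right qz'.zz, ← mul_assoc, qz.zz, one_mul]]
      exact inv_mem (Subgroup.mem_zpowers _)
    have hP1 := IsPGroup.to_sup_of_normal_right' hB hA hnorm
    set P1 := Subgroup.zpowers z ⊔ A
    have hP1H : P1 ≤ H := sup_le (Subgroup.zpowers_le.2 hzH) (Subgroup.zpowers_le.2 (mul_mem hzH hz'H))
    -- conjugate into the monomial group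
    let HG := H.subgroupOf (isoGroup (formSum : LinearMap.BilinForm F (Vec ι F)))
    have hPHG : (P : Subgroup _) ≤ HG := by rw [hP]; exact fun y hy => hW hy
    let PH : Sylow 2 HG := P.subtype hPHG
    obtain ⟨Q, hQ⟩ := (((hP1.comap_of_injective (isoGroup formSum).subtype
      (Subgroup.subtype_injective _))).comap_of_injective HG.subtype
        (Subgroup.subtype_injective _)).exists_le_sylow
    obtain ⟨h₀, hh₀⟩ := MulAction.exists_smul_eq HG Q PH
    set h : Vec ι F ≃ₗ[F] Vec ι F :=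
      ((h₀ : isoGroup (formSum : LinearMap.BilinForm F (Vec ι F))) : Vec ι F ≃ₗ[F] Vec ι F)
    have hh : h ∈ H := h₀.2
    have hmove : ∀ y ∈ P1, h * y * h⁻¹ ∈ W := by
      intro y hy
      have hyQ : (⟨⟨y, hH y (hP1H hy)⟩, hP1H hy⟩ : HG) ∈ (Q : Subgroup HG) := hQ hy
      have h1 : h₀ * ⟨⟨y, hH y (hP1H hy)⟩, hP1H hy⟩ * h₀⁻¹ ∈ (PH : Subgroup HG) := by
        rw [← hh₀, Sylow.coe_subgroup_smul]
        exact Subgroup.smul_mem_pointwise_smul _ (MulAut.conj h₀) _ hyQ
      rw [Sylow.coe_subtype, Subgroup.mem_subgroupOf, hP] at h1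
      exact h1
    have hm1 := hmove z (Subgroup.mem_sup_left (Subgroup.mem_zpowers z))
    have hz'P : z' ∈ P1 := by
      have := P1.mul_mem (Subgroup.mem_sup_left (Subgroup.mem_zpowers z))
        (Subgroup.mem_sup_right (Subgroup.mem_zpowers (z * z')) : z * z' ∈ P1)
      rwa [← mul_assoc, qz.zz, one_mul] at this
    obtain ⟨a, ha⟩ := hblock _ (hconj h hh z hz) hm1
    obtain ⟨b, hb⟩ := hblock _ (hconj h hh z' hz') (hmove z' hz'P)
    have hab : zb a * zb b = zb (F := F) b * zb a := by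
      rcases eq_or_ne a b with rfl | hne
      · rfl
      · exact el_mul_comm hne _ _
    rw [← ha, ← hb] at hab
    have : h * (z * z') * h⁻¹ = h * (z' * z) * h⁻¹ := by
      rw [show h * (z * z') * h⁻¹ = h * z * h⁻¹ * (h * z' * h⁻¹) by group, hab]; group
    exact mul_left_cancel (mul_right_cancel this)
  -- all members of the class are block involutions
  have hall : ∀ h ∈ H, ∀ a, ∃ b, h * zb a * h⁻¹ = zb b := by
    intro h hh a
    have hmem : h * zb a * h⁻¹ ∈ D := ⟨h, hh, a, rfl⟩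
    obtain ⟨x, -, y, -, q⟩ := hquat _ hmem
    obtain ⟨g, hg⟩ := exists_mono_of_commute h2 q.isoz fun b =>
      hdata.commute h2 isSymp_formSum hmem ⟨1, one_mem H, b, by rw [one_mul, inv_one, mul_one]⟩
    rcases involution_cases h2 (S := (⊤ : Subgroup (S2 F))) (hg ▸ q.zz) (hg ▸ q.plane) with
      ⟨-, b, hb⟩ | ⟨b, c, hbc, hsw, -, -⟩
    · exact ⟨b, hg.trans hb⟩
    · exfalso
      have := congrArg (fun σ : Perm ι => σ b) hsw
      simp only [swap_apply_left, Perm.coe_one, id_eq] at this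
      exact hbc this
  intro x hx
  choose π hπ using hall x hx
  obtain ⟨g, σ, -, rfl⟩ := exists_mono_of_blk (hH x hx) π fun a v hv => by
    rw [← moved_zb h2] at hv ⊢
    rw [← hπ a]
    exact moved_conj x _ hv
  have hgN : ∀ a, g a ∈ Subgroup.normalizer ((S : Subgroup (S2 F)) : Set (S2 F)) := fun a =>
    CfsgLib.SL2Char.mem_normalizer_of_conj_mem fun s hs => by
      have h := mul_mem (mul_mem hx (hW (el_mem_monoSub _ (σ.symm a) hs))) (inv_mem hx)
      rw [mono_conj_el, apply_symm_apply] at h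
      exact hX a _ h
  have hcom : ∀ a, w * g a * w⁻¹ * (g a)⁻¹ ∈ S := by
    intro a
    obtain ⟨e, he⟩ := d.norm (g a) (hgN a)
    set s := g a * (w ^ e)⁻¹
    have hga : g a = s * w ^ e := by rw [inv_mul_cancel_right]
    rw [hga, show w * (s * w ^ e) * w⁻¹ * (s * w ^ e)⁻¹ = (w * s * w⁻¹) * s⁻¹ by
      rw [_root_.mul_inv_rev]
      have : w ^ e * w⁻¹ = w⁻¹ * w ^ e := ((Commute.refl w).inv_left.pow_right e).eq.symm
      calc w * (s * w ^ e) * w⁻¹ * ((w ^ e)⁻¹ * s⁻¹)
          = w * s * (w ^ e * w⁻¹) * (w ^ e)⁻¹ * s⁻¹ := by group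
        _ = (w * s * w⁻¹) * s⁻¹ := by rw [this]; group]
    exact S.mul_mem ((Subgroup.mem_normalizer_iff.1 d.wN s).1 he) (S.inv_mem he)
  have heq : dg w * mono g σ * (dg w)⁻¹ =
      mono (fun a => w * g a * w⁻¹ * (g a)⁻¹) 1 * mono g σ := by
    rw [← dg_inv, dg, dg, mono_mul, mono_mul, mono_mul, one_mul, mul_one]
    congr 1
    funext a
    simp only [show ∀ b : ι, (1 : Perm ι).symm b = b from fun _ => rfl]
    rw [inv_mul_cancel_right]
  rw [heq]
  exact mul_mem (hW (mono_mem_monoSub.2 ⟨hcom, one_mem _⟩)) hx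

end CfsgLib.HallGen.Pronormal
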