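import Cfsg.Agent.Lib.Char.Exceptional.GLFlags
import Cfsg.Agent.Lib.Fusion.PSUFlag

/-!
# The Bruhat normal form and its invariance under the unitary involution

`g = u w t v` uniquely, with `u` in the part of the unitriangular group moved below the diagonal by `w`. For a
unitary matrix all factors are unitary.
-/

set_option autoImplicit false
set_option linter.all false

namespace CfsgLib.HallGen.Pronormal.Unit

open Matrix CfsgLib.GLParabolic

variable {n : ℕ} {F : Type*} [Field F]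

/-- Lower triangular elements. -/
def lowGL (n : ℕ) (F : Type*) [Field F] : Subgroup (GL (Fin n) F) where
  carrier := {g | g.val.BlockTriangular OrderDual.toDual}
  mul_mem' := fun ha hb => Matrix.BlockTriangular.mul ha hb
  one_mem' := Matrix.blockTriangular_one
  inv_mem' := fun {a} ha => by
    change (a⁻¹).val.BlockTriangular OrderDual.toDual
    haveI : Invertible a.val := a.invertible
    rw [Matrix.coe_units_inv]
    exact Matrix.blockTriangular_inv_of_blockTriangular ha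

theorem mem_lowGL {g : GL (Fin n) F} : g ∈ lowGL n F ↔ ∀ a b, a < b → g.val a b = 0 :=
  ⟨fun h a b hab => h hab, fun h a b hab => h a b hab⟩

theorem mem_upper {g : GL (Fin n) F} :
    g ∈ Cfsg.upperTriangularGL n F ↔ ∀ a b, b < a → g.val a b = 0 :=
  ⟨fun h a b hab => h hab, fun h a b hab => h a b hab⟩

theorem diag_mul {g h : GL (Fin n) F} (hg : g ∈ Cfsg.upperTriangularGL n F)
    (hh : h ∈ Cfsg.upperTriangularGL n F) (i : Fin n) : (g * h).val i i = g.val i i * h.val i i := by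
  rw [Units.val_mul, Matrix.mul_apply, Finset.sum_eq_single i]
  · intro k _ hk
    rcases lt_or_gt_of_ne hk with h' | h'
    · rw [mem_upper.1 hg i k h', zero_mul]
    · rw [mem_upper.1 hh k i h', mul_zero]
  · simp

/-- Upper unitriangular elements. -/
def uu (n : ℕ) (F : Type*) [Field F] : Subgroup (GL (Fin n) F) where
  carrier := {g | g ∈ Cfsg.upperTriangularGL n F ∧ ∀ i, g.val i i = 1}
  mul_mem' := fun ha hb => ⟨mul_mem ha.1 hb.1, fun i => by rw [diag_mul ha.1 hb.1, ha.2, hb.2, mul_one]⟩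
  one_mem' := ⟨one_mem _, fun i => by simp⟩
  inv_mem' := fun {a} ha => ⟨inv_mem ha.1, fun i => by
    have h := diag_mul (inv_mem ha.1) ha.1 i
    rw [inv_mul_cancel, ha.2, mul_one] at h
    simpa using h.symm⟩

theorem mem_uu {g : GL (Fin n) F} :
    g ∈ uu n F ↔ ∀ a b, b ≤ a → g.val a b = if a = b then 1 else 0 := by
  constructor
  · rintro ⟨h1, h2⟩ a b hab
    rcases hab.eq_or_lt with rfl | h
    · rw [if_pos rfl, h2]
    · rw [if_neg h.ne', mem_upper.1 h1 a b h]
  · intro h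
    exact ⟨mem_upper.2 fun a b hab => (h a b hab.le).trans (if_neg hab.ne'),
      fun i => (h i i le_rfl).trans (if_pos rfl)⟩

/-- Monomial conjugation permutes the entries. -/
theorem conj_entry (σ : Equiv.Perm (Fin n)) (g : GL (Fin n) F) (a b : Fin n) :
    ((wGL n F σ)⁻¹ * g * wGL n F σ).val a b = g.val (σ a) (σ b) := by
  rw [← map_inv, Units.val_mul, Units.val_mul, Matrix.mul_apply, Finset.sum_eq_single (σ b)]
  · rw [Matrix.mul_apply, Finset.sum_eq_single (σ a), wGL_apply, wGL_apply, if_pos (by simp), if_pos rfl]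
    · simp
    · intro c _ hc
      rw [wGL_apply, if_neg (fun h => hc (by rw [h]; simp)), zero_mul]
    · simp
  · intro c _ hc
    rw [wGL_apply, if_neg hc, mul_zero]
  · simp

/-- The part moved below the diagonal. -/
def pDown (σ : Equiv.Perm (Fin n)) : Subgroup (GL (Fin n) F) :=
  uu n F ⊓ (lowGL n F).comap (MulAut.conj (wGL n F σ)⁻¹).toMonoidHom

/-- The part kept above the diagonal. -/
def pUp (σ : Equiv.Perm (Fin n)) : Subgroup (GL (Fin n) F) :=
  uu n F ⊓ (Cfsg.upperTriangularGL n F).comap (MulAut.conj (wGL n F σ)⁻¹).toMonoidHom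

theorem mem_pDown {σ : Equiv.Perm (Fin n)} {g : GL (Fin n) F} :
    g ∈ pDown σ ↔ g ∈ uu n F ∧ ∀ i j, i < j → σ⁻¹ i < σ⁻¹ j → g.val i j = 0 := by
  refine and_congr_right fun hg => ?_
  show (wGL n F σ)⁻¹ * g * (wGL n F σ)⁻¹⁻¹ ∈ lowGL n F ↔ _
  rw [inv_inv, mem_lowGL]
  simp only [conj_entry]
  constructor
  · intro h i j _ hij'
    have := h _ _ hij'
    simpa using this
  · intro h a b hab
    rcases lt_trichotomy (σ a) (σ b) with h' | h' | h'
    · exact h _ _ h' (by simpa using hab)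
    · exact absurd (σ.injective h') hab.ne
    · exact mem_upper.1 hg.1 _ _ h'

theorem mem_pUp {σ : Equiv.Perm (Fin n)} {g : GL (Fin n) F} :
    g ∈ pUp σ ↔ g ∈ uu n F ∧ ∀ i j, i < j → σ⁻¹ j < σ⁻¹ i → g.val i j = 0 := by
  refine and_congr_right fun hg => ?_
  show (wGL n F σ)⁻¹ * g * (wGL n F σ)⁻¹⁻¹ ∈ Cfsg.upperTriangularGL n F ↔ _
  rw [inv_inv, mem_upper]
  simp only [conj_entry]
  constructor
  · intro h i j _ hij'
    have := h _ _ hij'
    simpa using this
  · intro h a b hab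
    rcases lt_trichotomy (σ a) (σ b) with h' | h' | h'
    · exact h _ _ h' (by simpa using hab)
    · exact absurd (σ.injective h').symm hab.ne
    · exact mem_upper.1 hg.1 _ _ h'

theorem eq_one_of_down_up {σ : Equiv.Perm (Fin n)} {g : GL (Fin n) F} (h1 : g ∈ pDown σ) (h2 : g ∈ pUp σ) :
    g = 1 := by
  rw [mem_pDown] at h1
  rw [mem_pUp] at h2
  refine Units.ext (Matrix.ext fun a b => ?_)
  rw [Units.val_one, Matrix.one_apply]
  rcases le_or_gt b a with h | h
  · exact mem_uu.1 h1.1 a b h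
  · rw [if_neg h.ne]
    rcases lt_trichotomy (σ⁻¹ a) (σ⁻¹ b) with h' | h' | h'
    · exact h1.2 a b h h'
    · exact absurd (σ⁻¹.injective h') h.ne
    · exact h2.2 a b h h'

/-- The matrix with prescribed entries above the diagonal. -/
def patMat (x : Fin n → Fin n → F) : Matrix (Fin n) (Fin n) F :=
  Matrix.of fun i j => if i < j then x i j else if i = j then 1 else 0

theorem exists_uu (x : Fin n → Fin n → F) : ∃ g ∈ uu n F, ∀ i j, i < j → g.val i j = x i j := by
  have hbt : (patMat x).BlockTriangular id := fun i j hij => by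
    show (if i < j then _ else _) = _
    rw [if_neg (asymm (show j < i from hij)), if_neg (ne_of_gt (show j < i from hij))]
  have hdet : (patMat x).det ≠ 0 := by
    rw [Matrix.det_of_isUpperTriangular hbt,
      Finset.prod_eq_one fun i _ => show patMat x i i = 1 by simp [patMat]]
    exact one_ne_zero
  refine ⟨GeneralLinearGroup.mkOfDetNeZero (patMat x) hdet, mem_uu.2 fun a b hab => ?_, fun i j hij => ?_⟩
  · show patMat x a b = _
    simp [patMat, not_lt.2 hab]
  · show patMat x i j = _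
    simp [patMat, hij]

theorem uu_ext {g h : GL (Fin n) F} (hg : g ∈ uu n F) (hh : h ∈ uu n F)
    (he : ∀ i j, i < j → g.val i j = h.val i j) : g = h := by
  refine Units.ext (Matrix.ext fun a b => ?_)
  rcases le_or_gt b a with hab | hab
  · rw [mem_uu.1 hg a b hab, mem_uu.1 hh a b hab]
  · exact he a b hab

/-- The unitriangular group is the product of its two parts. -/
theorem exists_down_up [Finite F] (σ : Equiv.Perm (Fin n)) {u : GL (Fin n) F} (hu : u ∈ uu n F) :
    ∃ a ∈ pDown σ, ∃ b ∈ pUp σ, u = a * b := by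
  classical
  haveI : Finite (GL (Fin n) F) := Finite.of_injective Units.val Units.val_injective
  let Φ : (pDown (F := F) σ) × (pUp (F := F) σ) → uu n F := fun p =>
    ⟨p.1.1 * p.2.1, mul_mem (mem_pDown.1 p.1.2).1 (mem_pUp.1 p.2.2).1⟩
  have hinj : Function.Injective Φ := by
    rintro ⟨⟨a, ha⟩, b, hb⟩ ⟨⟨a', ha'⟩, b', hb'⟩ h
    have h' : a * b = a' * b' := congrArg Subtype.val h
    have e : a'⁻¹ * a = b' * b⁻¹ := by
      rw [inv_mul_eq_iff_eq_mul, ← mul_assoc, ← h', mul_inv_cancel_right]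
    have h1 := eq_one_of_down_up (mul_mem (inv_mem ha') ha) (e ▸ mul_mem hb' (inv_mem hb))
    obtain rfl : a' = a := inv_mul_eq_one.1 h1
    obtain rfl : b = b' := mul_left_cancel h'
    rfl
  let Ψ : uu n F → (pDown (F := F) σ) × (pUp (F := F) σ) := fun g =>
    (⟨(exists_uu fun i j => if σ⁻¹ i < σ⁻¹ j then 0 else g.1.val i j).choose,
      mem_pDown.2 ⟨(exists_uu _).choose_spec.1, fun i j hij h => by
        rw [(exists_uu _).choose_spec.2 i j hij, if_pos h]⟩⟩,
     ⟨(exists_uu fun i j => if σ⁻¹ j < σ⁻¹ i then 0 else g.1.val i j).choose,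
      mem_pUp.2 ⟨(exists_uu _).choose_spec.1, fun i j hij h => by
        rw [(exists_uu _).choose_spec.2 i j hij, if_pos h]⟩⟩)
  have hinj' : Function.Injective Ψ := by
    intro g h e
    refine Subtype.ext (uu_ext g.2 h.2 fun i j hij => ?_)
    have e1 := congrArg (fun z : (pDown (F := F) σ) × (pUp (F := F) σ) => z.1.1.val i j) e
    have e2 := congrArg (fun z : (pDown (F := F) σ) × (pUp (F := F) σ) => z.2.1.val i j) e
    simp only [Ψ] at e1 e2
    rw [(exists_uu _).choose_spec.2 i j hij, (exists_uu _).choose_spec.2 i j hij] at e1 e2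
    rcases lt_trichotomy (σ⁻¹ i) (σ⁻¹ j) with h' | h' | h'
    · rwa [if_neg (asymm h'), if_neg (asymm h')] at e2
    · exact absurd (σ⁻¹.injective h') hij.ne
    · rwa [if_neg (asymm h'), if_neg (asymm h')] at e1
  obtain ⟨⟨⟨a, ha⟩, b, hb⟩, he⟩ := (hinj.bijective_of_nat_card_le (Nat.card_le_card_of_injective Ψ hinj')).2 ⟨u, hu⟩
  exact ⟨a, ha, b, hb, (congrArg Subtype.val he).symm⟩

/-- The normal form. -/
theorem exists_normal_form [Finite F] (g : GL (Fin n) F) :
    ∃ σ, ∃ u ∈ pDown σ, ∃ b ∈ Cfsg.upperTriangularGL n F, g = u * wGL n F σ * b := by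
  classical
  obtain ⟨b₁, hb₁, σ, b₂, hb₂, rfl⟩ := exists_bruhat g
  have hd : ∀ i, b₁.val i i ≠ 0 := fun i h => by
    have hdet : b₁.val.det = 0 := by
      rw [Matrix.det_of_isUpperTriangular hb₁]
      exact Finset.prod_eq_zero (Finset.mem_univ i) h
    exact ((Matrix.isUnit_iff_isUnit_det _).1 b₁.isUnit).ne_zero hdet
  let d : GL (Fin n) F := GeneralLinearGroup.mkOfDetNeZero (Matrix.diagonal fun i => b₁.val i i) (by
    rw [Matrix.det_diagonal]; exact Finset.prod_ne_zero_iff.2 fun i _ => hd i)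
  have hdU : d ∈ Cfsg.upperTriangularGL n F := Matrix.blockTriangular_diagonal _
  have hu : b₁ * d⁻¹ ∈ uu n F := by
    refine ⟨mul_mem hb₁ (inv_mem hdU), fun i => ?_⟩
    have h := diag_mul (mul_mem hb₁ (inv_mem hdU)) hdU i
    rw [inv_mul_cancel_right] at h
    have hdd : d.val i i = b₁.val i i := Matrix.diagonal_apply_eq _ i
    rw [hdd] at h
    exact (mul_eq_right₀ (hd i)).1 h.symm
  obtain ⟨a, ha, c, hc, he⟩ := exists_down_up σ hu
  have hconj : (wGL n F σ)⁻¹ * (c * d) * wGL n F σ ∈ Cfsg.upperTriangularGL n F := by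
    have h1 : (wGL n F σ)⁻¹ * c * wGL n F σ ∈ Cfsg.upperTriangularGL n F := by
      have := hc.2
      simpa using this
    have h2 : (wGL n F σ)⁻¹ * d * wGL n F σ ∈ Cfsg.upperTriangularGL n F := mem_upper.2 fun x y hxy => by
      rw [conj_entry]
      exact Matrix.diagonal_apply_ne _ (σ.injective.ne hxy.ne')
    rw [show (wGL n F σ)⁻¹ * (c * d) * wGL n F σ =
      (wGL n F σ)⁻¹ * c * wGL n F σ * ((wGL n F σ)⁻¹ * d * wGL n F σ) by group]
    exact mul_mem h1 h2
  refine ⟨σ, a, ha, _, mul_mem hconj hb₂, ?_⟩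
  conv_lhs => rw [show b₁ = a * c * d by rw [← he, inv_mul_cancel_right]]
  group

/-- Uniqueness of the permutation. -/
theorem perm_unique {u u' b b' : GL (Fin n) F} (hu : u ∈ uu n F) (hu' : u' ∈ uu n F)
    (hb : b ∈ Cfsg.upperTriangularGL n F) (hb' : b' ∈ Cfsg.upperTriangularGL n F)
    {σ σ' : Equiv.Perm (Fin n)} (h : u * wGL n F σ * b = u' * wGL n F σ' * b') : σ = σ' := by
  have key : ∀ {u u' b b' : GL (Fin n) F}, u ∈ uu n F → u' ∈ uu n F → b ∈ Cfsg.upperTriangularGL n F →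
      b' ∈ Cfsg.upperTriangularGL n F → ∀ {σ σ' : Equiv.Perm (Fin n)},
      u * wGL n F σ * b = u' * wGL n F σ' * b' → ∀ i, σ⁻¹ i ≤ σ'⁻¹ i := by
    intro u u' b b' hu hu' hb hb' σ σ' h i
    have e : (wGL n F σ)⁻¹ * (u⁻¹ * u') * wGL n F σ' = b * b'⁻¹ := by
      have h' := congrArg (fun z => (wGL n F σ)⁻¹ * u⁻¹ * z * b'⁻¹) h
      rw [show (wGL n F σ)⁻¹ * u⁻¹ * (u * wGL n F σ * b) * b'⁻¹ = b * b'⁻¹ by group] at h'
      rw [h']; group
    by_contra hlt
    have h0 := mem_upper.1 (mul_mem hb (inv_mem hb')) (σ⁻¹ i) (σ'⁻¹ i) (not_le.1 hlt)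
    rw [← e, ← map_inv, Units.val_mul, Units.val_mul, Matrix.mul_apply,
      Finset.sum_eq_single i, Matrix.mul_apply, Finset.sum_eq_single i] at h0
    · rw [wGL_apply, wGL_apply, if_pos (by simp), if_pos (by simp), (mul_mem (inv_mem hu) hu').2 i] at h0
      simp at h0
    · intro c _ hc
      rw [wGL_apply, if_neg (fun hh => hc (by simpa using hh.symm)), zero_mul]
    · simp
    · intro c _ hc
      rw [wGL_apply, if_neg (fun hh => hc (by simpa using hh)), mul_zero]
    · simp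
  refine inv_injective (Equiv.ext fun i => le_antisymm (key hu hu' hb hb' h i) (key hu' hu hb' hb h.symm i))

theorem form_unique {σ : Equiv.Perm (Fin n)} {u u' b b' : GL (Fin n) F} (hu : u ∈ pDown σ) (hu' : u' ∈ pDown σ)
    (hb : b ∈ Cfsg.upperTriangularGL n F) (hb' : b' ∈ Cfsg.upperTriangularGL n F)
    (h : u * wGL n F σ * b = u' * wGL n F σ * b') : u = u' ∧ b = b' := by
  have e : (wGL n F σ)⁻¹ * (u⁻¹ * u') * wGL n F σ = b * b'⁻¹ := by
    have h' := congrArg (fun z => (wGL n F σ)⁻¹ * u⁻¹ * z * b'⁻¹) h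
    rw [show (wGL n F σ)⁻¹ * u⁻¹ * (u * wGL n F σ * b) * b'⁻¹ = b * b'⁻¹ by group] at h'
    rw [h']; group
  have hd := mul_mem (inv_mem hu) hu'
  have h1 : u⁻¹ * u' = 1 := eq_one_of_down_up hd ⟨hd.1, by
    show MulAut.conj (wGL n F σ)⁻¹ (u⁻¹ * u') ∈ Cfsg.upperTriangularGL n F
    rw [MulAut.conj_apply, inv_inv, e]
    exact mul_mem hb (inv_mem hb')⟩
  obtain rfl : u = u' := inv_mul_eq_one.1 h1
  exact ⟨rfl, mul_left_cancel h⟩

/-- Diagonal elements. -/
def diagGL (n : ℕ) (F : Type*) [Field F] : Subgroup (GL (Fin n) F) :=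
  Cfsg.upperTriangularGL n F ⊓ lowGL n F

theorem mem_diagGL {g : GL (Fin n) F} : g ∈ diagGL n F ↔ ∀ a b, a ≠ b → g.val a b = 0 := by
  show g ∈ Cfsg.upperTriangularGL n F ∧ g ∈ lowGL n F ↔ _
  rw [mem_upper, mem_lowGL]
  exact ⟨fun h a b hab => (lt_or_gt_of_ne hab).elim (h.2 a b) (h.1 a b),
    fun h => ⟨fun a b hab => h a b hab.ne', fun a b hab => h a b hab.ne⟩⟩

theorem exists_torus_split {b : GL (Fin n) F} (hb : b ∈ Cfsg.upperTriangularGL n F) :
    ∃ t ∈ diagGL n F, ∃ v ∈ uu n F, b = t * v := by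
  classical
  have hd : ∀ i, b.val i i ≠ 0 := fun i h => by
    have hdet : b.val.det = 0 := by
      rw [Matrix.det_of_isUpperTriangular hb]
      exact Finset.prod_eq_zero (Finset.mem_univ i) h
    exact ((Matrix.isUnit_iff_isUnit_det _).1 b.isUnit).ne_zero hdet
  let d : GL (Fin n) F := GeneralLinearGroup.mkOfDetNeZero (Matrix.diagonal fun i => b.val i i) (by
    rw [Matrix.det_diagonal]; exact Finset.prod_ne_zero_iff.2 fun i _ => hd i)
  have hdD : d ∈ diagGL n F := mem_diagGL.2 fun x y hxy => Matrix.diagonal_apply_ne _ hxy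
  refine ⟨d, hdD, d⁻¹ * b, ⟨mul_mem (inv_mem hdD.1) hb, fun i => ?_⟩, (mul_inv_cancel_left d b).symm⟩
  have h := diag_mul hdD.1 (mul_mem (inv_mem hdD.1) hb) i
  rw [mul_inv_cancel_left] at h
  have hdd : d.val i i = b.val i i := Matrix.diagonal_apply_eq _ i
  rw [hdd] at h
  exact (mul_eq_left₀ (hd i)).1 h.symm

theorem torus_split_unique {t t' v v' : GL (Fin n) F} (ht : t ∈ diagGL n F) (ht' : t' ∈ diagGL n F)
    (hv : v ∈ uu n F) (hv' : v' ∈ uu n F) (h : t * v = t' * v') : t = t' ∧ v = v' := by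
  have h1 : t = t' := by
    refine Units.ext (Matrix.ext fun a b => ?_)
    by_cases hab : a = b
    · subst hab
      have e : (t * v).val a a = (t' * v').val a a := by rw [h]
      rwa [diag_mul ht.1 hv.1, diag_mul ht'.1 hv'.1, hv.2, hv'.2, mul_one, mul_one] at e
    · rw [mem_diagGL.1 ht a b hab, mem_diagGL.1 ht' a b hab]
  subst h1
  exact ⟨rfl, mul_left_cancel h⟩

theorem diag_commute {t t' : GL (Fin n) F} (ht : t ∈ diagGL n F) (ht' : t' ∈ diagGL n F) :
    t * t' = t' * t := by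
  have e : ∀ x : GL (Fin n) F, x ∈ diagGL n F → x.val = Matrix.diagonal fun i => x.val i i := fun x hx => by
    ext a b
    by_cases hab : a = b
    · subst hab; simp
    · rw [Matrix.diagonal_apply_ne _ hab, mem_diagGL.1 hx a b hab]
  refine Units.ext ?_
  rw [Units.val_mul, Units.val_mul, e t ht, e t' ht', Matrix.diagonal_mul_diagonal, Matrix.diagonal_mul_diagonal]
  simp only [mul_comm]

theorem conj_diag {σ : Equiv.Perm (Fin n)} {t : GL (Fin n) F} (ht : t ∈ diagGL n F) :
    (wGL n F σ)⁻¹ * t * wGL n F σ ∈ diagGL n F :=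
  mem_diagGL.2 fun a b hab => by rw [conj_entry, mem_diagGL.1 ht _ _ (σ.injective.ne hab)]

/-! ### The unitary involution -/

section Invol

variable (s : F →+* F)

/-- Transpose about the antidiagonal and apply `s`. -/
def flip (X : Matrix (Fin n) (Fin n) F) : Matrix (Fin n) (Fin n) F :=
  Matrix.of fun a j => s (X j.rev a.rev)

theorem flip_apply (X : Matrix (Fin n) (Fin n) F) (a j : Fin n) : flip s X a j = s (X j.rev a.rev) := rfl

theorem flip_one : flip s (1 : Matrix (Fin n) (Fin n) F) = 1 := by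
  ext a j
  rw [flip_apply, Matrix.one_apply, Matrix.one_apply]
  by_cases h : a = j
  · simp [h]
  · rw [if_neg fun e => h (Fin.rev_injective e).symm, if_neg h, map_zero]

theorem flip_mul (X Y : Matrix (Fin n) (Fin n) F) : flip s (X * Y) = flip s Y * flip s X := by
  ext a j
  rw [flip_apply, Matrix.mul_apply, map_sum, Matrix.mul_apply, ← Equiv.sum_comp (Fin.revPerm (n := n))]
  refine Finset.sum_congr rfl fun k _ => ?_
  rw [flip_apply, flip_apply, Fin.revPerm_apply, map_mul, mul_comm]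

/-- The involution of the general linear group. -/
def tau : GL (Fin n) F →* GL (Fin n) F where
  toFun g :=
    { val := flip s g⁻¹.val
      inv := flip s g.val
      val_inv := by rw [← flip_mul, Units.mul_inv, flip_one]
      inv_val := by rw [← flip_mul, Units.inv_mul, flip_one] }
  map_one' := Units.ext (by simp [flip_one])
  map_mul' g h := Units.ext (by
    show flip s (g * h)⁻¹.val = flip s g⁻¹.val * flip s h⁻¹.val
    rw [_root_.mul_inv_rev, Units.val_mul, flip_mul])

theorem tau_val (g : GL (Fin n) F) : (tau s g).val = flip s g⁻¹.val := rfl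

theorem tau_upper {g : GL (Fin n) F} (hg : g ∈ Cfsg.upperTriangularGL n F) :
    tau s g ∈ Cfsg.upperTriangularGL n F :=
  mem_upper.2 fun a b hab => by
    rw [tau_val, flip_apply, mem_upper.1 (inv_mem hg) _ _ (Fin.rev_lt_rev.2 hab), map_zero]

theorem tau_low {g : GL (Fin n) F} (hg : g ∈ lowGL n F) : tau s g ∈ lowGL n F :=
  mem_lowGL.2 fun a b hab => by
    rw [tau_val, flip_apply, mem_lowGL.1 (inv_mem hg) _ _ (Fin.rev_lt_rev.2 hab), map_zero]

theorem tau_uu {g : GL (Fin n) F} (hg : g ∈ uu n F) : tau s g ∈ uu n F :=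
  ⟨tau_upper s hg.1, fun i => by rw [tau_val, flip_apply, (inv_mem hg : g⁻¹ ∈ uu n F).2, map_one]⟩

theorem tau_diag {g : GL (Fin n) F} (hg : g ∈ diagGL n F) : tau s g ∈ diagGL n F :=
  ⟨tau_upper s hg.1, tau_low s hg.2⟩

theorem tau_wGL (σ : Equiv.Perm (Fin n)) :
    tau s (wGL n F σ) = wGL n F (Fin.revPerm * σ * Fin.revPerm) := by
  refine Units.ext (Matrix.ext fun a b => ?_)
  rw [tau_val, flip_apply, ← map_inv, wGL_apply, wGL_apply]
  have : b.rev = σ⁻¹ a.rev ↔ a = (Fin.revPerm * σ * Fin.revPerm : Equiv.Perm (Fin n)) b := by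
    simp only [Equiv.Perm.mul_apply, Fin.revPerm_apply, Equiv.Perm.eq_inv_iff_eq]
    exact ⟨fun h => by rw [h, Fin.rev_rev], fun h => by rw [h, Fin.rev_rev]⟩
  by_cases h : b.rev = σ⁻¹ a.rev
  · rw [if_pos h, if_pos (this.1 h), map_one]
  · rw [if_neg h, if_neg (this.not.1 h), map_zero]

/-- The factors of a fixed element are fixed. -/
theorem tau_fixed_form [Finite F] {g : GL (Fin n) F} (hg : tau s g = g) :
    ∃ σ, ∃ u ∈ uu n F, ∃ t ∈ diagGL n F, ∃ v ∈ uu n F, g = u * (wGL n F σ * t) * v ∧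
      tau s u = u ∧ tau s (wGL n F σ * t) = wGL n F σ * t ∧ tau s v = v := by
  obtain ⟨σ, u, hu, b, hb, rfl⟩ := exists_normal_form g
  rw [map_mul, map_mul] at hg
  have hσ : Fin.revPerm * σ * Fin.revPerm = σ := by
    refine perm_unique (tau_uu s hu.1) hu.1 (tau_upper s hb) hb ?_
    rw [← tau_wGL s σ]; exact hg
  have hw : tau s (wGL n F σ) = wGL n F σ := by rw [tau_wGL, hσ]
  have htu : tau s u ∈ pDown σ := by
    refine ⟨tau_uu s hu.1, ?_⟩
    show MulAut.conj (wGL n F σ)⁻¹ (tau s u) ∈ lowGL n F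
    have h := tau_low s (show MulAut.conj (wGL n F σ)⁻¹ u ∈ lowGL n F from hu.2)
    rw [MulAut.conj_apply, inv_inv] at h ⊢
    rwa [map_mul, map_mul, map_inv, hw] at h
  rw [hw] at hg
  obtain ⟨h1, h2⟩ := form_unique htu hu (tau_upper s hb) hb hg
  obtain ⟨t, ht, v, hv, rfl⟩ := exists_torus_split hb
  rw [map_mul] at h2
  obtain ⟨h3, h4⟩ := torus_split_unique (tau_diag s ht) ht (tau_uu s hv) hv h2
  exact ⟨σ, u, hu.1, t, ht, v, hv, by group, h1, by rw [map_mul, hw, h3], h4⟩

end Invol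

end CfsgLib.HallGen.Pronormal.Unit
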