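import Cfsg.Agent.Lib.HallGen.Pronormal.UnitBruhat
import Cfsg.Agent.Lib.HallGen.Pronormal.Good
import Cfsg.Agent.Lib.Known.SL2Char.SylowTwo

/-!
# Odd index subgroups of the special unitary groups, even characteristic

An overgroup of the unipotent group of a maximal flag is normalised by the diagonal elements.
-/

set_option autoImplicit false
set_option linter.all false

namespace CfsgLib.HallGen.Pronormal.Unit

open Matrix CfsgLib.GLParabolic CfsgLib.Classical CfsgLib.Classical.Herm CfsgLib.Fusion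

variable {n : ℕ} {F : Type*} [Field F]

/-! ### An abstract criterion -/

/-- Overgroups of a Sylow subgroup are normalised by its normalizer. -/
theorem conj_mem_of_bruhat {G : Type*} [Group G] [Finite G] {p : ℕ} [Fact p.Prime] (P : Sylow p G)
    (T : Subgroup G) (hT : ∀ a ∈ T, ∀ b ∈ T, a * b = b * a)
    (hTP : ∀ t ∈ T, ∀ y ∈ (P : Subgroup G), t * y * t⁻¹ ∈ (P : Subgroup G))
    (hbr : ∀ g : G, ∃ u ∈ (P : Subgroup G), ∃ m : G, ∃ v ∈ (P : Subgroup G),
      g = u * m * v ∧ ∀ t ∈ T, m⁻¹ * t * m ∈ T)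
    (hN : ∀ g ∈ Subgroup.normalizer ((P : Subgroup G) : Set G),
      ∃ u ∈ (P : Subgroup G), ∃ t ∈ T, g = u * t)
    {K : Subgroup G} (hK : (P : Subgroup G) ≤ K) {t : G} (ht : t ∈ T) {k : G} (hk : k ∈ K) :
    t * k * t⁻¹ ∈ K := by
  set S : Set G := {x | ∃ a ∈ K, ∃ y ∈ (P : Subgroup G), x = a * y * a⁻¹} with hS
  set K₀ := Subgroup.closure S with hK₀
  have hK₀K : K₀ ≤ K := (Subgroup.closure_le _).2 fun x ⟨a, ha, y, hy, e⟩ => by
    rw [e]; exact mul_mem (mul_mem ha (hK hy)) (inv_mem ha)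
  have hPK₀ : (P : Subgroup G) ≤ K₀ := fun y hy =>
    Subgroup.subset_closure ⟨1, one_mem _, y, hy, by simp⟩
  have hinv : ∀ x ∈ K₀, t * x * t⁻¹ ∈ K₀ := by
    intro x hx
    refine (Subgroup.closure_le (K := K₀.comap (MulAut.conj t).toMonoidHom)).2 ?_ hx
    rintro _ ⟨a, ha, y, hy, rfl⟩
    obtain ⟨u, hu, m, v, hv, he, hm⟩ := hbr a
    show t * (a * y * a⁻¹) * t⁻¹ ∈ K₀
    have hmP : ∀ z ∈ (P : Subgroup G), m * z * m⁻¹ ∈ K₀ := by
      intro z hz
      have h1 : a * (v⁻¹ * z * v) * a⁻¹ ∈ K₀ :=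
        Subgroup.subset_closure ⟨a, ha, _, mul_mem (mul_mem (inv_mem hv) hz) hv, rfl⟩
      have h2 := mul_mem (mul_mem (inv_mem (hPK₀ hu)) h1) (hPK₀ hu)
      convert h2 using 1
      rw [he]; group
    have e : t * (a * y * a⁻¹) * t⁻¹ = (t * u * t⁻¹) *
        (m * ((m⁻¹ * t * m) * (v * y * v⁻¹) * (m⁻¹ * t * m)⁻¹) * m⁻¹) * (t * u * t⁻¹)⁻¹ := by
      rw [he]; group
    rw [e]
    exact mul_mem (mul_mem (hPK₀ (hTP t ht u hu))
      (hmP _ (hTP _ (hm t ht) _ (mul_mem (mul_mem hv hy) (inv_mem hv))))) (inv_mem (hPK₀ (hTP t ht u hu)))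
  have h1 : ((k • P : Sylow p G) : Subgroup G) ≤ K₀ := by
    rintro _ ⟨y, hy, rfl⟩
    exact Subgroup.subset_closure ⟨k, hk, y, hy, rfl⟩
  obtain ⟨c, hc⟩ := MulAction.exists_smul_eq K₀ ((k • P).subtype h1) (P.subtype hPK₀)
  have hc' : ((c : G) * k) • P = P := by
    rw [Sylow.smul_subtype h1 c] at hc
    rw [mul_smul]
    exact Sylow.subtype_injective hc
  obtain ⟨u, hu, t₁, ht₁, he⟩ := hN _ (Sylow.smul_eq_iff_mem_normalizer.1 hc')
  have hcK : (c : G) * k ∈ K := mul_mem (hK₀K c.2) hk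
  have ht₁K : t₁ ∈ K := by
    have := mul_mem (inv_mem (hK hu)) hcK
    rwa [he, inv_mul_cancel_left] at this
  have e2 : t * k * t⁻¹ = (t * (c : G)⁻¹ * t⁻¹) * ((t * u * t⁻¹) * t₁) := by
    have hk' : k = (c : G)⁻¹ * (u * t₁) := by rw [← he, inv_mul_cancel_left]
    rw [hk', show t * ((c : G)⁻¹ * (u * t₁)) * t⁻¹ = t * (c : G)⁻¹ * t⁻¹ * (t * u * t⁻¹ * (t * t₁ * t⁻¹)) by group,
      hT t ht t₁ ht₁, mul_inv_cancel_right]
  rw [e2]
  exact mul_mem (hK₀K (hinv _ (inv_mem c.2))) (mul_mem (hK (hTP t ht u hu)) ht₁K)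

/-! ### The unitary group -/

variable {σ : F →+* F} [Fact (IsInvol σ)]

/-- Matrices. -/
def matGL : PSU.U n σ →* GL (Fin n) F :=
  MonoidHom.toHomUnits
    ({ toFun := PSU.mat, map_one' := PSU.mat_one, map_mul' := PSU.mat_mul } :
      PSU.U n σ →* Matrix (Fin n) (Fin n) F)

theorem matGL_val (g : PSU.U n σ) : (matGL g).val = PSU.mat g := rfl

theorem matGL_injective : Function.Injective (matGL (n := n) (σ := σ)) := fun g h e =>
  PSU.mat_injective (congrArg Units.val e)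

theorem tau_matGL (g : PSU.U n σ) : tau σ (matGL g) = matGL g := Units.ext (Matrix.ext fun a j => by
  rw [tau_val, ← map_inv, flip_apply, matGL_val, matGL_val]
  show σ (PSU.ent g⁻¹ j.rev a.rev) = PSU.ent g a j
  rw [← PSU.ent_inv, inv_inv])

theorem exists_matGL {X : GL (Fin n) F} (h : tau σ X = X) : ∃ g : PSU.U n σ, matGL g = X := by
  have hX : flip σ X.val * X.val = 1 := by
    have h1 : flip σ (X⁻¹)⁻¹.val = X⁻¹.val := by
      rw [← tau_val, map_inv, h]
    rw [inv_inv] at h1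
    rw [h1, Units.inv_mul]
  let L : (Fin n → F) ≃ₗ[F] (Fin n → F) :=
    { Matrix.mulVecLin X.val with
      invFun := fun v => X⁻¹.val *ᵥ v
      left_inv := fun v => by
        show X⁻¹.val *ᵥ (X.val *ᵥ v) = v
        rw [Matrix.mulVec_mulVec, Units.inv_mul, Matrix.one_mulVec]
      right_inv := fun v => by
        show X.val *ᵥ (X⁻¹.val *ᵥ v) = v
        rw [Matrix.mulVec_mulVec, Units.mul_inv, Matrix.one_mulVec] }
  have hpres : ∀ x y, PSU.revB σ n (L x) (L y) = PSU.revB σ n x y := by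
    intro x y
    have hL : ∀ v, L v = X.val *ᵥ v := fun v => rfl
    have hcol : ∀ i j : Fin n, ∑ k, σ (X.val k i) * X.val k.rev j = if i.rev = j then 1 else 0 := by
      intro i j
      have h2 : (flip σ X.val * X.val) i.rev j = (1 : Matrix (Fin n) (Fin n) F) i.rev j := by rw [hX]
      rw [Matrix.mul_apply, Matrix.one_apply] at h2
      rw [← h2, ← Equiv.sum_comp (Fin.revPerm (n := n))]
      refine Finset.sum_congr rfl fun k _ => ?_
      rw [flip_apply, Fin.revPerm_apply, Fin.rev_rev, Fin.rev_rev]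
    simp only [PSU.revB_apply, hL, Matrix.mulVec, dotProduct, map_sum, map_mul, Finset.sum_mul, Finset.mul_sum]
    rw [Finset.sum_congr rfl (fun k _ => Finset.sum_comm), Finset.sum_comm]
    refine Finset.sum_congr rfl fun i _ => ?_
    rw [Finset.sum_comm]
    rw [Finset.sum_eq_single i.rev]
    · rw [show σ (x i) * y i.rev = σ (x i) * y i.rev * ∑ k, σ (X.val k i) * X.val k.rev i.rev by
        rw [hcol, if_pos rfl, mul_one], Finset.mul_sum]
      exact Finset.sum_congr rfl fun k _ => by ring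
    · intro j _ hj
      have h0 := hcol i j
      rw [if_neg (Ne.symm hj)] at h0
      calc _ = σ (x i) * y j * ∑ k, σ (X.val k i) * X.val k.rev j := by
            rw [Finset.mul_sum]; exact Finset.sum_congr rfl fun k _ => by ring
        _ = 0 := by rw [h0, mul_zero]
    · simp
  refine ⟨⟨L, hpres⟩, Units.ext (Matrix.ext fun a j => ?_)⟩
  rw [matGL_val]
  show (X.val *ᵥ (Pi.single j 1)) a = _
  rw [Matrix.mulVec_single_one]
  rfl

theorem tri_iff {g : PSU.U n σ} : PSU.Tri g ↔ matGL g ∈ Cfsg.upperTriangularGL n F :=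
  ⟨fun h => mem_upper.2 h, fun h => mem_upper.1 h⟩

theorem uni_iff {g : PSU.U n σ} : g ∈ PSU.uni n σ ↔ matGL g ∈ uu n F :=
  and_congr tri_iff Iff.rfl

/-- The diagonal elements. -/
noncomputable def torus : Subgroup (HSU (PSU.revB σ n)) :=
  (diagGL n F).comap (matGL.comp (HSU (PSU.revB σ n)).subtype)

variable [Finite F] [CharP F 2]

theorem exists_factor (g : HSU (PSU.revB σ n)) :
    ∃ u ∈ (PSU.uni n σ).subgroupOf (HSU (PSU.revB σ n)), ∃ m : HSU (PSU.revB σ n),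
      ∃ v ∈ (PSU.uni n σ).subgroupOf (HSU (PSU.revB σ n)), g = u * m * v ∧
        ∀ t ∈ torus, m⁻¹ * t * m ∈ torus := by
  obtain ⟨π, u, hu, t, ht, v, hv, he, fu, fm, fv⟩ := tau_fixed_form σ (tau_matGL (g : PSU.U n σ))
  obtain ⟨u', hu'⟩ := exists_matGL fu
  obtain ⟨m', hm'⟩ := exists_matGL fm
  obtain ⟨v', hv'⟩ := exists_matGL fv
  have hu1 : u' ∈ PSU.uni n σ := uni_iff.2 (hu' ▸ hu)
  have hv1 : v' ∈ PSU.uni n σ := uni_iff.2 (hv' ▸ hv)
  have he' : (g : PSU.U n σ) = u' * m' * v' :=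
    matGL_injective (by rw [map_mul, map_mul, hu', hm', hv']; exact he)
  have hm1 : m' ∈ HSU (PSU.revB σ n) := by
    have := mul_mem (mul_mem (inv_mem (PSU.uni_le_HSU hu1)) g.2) (inv_mem (PSU.uni_le_HSU hv1))
    rw [he'] at this
    simpa [mul_assoc] using this
  refine ⟨⟨u', PSU.uni_le_HSU hu1⟩, hu1, ⟨m', hm1⟩, ⟨v', PSU.uni_le_HSU hv1⟩, hv1, Subtype.ext he',
    fun x hx => ?_⟩
  show matGL (m'⁻¹ * (x : PSU.U n σ) * m') ∈ diagGL n F
  rw [map_mul, map_mul, map_inv, hm',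
    show (wGL n F π * t)⁻¹ * matGL (x : PSU.U n σ) * (wGL n F π * t) =
      t⁻¹ * ((wGL n F π)⁻¹ * matGL (x : PSU.U n σ) * wGL n F π) * t by group]
  exact mul_mem (mul_mem (inv_mem ht) (conj_diag hx)) ht

theorem tri_split {g : HSU (PSU.revB σ n)} (hg : PSU.Tri (g : PSU.U n σ)) :
    ∃ u ∈ (PSU.uni n σ).subgroupOf (HSU (PSU.revB σ n)), ∃ t ∈ torus, g = u * t := by
  obtain ⟨t, ht, v, hv, he⟩ := exists_torus_split (tri_iff.1 hg)
  have hfix := tau_matGL (g : PSU.U n σ)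
  rw [he, map_mul] at hfix
  obtain ⟨ft, fv⟩ := torus_split_unique (tau_diag σ ht) ht (tau_uu σ hv) hv hfix
  obtain ⟨t', ht'⟩ := exists_matGL ft
  obtain ⟨v', hv'⟩ := exists_matGL fv
  have hv1 : v' ∈ PSU.uni n σ := uni_iff.2 (hv' ▸ hv)
  have he' : (g : PSU.U n σ) = t' * v' := matGL_injective (by rw [map_mul, ht', hv']; exact he)
  have ht1 : t' ∈ HSU (PSU.revB σ n) := by
    have := mul_mem g.2 (inv_mem (PSU.uni_le_HSU hv1))
    rwa [he', mul_inv_cancel_right] at this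
  have htri : PSU.Tri t' := tri_iff.2 (ht'.symm ▸ ht.1)
  refine ⟨⟨t' * v' * t'⁻¹, mul_mem (mul_mem ht1 (PSU.uni_le_HSU hv1)) (inv_mem ht1)⟩,
    PSU.conj_mem_uni htri hv1, ⟨t', ht1⟩, (show matGL t' ∈ diagGL n F from ht'.symm ▸ ht), Subtype.ext ?_⟩
  show (g : PSU.U n σ) = t' * v' * t'⁻¹ * t'
  rw [inv_mul_cancel_right, he']

/-- The unipotent group is the Sylow subgroup and overgroups are pronormal. -/
theorem pronormal_HSU (K : Subgroup (HSU (PSU.revB σ n))) (hK : ¬ 2 ∣ K.index) : Cfsg.IsPronormal K := by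
  haveI : Fact (Nat.Prime 2) := ⟨Nat.prime_two⟩
  haveI : Finite ((Fin n → F) ≃ₗ[F] (Fin n → F)) := Finite.of_injective _ DFunLike.coe_injective
  revert K hK
  set G := HSU (PSU.revB σ n) with hG
  intro K hK
  set U0 : Subgroup G := (PSU.uni n σ).subgroupOf G with hU0
  have hpU : IsPGroup 2 U0 :=
    IsPGroup.of_equiv (PSU.isPGroup_uni (p := 2)) (Subgroup.subgroupOfEquivOfLe PSU.uni_le_HSU).symm
  have htri : ∀ g ∈ Subgroup.normalizer (U0 : Set G), PSU.Tri (g : PSU.U n σ) := fun g hg =>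
    PSU.tri_of_normalizes
      (fun u hu => (Subgroup.mem_normalizer_iff.1 hg ⟨u, PSU.uni_le_HSU hu⟩).1 hu)
      (fun u hu => by
        have h := (Subgroup.mem_normalizer_iff.1 (inv_mem hg) ⟨u, PSU.uni_le_HSU hu⟩).1 hu
        rw [inv_inv] at h
        exact h)
  obtain ⟨Q, hUQ⟩ := hpU.exists_le_sylow
  have hQU : (Q : Subgroup G) = U0 := by
    by_contra hne
    have hlt : U0.subgroupOf (Q : Subgroup G) < ⊤ := lt_top_iff_ne_top.2 fun h =>
      hne (le_antisymm (Subgroup.subgroupOf_eq_top.1 h) hUQ)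
    haveI : Group.IsNilpotent (Q : Subgroup G) := Q.isPGroup'.isNilpotent
    obtain ⟨x, hxn, hxu⟩ := SetLike.exists_of_lt (Group.normalizerCondition_of_isNilpotent _ hlt)
    rw [← Subgroup.subgroupOf_normalizer_eq hUQ] at hxn
    obtain ⟨k, hk⟩ := Q.isPGroup' x
    have ht : PSU.Tri ((x : G) : PSU.U n σ) := htri _ hxn
    refine hxu ⟨ht, fun a => PSU.eq_one_of_pow (p := 2) (k := k) ?_⟩
    have hx2 : (((x : G) : PSU.U n σ)) ^ 2 ^ k = 1 :=
      congrArg (fun z : (Q : Subgroup G) => ((z : G) : PSU.U n σ)) hk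
    show PSU.ent ((x : G) : PSU.U n σ) a a ^ 2 ^ k = 1
    rw [← (ht.pow (2 ^ k)).2 a, hx2]
    simp [PSU.ent, PSU.act_one]
  obtain ⟨S, hS⟩ := Core.PronormalOver.exists_sylow_le_iff.2 hK
  obtain ⟨c, hc⟩ := MulAction.exists_smul_eq G S Q
  refine (Core.PronormalOver.pronormal_equiv_iff (MulAut.conj c) K).1 ?_
  set K' := K.map (MulAut.conj c).toMonoidHom with hK'
  have hQK : (Q : Subgroup G) ≤ K' := by rw [← hc]; exact Subgroup.map_mono hS
  have hN : ∀ g ∈ Subgroup.normalizer ((Q : Subgroup G) : Set G),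
      ∃ u ∈ (Q : Subgroup G), ∃ t ∈ (torus : Subgroup G), g = u * t := by
    rw [hQU]; exact fun g hg => tri_split (htri g hg)
  refine pronormal_of_reduce Q K' hQK fun g hg => ⟨1, one_mem _, ?_⟩
  obtain ⟨u, hu, t, ht, rfl⟩ := hN g hg
  have htN : t ∈ Subgroup.normalizer (K' : Set G) :=
    CfsgLib.SL2Char.mem_normalizer_of_conj_mem fun x hx =>
      conj_mem_of_bruhat Q torus
        (fun a ha b hb => Subtype.ext (matGL_injective (by
          rw [Subgroup.coe_mul, Subgroup.coe_mul, map_mul, map_mul]; exact diag_commute ha hb)))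
        (fun a ha y hy => by
          rw [hQU] at hy ⊢
          exact PSU.conj_mem_uni (tri_iff.2 ha.1) hy)
        (by rw [hQU]; exact exists_factor) hN hQK ht hx
  have hN' := mul_mem (Subgroup.le_normalizer (hQK hu)) htN
  rw [CfsgLib.Transfer.map_conj_eq_self_iff.2 hN']
  ext y; simp

end CfsgLib.HallGen.Pronormal.Unit
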