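import Cfsg.Agent.Lib.HallGen.Pronormal.LinGroups
import Cfsg.Agent.Lib.HallGen.Pronormal.UnitEven
import Cfsg.Agent.Lib.Fusion.PSUMatrix

/-!
# Odd index subgroups of `PSUₙ(q)`, `n` a power of two
-/

set_option autoImplicit false
set_option linter.all false

namespace CfsgLib.HallGen.Pronormal.Unit

open Matrix CfsgLib.HallGen.Pronormal.Lin CfsgLib.Classical CfsgLib.Classical.Herm

variable {F : Type*} [Field F]

/-- The unitary group of the standard form. -/
def herm (ι : Type*) [Fintype ι] [DecidableEq ι] (s : F →+* F) : Subgroup (GL ι F) where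
  carrier := {g | g.valᵀ * g.val.map s = 1}
  one_mem' := by
    show ((1 : GL ι F).val)ᵀ * (1 : GL ι F).val.map s = 1
    rw [Units.val_one, Matrix.transpose_one, Matrix.map_one _ (map_zero s) (map_one s), one_mul]
  mul_mem' := fun {a b} (ha : a.valᵀ * a.val.map s = 1) (hb : b.valᵀ * b.val.map s = 1) => by
    show (a * b).valᵀ * (a * b).val.map s = 1
    rw [Units.val_mul, Matrix.transpose_mul, Matrix.map_mul, Matrix.mul_assoc,
      ← Matrix.mul_assoc a.valᵀ, ha, Matrix.one_mul, hb]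
  inv_mem' := fun {a} (ha : a.valᵀ * a.val.map s = 1) => by
    show (a⁻¹).valᵀ * (a⁻¹).val.map s = 1
    have e1 : (a⁻¹).valᵀ * a.valᵀ = 1 := by rw [← Matrix.transpose_mul, Units.mul_inv, Matrix.transpose_one]
    have e2 : a.val.map s * (a⁻¹).val.map s = 1 := by
      rw [← Matrix.map_mul, Units.mul_inv, Matrix.map_one _ (map_zero s) (map_one s)]
    calc _ = (a⁻¹).valᵀ * (a.valᵀ * a.val.map s) * (a⁻¹).val.map s := by rw [ha, Matrix.mul_one]
      _ = ((a⁻¹).valᵀ * a.valᵀ) * (a.val.map s * (a⁻¹).val.map s) := by simp only [Matrix.mul_assoc]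
      _ = 1 := by rw [e1, e2, Matrix.one_mul]

theorem mem_herm {ι : Type*} [Fintype ι] [DecidableEq ι] {s : F →+* F} {g : GL ι F} :
    g ∈ herm ι s ↔ g.valᵀ * g.val.map s = 1 := Iff.rfl

theorem sw_mem_herm (s : F →+* F) : sw ∈ herm (Fin 2) s := by
  rw [mem_herm, sw_val]
  ext i j; fin_cases i <;> fin_cases j <;> simp [Matrix.mul_apply, Fin.sum_univ_two]

theorem dia_mem_herm (s : F →+* F) (a b : Fˣ) (ha : (a : F) * s a = 1) (hb : (b : F) * s b = 1) :
    dia (a, b) ∈ herm (Fin 2) s := by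
  rw [mem_herm, dia_val]
  ext i j; fin_cases i <;> fin_cases j <;> simp [Matrix.mul_apply, Fin.sum_univ_two, ha, hb]

variable [Fintype F] {q : ℕ}

attribute [-simp] powHom_apply

theorem two_ne_sq (hF : Fintype.card F = q ^ 2) (hq : Odd q) : (2 : F) ≠ 0 :=
  two_ne (by rw [hF]; exact hq.pow)

theorem exists_level_herm_two (hF : Fintype.card F = q ^ 2) (hq : Odd q) :
    Nonempty (Level (herm (Fin 2) (powHom hF))) := by
  have h2 := two_ne_sq hF hq
  have hmod := Nat.odd_iff.1 hq
  have hq2 := two_le_of_card_sq hF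
  have hF4 : Fintype.card F % 4 = 1 := by
    rw [hF, Nat.pow_mod]
    rcases (by omega : q % 4 = 1 ∨ q % 4 = 3) with h | h <;> rw [h] <;> rfl
  obtain ⟨i, hi, hi2⟩ := exists_i hF4
  have hiv : (i : F) * i = -1 := by simpa using congrArg Units.val hi
  rcases (by omega : q % 4 = 1 ∨ q % 4 = 3) with h4 | h4
  · -- hyperbolic basis
    have hiq : powHom hF (i : F) = i := by
      rw [powHom_apply, show q = 2 * (q / 2) + 1 by omega, pow_add, pow_mul, pow_two, hiv, pow_one,
        Even.neg_one_pow (Nat.even_iff.2 (by omega)), one_mul]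
    obtain ⟨u, hu, hul, hun⟩ := exists_two_gen (K := F) (q + 1) (q - 1)
      (by rw [hF, ← Nat.sq_sub_sq, one_pow]) (by omega) (by omega) (by omega)
    have huq : u ^ q = -u := by
      rw [show q = (q - 1) + 1 by omega, pow_succ, hul, neg_one_mul]
    have huv : (u : F) * powHom hF ((-u)⁻¹ : Fˣ) = 1 := by
      rw [powHom_apply, ← Units.val_pow_eq_pow_val, inv_pow, Odd.neg_pow hq, huq, neg_neg, ← Units.val_mul,
        mul_inv_cancel, Units.val_one]
    have hcov : ∀ a b : Fˣ, (a : F) * powHom hF b = 1 →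
        dia (a, b) ∈ (herm (Fin 2) (powHom hF)).map (embed (RingHom.id F) (hyp i h2)) := by
      intro a b hab
      have hinv : ∀ x, powHom hF (powHom hF x) = x := (powHom_isInvol hF).invol
      have hba : (b : F) * powHom hF a = 1 := by
        have := congrArg (powHom hF) hab
        rw [map_mul, hinv, map_one] at this
        rwa [mul_comm] at this
      refine dia_mem_embed (RingHom.id F) i hi h2 a b (((a : F) + b) / 2) (-(i : F) * ((a : F) - b) / 2)
        ?_ ?_ fun g hg => ?_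
      · simp only [RingHom.id_apply]; field_simp; linear_combination ((b : F) - a) * hiv
      · simp only [RingHom.id_apply]; field_simp; linear_combination ((a : F) - b) * hiv
      · rw [mem_herm, hg]
        ext x y
        fin_cases x <;> fin_cases y <;>
          simp [Matrix.mul_apply, Fin.sum_univ_two, map_div₀, map_ofNat, hiq] <;> field_simp <;>
          first
          | linear_combination ((a : F) - b) * (powHom hF a - powHom hF b) * hiv + 2 * hab + 2 * hba
          | linear_combination 2 * (i : F) * (hab - hba)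
          | linear_combination 2 * (i : F) * (hba - hab)
    let δ : GL (Fin 2) F := GeneralLinearGroup.mkOfDetNeZero !![1, 0; 0, -1] (by simp [Matrix.det_fin_two])
    have hδ : δ ∈ herm (Fin 2) (powHom hF) := by
      rw [mem_herm, show δ.val = !![1, 0; 0, -1] from rfl]
      ext x y; fin_cases x <;> fin_cases y <;> simp [Matrix.mul_apply, Fin.sum_univ_two]
    have hv2 : (-u)⁻¹ ∈ twoPart F := inv_mem (by
      rw [← neg_one_mul]; exact mul_mem neg_one_mem_twoPart hu)
    refine ⟨(levelMono (sw_mem_embed (RingHom.id F) i h2 hδ rfl) u (-u)⁻¹ hu hv2 (hcov _ _ huv) ?_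
      u (-u)⁻¹ hu hv2 ?_ (hcov _ _ huv)).comap (RingHom.id F) (hyp i h2)⟩
    · intro h
      apply hun
      have h4' : u ^ 4 = 1 := by
        rw [inv_pow, neg_sq] at h
        rw [show 4 = 2 + 2 from rfl, pow_add]
        nth_rewrite 1 [h]
        exact inv_mul_cancel _
      rw [show 2 * (q + 1) = 4 * ((q + 1) / 2) by omega, pow_mul, h4', one_pow]
    · rw [inv_neg, mul_neg, mul_inv_cancel]
  · refine ⟨levelMono (sw_mem_herm _) i 1 hi2 (one_mem _) (dia_mem_herm _ i 1 ?_ (by simp)) ?_ (-1) 1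
      neg_one_mem_twoPart (one_mem _) (mul_one _) (dia_mem_herm _ (-1) 1 (by simp) (by simp))⟩
    · rw [powHom_apply, ← pow_succ', show q + 1 = 2 * ((q + 1) / 2) by omega, pow_mul, pow_two, hiv,
        Even.neg_one_pow (Nat.even_iff.2 (by omega))]
    · rw [one_pow, pow_two, hi]
      exact neg_one_ne_one_units h2

theorem doubles_herm (hF : Fintype.card F = q ^ 2) (hq : Odd q) (k : ℕ) :
    Doubles (herm (Idx k) (powHom hF)) (herm (Idx k ⊕ Idx k) (powHom hF)) where
  bd_iff a b := by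
    rw [mem_herm, mem_herm, mem_herm, bd_val, Matrix.fromBlocks_transpose, Matrix.fromBlocks_map,
      Matrix.fromBlocks_multiply, ← Matrix.fromBlocks_one, Matrix.fromBlocks_inj]
    simp
  tt_mem := by
    rw [mem_herm, tt_val, Matrix.fromBlocks_transpose, Matrix.fromBlocks_map, Matrix.fromBlocks_multiply,
      ← Matrix.fromBlocks_one, Matrix.fromBlocks_inj]
    simp [Matrix.map_one, Matrix.map_neg]
  neg_mem := by
    rw [mem_herm, val_sc_neg_one]
    simp [Matrix.map_one, Matrix.map_neg]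
  even := even_idx k
  two := two_ne_sq hF hq

theorem exists_level_herm (hF : Fintype.card F = q ^ 2) (hq : Odd q) :
    ∀ k, Nonempty (Level (herm (Idx k) (powHom hF)))
  | 0 => exists_level_herm_two hF hq
  | k + 1 => by
    obtain ⟨L⟩ := exists_level_herm hF hq k
    exact ⟨L.double (doubles_herm hF hq k)⟩

theorem mem_SU_iff (hF : Fintype.card F = q ^ 2) {n : ℕ} (g : SpecialLinearGroup (Fin n) F) :
    g ∈ Cfsg.SU n F q ↔ g.valᵀ * g.val.map (powHom hF) = 1 := by
  have key : ∀ u v : Fin n → F, Cfsg.hermForm n F q (g.val *ᵥ u) (g.val *ᵥ v) =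
      u ⬝ᵥ ((g.valᵀ * g.val.map (powHom hF)) *ᵥ (fun i => powHom hF (v i))) := by
    intro u v
    have h1 : ∀ i, (g.val *ᵥ v) i ^ q = (g.val.map (powHom hF) *ᵥ fun i => powHom hF (v i)) i := fun i => by
      rw [← powHom_apply hF]
      exact RingHom.map_mulVec (powHom hF) g.val v i
    unfold Cfsg.hermForm
    simp only [h1]
    show (g.val *ᵥ u) ⬝ᵥ (g.val.map (powHom hF) *ᵥ fun i => powHom hF (v i)) = _
    rw [← Matrix.mulVec_mulVec, Matrix.dotProduct_mulVec u g.valᵀ, Matrix.vecMul_transpose]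
  have keyone : ∀ u v : Fin n → F, Cfsg.hermForm n F q u v = u ⬝ᵥ (fun i => powHom hF (v i)) := by
    intro u v
    unfold Cfsg.hermForm
    simp only [← powHom_apply hF]
    rfl
  constructor
  · intro h
    ext a b
    have h1 : Cfsg.hermForm n F q (g.val *ᵥ Pi.single a 1) (g.val *ᵥ Pi.single b 1) =
        Cfsg.hermForm n F q (Pi.single a 1) (Pi.single b 1) := h _ _
    have hs : (fun i => powHom hF ((Pi.single b (1 : F) : Fin n → F) i)) = Pi.single b 1 := funext fun i => by
      by_cases hib : i = b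
      · subst hib; simp
      · simp [hib]
    rw [key, keyone, hs, Matrix.mulVec_single_one] at h1
    simp only [single_dotProduct, one_mul] at h1
    rw [Matrix.one_apply]
    simpa [Pi.single_apply] using h1
  · intro h u v
    show Cfsg.hermForm n F q (g.val *ᵥ u) (g.val *ᵥ v) = _
    rw [key, h, Matrix.one_mulVec, keyone]

/-- Odd index subgroups of `SUₙ(q)`, `n = 2ʷ ≥ 4`, `q` odd. -/
theorem good_SU (hF : Fintype.card F = q ^ 2) (hq : Odd q) {w : ℕ} (hw : 2 ≤ w) :
    Good (Cfsg.SU (2 ^ w) F q) := by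
  classical
  obtain ⟨k, rfl⟩ : ∃ k, w = k + 2 := ⟨w - 2, by omega⟩
  have hc : Fintype.card (Idx k ⊕ Idx k) = 2 ^ (k + 2) := card_idx (k + 1)
  let e : Fin (2 ^ (k + 2)) ≃ Idx k ⊕ Idx k := (Fintype.equivFinOfCardEq hc).symm
  let R := Units.mapEquiv (Matrix.reindexAlgEquiv F F e).toMulEquiv
  let ψ : Cfsg.SU (2 ^ (k + 2)) F q →* GL (Idx k ⊕ Idx k) F :=
    (R.toMonoidHom.comp SpecialLinearGroup.toGL).comp (Cfsg.SU _ F q).subtype
  have hψ : Function.Injective ψ :=
    (R.injective.comp SpecialLinearGroup.toGL_injective).comp Subtype.val_injective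
  have hdet : ∀ g, GeneralLinearGroup.det (R g) = GeneralLinearGroup.det g :=
    fun g => Units.ext (Matrix.det_reindexAlgEquiv F F e g.val)
  have hherm : ∀ g : GL (Fin (2 ^ (k + 2))) F, R g ∈ herm (Idx k ⊕ Idx k) (powHom hF) ↔
      g.valᵀ * g.val.map (powHom hF) = 1 := by
    intro g
    have h1 : (R g).valᵀ * (R g).val.map (powHom hF) =
        Matrix.reindexAlgEquiv F F e (g.valᵀ * g.val.map (powHom hF)) := by
      rw [map_mul]; rfl
    rw [mem_herm, h1, map_eq_one_iff _ (Matrix.reindexAlgEquiv F F e).injective]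
  obtain ⟨L⟩ := exists_level_herm hF hq k
  refine good_of_double L (doubles_herm hF hq k) hc ψ hψ fun g => ?_
  constructor
  · rintro ⟨x, rfl⟩
    exact ⟨(hherm _).2 ((mem_SU_iff hF _).1 x.2), (hdet _).trans (Units.ext x.1.2)⟩
  · rintro ⟨hg, hd⟩
    obtain ⟨g, rfl⟩ := R.surjective g
    rw [hdet] at hd
    exact ⟨⟨⟨g.val, congrArg Units.val hd⟩, (mem_SU_iff hF _).2 ((hherm g).1 hg)⟩,
      congrArg R (Units.ext rfl)⟩

/-- Odd index subgroups of `PSUₙ(q)`, `n` a power of two, are pronormal. -/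
theorem pronormal_PSU (hF : Fintype.card F = q ^ 2) {w : ℕ} (hw : 2 ≤ w)
    (H : Subgroup (Cfsg.PSU (2 ^ w) F q)) (hH : ¬ 2 ∣ H.index) : Cfsg.IsPronormal H := by
  classical
  haveI : Fact (Nat.Prime 2) := ⟨Nat.prime_two⟩
  have h4 : 4 ≤ 2 ^ w := by
    calc 4 = 2 ^ 2 := rfl
      _ ≤ 2 ^ w := Nat.pow_le_pow_right two_pos hw
  rcases Nat.even_or_odd q with heven | hodd
  · obtain ⟨p, hchar⟩ := CharP.exists F
    haveI := hchar
    obtain ⟨d, hp, hd⟩ := FiniteField.card F p
    obtain rfl : p = 2 := hp.eq_two_or_odd'.resolve_right fun hpo => by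
      rw [hF] at hd
      have h1 : Even (p ^ (d : ℕ)) := hd ▸ (Nat.even_pow.2 ⟨heven, two_ne_zero⟩)
      exact (Nat.not_even_iff_odd.2 hpo.pow) h1
    haveI : Fact (IsInvol (powHom hF)) := ⟨powHom_isInvol hF⟩
    obtain ⟨e, he⟩ := IsHerm.exists_isometry_of_finrank_eq (hermStd_isHerm (n := 2 ^ w) hF)
      (Fusion.PSU.isHerm (n := 2 ^ w) (σ := powHom hF)) rfl
    let E : HU (hermStd (2 ^ w) hF) ≃* HU (Fusion.PSU.revB (powHom hF) (2 ^ w)) :=
      isoCongrEq (f := fun u v => hermStd (2 ^ w) hF u v)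
        (f' := fun u v => Fusion.PSU.revB (powHom hF) (2 ^ w) u v) e he
    have hE : (HSU (hermStd (2 ^ w) hF)).map E.toMonoidHom = HSU (Fusion.PSU.revB (powHom hF) (2 ^ w)) := by
      ext g
      rw [Subgroup.mem_map_equiv, MonoidHom.mem_ker, MonoidHom.mem_ker]
      obtain ⟨h, rfl⟩ := E.surjective g
      rw [E.symm_apply_apply]
      have : HU.det (Fusion.PSU.revB (powHom hF) (2 ^ w)) (E h) = HU.det (hermStd (2 ^ w) hF) h := by
        show LinearEquiv.det (e.symm.trans ((h : (Fin (2 ^ w) → F) ≃ₗ[F] (Fin (2 ^ w) → F)).trans e)) =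
          LinearEquiv.det (h : (Fin (2 ^ w) → F) ≃ₗ[F] (Fin (2 ^ w) → F))
        exact LinearEquiv.det_conj _ _
      rw [this]
    let ε : Cfsg.SU (2 ^ w) F q ≃* HSU (Fusion.PSU.revB (powHom hF) (2 ^ w)) :=
      (suEquiv (2 ^ w) hF).trans ((E.subgroupMap (HSU (hermStd (2 ^ w) hF))).trans (MulEquiv.subgroupCongr hE))
    let π : HSU (Fusion.PSU.revB (powHom hF) (2 ^ w)) →* Cfsg.PSU (2 ^ w) F q :=
      (QuotientGroup.mk' _).comp ε.symm.toMonoidHom
    have hπ : Function.Surjective π := (QuotientGroup.mk'_surjective _).comp ε.symm.surjective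
    rw [← Subgroup.map_comap_eq_self_of_surjective hπ H]
    refine Core.PronormalOver.pronormal_map _ hπ (pronormal_HSU _ ?_)
    rw [Subgroup.index_comap_of_surjective _ hπ]
    exact hH
  · refine ((good_SU hF hodd hw).map (QuotientGroup.mk' _) (QuotientGroup.mk'_surjective _) ?_).pron H hH
    rw [QuotientGroup.ker_mk']
    refine IsPGroup.to_le ?_ le_rfl
    obtain ⟨j, -, hj⟩ := (Nat.dvd_prime_pow Nat.prime_two).1
      (card_center_SU hF (2 ^ w) (by omega) ▸ Nat.gcd_dvd_left (2 ^ w) (q + 1) :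
        Nat.card (Subgroup.center (Cfsg.SU (2 ^ w) F q)) ∣ 2 ^ w)
    exact IsPGroup.of_card hj

end CfsgLib.HallGen.Pronormal.Unit
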